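import Cfsg.Agent.Lib.Struct77.Ito.Bounds
import Cfsg.Agent.Lib.ClassSize.EqualPartition

/-!
Both class sizes occur at two primes or more.
-/

set_option autoImplicit false

namespace CfsgLib.Ito

open Subgroup CfsgLib.Structure81.CoprimeClass

universe u

variable {G : Type u} [Group G] [Finite G] {a b : ℕ}

/-- An element with a power in the center, all primary parts having order prime to the exponent. -/
theorem mem_center_of_pow {m : G} {k : ℕ} (h : m ^ k ∈ center G)
    (hp : ∀ p e : ℕ, p.Prime → Pel p (m ^ e) → m ^ e ∉ center G → ¬ p ∣ k) : m ∈ center G := by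
  refine mem_of_parts fun e p j hpr hj => ?_
  by_contra hc
  have hpk := hp p e hpr ⟨j, hj ▸ pow_orderOf_eq_one _⟩ hc
  obtain ⟨i, hi⟩ := exists_pow_eq_self_of_coprime (x := m ^ e) (n := k)
    (by rw [hj]; exact ((hpr.coprime_iff_not_dvd.2 hpk).pow_left j).symm)
  refine hc (hi ▸ pow_mem ?_ i)
  rw [← pow_mul, mul_comm, pow_mul]
  exact pow_mem h e

theorem cen_mul_center (k : G) {z : G} (hz : z ∈ center G) : cen (k * z) = cen k := by
  ext y
  rw [mem_cen, mem_cen]
  constructor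
  · intro h
    have h' := h.mul_right (show Commute y z⁻¹ from mem_center_iff.1 (inv_mem hz) y)
    rwa [mul_inv_cancel_right] at h'
  · exact fun h => h.mul_right (mem_center_iff.1 hz y)

namespace FHyp

variable (D : FHyp G a b)
include D

theorem mem_members_center {x m : G} (hx : x ∉ center G) (hm : m ∈ cen x) {k : ℕ}
    (hk : ∀ p, Occ G (idx x) p → ¬ p ∣ k) (h : m ^ k ∈ center G) : m ∈ center G :=
  mem_center_of_pow h fun p e hp he hec =>
    hk p (D.occ_of_mem hp hx (pow_mem hm e) he hec)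

theorem idx_part {y : G} {e : ℕ} (h : y ^ e ∉ center G) : idx (y ^ e) = idx y := by
  rw [idx, D.same_part h]

/-- The complement of a self-normalizing commutative Hall centralizer is a subgroup. -/
theorem exists_type_subgroup (hab : Ab G a) (hSF : SelfFull G a) :
    ∃ K : Subgroup G, (∀ y, y ∈ K ↔ y ∈ center G ∨ (y ∉ center G ∧ idx y = b)) ∧
      ¬ Group.IsSolvable K := by
  obtain ⟨hfull, M₀, hN⟩ := hSF
  obtain ⟨x₀, hx₀, hx₀a, hM₀⟩ := M₀.2
  have hspec := D.member_spec hab M₀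
  have hex : Nonempty (Members G a) := ⟨M₀⟩
  let _ : CommGroup M₀.1 :=
    { (inferInstance : Group M₀.1) with
      mul_comm := fun x y => Subtype.ext (hspec.2.1 x x.2 y y.2).eq }
  let ϕ : M₀.1 →* M₀.1 ⧸ (center G).subgroupOf M₀.1 := QuotientGroup.mk' _
  let V := MonoidHom.transfer ϕ
  have key : ∀ g ∈ M₀.1, ∀ (k : ℕ) (g₀ : G), g₀⁻¹ * g ^ k * g₀ ∈ M₀.1 →
      g₀⁻¹ * g ^ k * g₀ = g ^ k := by
    intro g hg k g₀ h
    by_cases hc : g ^ k ∈ center G
    · rw [mul_assoc, ← mem_center_iff.1 hc g₀, inv_mul_cancel_left]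
    · have hn : g₀⁻¹ ∈ M₀.1 := hN.le (D.mem_normalizer_member hab (pow_mem hg k) hc
        (by rwa [inv_inv]))
      have h1 := (hspec.2.1 _ (pow_mem hg k) g₀ (inv_mem_iff.1 hn)).eq
      rw [mul_assoc, h1, inv_mul_cancel_left]
  have hidx : M₀.1.index = a := by rw [← hM₀]; exact hx₀a
  have hV : ∀ g (hg : g ∈ M₀.1), V g = ϕ ⟨g ^ a, pow_mem hg a⟩ := fun g hg => by
    show MonoidHom.transfer ϕ g = _
    rw [MonoidHom.transfer_eq_pow ϕ g (key g hg)]
    simp only [hidx]
  have hϕ : ∀ m : M₀.1, ϕ m = 1 ↔ (m : G) ∈ center G := fun m =>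
    (QuotientGroup.eq_one_iff m).trans mem_subgroupOf
  have hKZ : ∀ z ∈ center G, z ∈ V.ker := fun z hz => by
    rw [MonoidHom.mem_ker, hV z (hspec.1 hz), hϕ]
    exact pow_mem hz a
  obtain ⟨s, hs⟩ := D.occ_exists
  have hmem : ∀ y, y ∈ V.ker ↔ y ∈ center G ∨ (y ∉ center G ∧ idx y = b) := by
    intro y
    constructor
    · intro hy
      by_cases hyc : y ∈ center G
      · exact Or.inl hyc
      refine Or.inr ⟨hyc, (D.sizes y hyc).resolve_left fun hya => ?_⟩
      obtain ⟨g, hg, hgc⟩ := D.conj_member hab hs (hfull s hs) M₀ ⟨hyc, hya⟩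
      have h1 : V (g * y * g⁻¹) = 1 := by
        rw [map_mul, map_mul, MonoidHom.mem_ker.1 hy, mul_one, map_inv, mul_inv_cancel]
      rw [hV _ hg, hϕ] at h1
      refine hgc (D.mem_members_center hx₀ (hM₀ ▸ hg) ?_ h1)
      rw [hx₀a]
      exact hfull
    · rintro (hy | ⟨hyc, hyb⟩)
      · exact hKZ y hy
      refine mem_of_parts fun e p j hp hj => ?_
      by_cases hec : y ^ e ∈ center G
      · exact hKZ _ hec
      have hpe : Pel p (y ^ e) := ⟨j, hj ▸ pow_orderOf_eq_one _⟩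
      have hob : Occ G b p := ⟨hp, _, hpe, hec, (D.idx_part hec).trans hyb⟩
      obtain ⟨m, hm⟩ : ∃ m : M₀.1, ϕ m = V (y ^ e) := QuotientGroup.mk'_surjective _ _
      rw [MonoidHom.mem_ker, ← hm, hϕ]
      have h1 : ϕ (m ^ p ^ j) = 1 := by
        rw [map_pow, hm, ← map_pow, ← hj, pow_orderOf_eq_one, map_one]
      rw [hϕ, SubgroupClass.coe_pow] at h1
      refine D.mem_members_center hx₀ (hM₀.ge m.2) (fun q hq hd => ?_) h1
      rw [hx₀a] at hq
      have hqp : q = p := (Nat.prime_dvd_prime_iff_eq hq.1 hp).1 (hq.1.dvd_of_dvd_pow hd)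
      exact D.not_occ_other hab hex (hfull q hq) D.ne.symm (by rw [hqp]; exact hob)
  refine ⟨V.ker, hmem, fun hsol => D.ns ?_⟩
  have : Group.IsSolvable (M₀.1 ⧸ (center G).subgroupOf M₀.1) :=
    Group.isSolvable_of_comm fun x y => mul_comm x y
  exact Group.isSolvable_of_ker_le_range V.ker.subtype V (by rw [range_subtype])

open scoped Classical in
theorem self_full_false {r₁ r₂ : ℕ} (hr₁ : Occ G b r₁) (hr₂ : Occ G b r₂) (hr : r₁ ≠ r₂)
    (hab : Ab G a) (hSF : SelfFull G a) : False := by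
  obtain ⟨K, hK, hns⟩ := D.exists_type_subgroup hab hSF
  have hbb := D.symm.abelian hr₁ hr₂ hr
  set Z := (center G).subgroupOf K with hZ
  have hZn : Z.Normal := ⟨fun z hz g => mem_subgroupOf.2 (by
    show (g : G) * (z : G) * (g : G)⁻¹ ∈ center G
    rwa [mem_center_iff.1 (mem_subgroupOf.1 hz) g, mul_inv_cancel_right])⟩
  let π : K →* K ⧸ Z := QuotientGroup.mk' Z
  have hπ : ∀ k : K, π k = 1 ↔ (k : G) ∈ center G := fun k =>
    (QuotientGroup.eq_one_iff k).trans mem_subgroupOf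
  have hidx : ∀ k : K, (k : G) ∉ center G → idx (k : G) = b := fun k hk =>
    (((hK k).1 k.2).resolve_left hk).2
  have hcK : ∀ k : K, (k : G) ∉ center G → cen (k : G) ≤ K := fun k hk y hy => (hK y).2 <| by
    by_cases hyc : y ∈ center G
    · exact Or.inl hyc
    · exact Or.inr ⟨hyc, D.symm.idx_of_mem hbb hk (hidx k hk) hy hyc⟩
  let A : K ⧸ Z → Subgroup (K ⧸ Z) := fun h =>
    if h = 1 then ⊤ else ((cen ((Quotient.out h : K) : G)).subgroupOf K).map π
  have hA : ∀ k : K, (k : G) ∉ center G → A (π k) = ((cen (k : G)).subgroupOf K).map π := by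
    intro k hk
    show (if π k = 1 then ⊤ else _) = _
    rw [if_neg fun h => hk ((hπ k).1 h)]
    obtain ⟨z, hz⟩ := QuotientGroup.mk_out_eq_mul Z k
    rw [show (Quotient.out (π k) : K) = k * z from hz, Subgroup.coe_mul,
      cen_mul_center (k : G) (mem_subgroupOf.1 z.2)]
  have hrep : ∀ h : K ⧸ Z, h ≠ 1 → ∃ k : K, π k = h ∧ (k : G) ∉ center G := by
    intro h hh
    obtain ⟨k, rfl⟩ := QuotientGroup.mk'_surjective Z h
    exact ⟨k, rfl, fun hc => hh ((hπ k).2 hc)⟩
  have hrel : ∀ k : K, (k : G) ∉ center G →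
      Nat.card Z * Nat.card (A (π k)) = Nat.card G / b := by
    intro k hk
    have hZk : Z ≤ (cen (k : G)).subgroupOf K := fun z hz =>
      mem_subgroupOf.2 (center_le_cen _ (mem_subgroupOf.1 hz))
    have h1 := card_eq_mul_relIndex hZk
    have h2 : Z.relIndex ((cen (k : G)).subgroupOf K) = Nat.card (A (π k)) := by
      rw [hA k hk, ← relIndex_ker, QuotientGroup.ker_mk']
    rw [← h2, ← h1, Nat.card_congr (subgroupOfEquivOfLe (hcK k hk)).toEquiv, ← hidx k hk,
      ← (cen (k : G)).card_mul_index, idx,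
      Nat.mul_div_cancel _ (Nat.pos_of_ne_zero index_ne_zero_of_finite)]
  obtain ⟨u, hu, huc, hub⟩ := hr₁.2
  set k₀ : K := ⟨u, (hK u).2 (Or.inr ⟨huc, hub⟩)⟩
  have hcardA : ∀ h : K ⧸ Z, h ≠ 1 → Nat.card (A h) = Nat.card (A (π k₀)) := by
    intro h hh
    obtain ⟨k, rfl, hk⟩ := hrep h hh
    exact Nat.eq_of_mul_eq_mul_left Nat.card_pos ((hrel k hk).trans (hrel k₀ huc).symm)
  have hmem : ∀ h, h ∈ A h := by
    intro h
    by_cases hh : h = 1
    · show h ∈ (if h = 1 then ⊤ else _)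
      rw [if_pos hh]
      exact mem_top _
    obtain ⟨k, rfl, hk⟩ := hrep h hh
    rw [hA k hk]
    exact mem_map_of_mem π (mem_subgroupOf.2 (mem_cen_self _))
  obtain ⟨p, hp, hpg⟩ : ∃ p : ℕ, p.Prime ∧ IsPGroup p (K ⧸ Z) := by
    refine CfsgLib.EqualPartition.isPGroup_of_equal_abelian_partition A
      (Nat.card (A (π k₀))) hmem ?_ hcardA ?_ ?_ ?_
    · intro h hh x hx y hy
      obtain ⟨k, rfl, hk⟩ := hrep h hh
      rw [hA k hk] at hx hy
      obtain ⟨x, hx, rfl⟩ := hx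
      obtain ⟨y, hy, rfl⟩ := hy
      rw [← map_mul, ← map_mul, show x * y = y * x from Subtype.ext
        (hbb _ hk (hidx k hk) _ (mem_subgroupOf.1 hx) _ (mem_subgroupOf.1 hy)).eq]
    · intro h hh y hy hy1
      obtain ⟨k, rfl, hk⟩ := hrep h hh
      rw [hA k hk] at hy
      obtain ⟨w, hw, rfl⟩ := hy
      have hwc : (w : G) ∉ center G := fun hc => hy1 ((hπ w).2 hc)
      rw [hA k hk, hA w hwc, D.symm.cen_eq hbb hk (hidx k hk) (mem_subgroupOf.1 hw) hwc]
    · intro g x y hy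
      by_cases hx1 : x = 1
      · subst hx1
        rw [mul_one, mul_inv_cancel]
        show _ ∈ (if (1 : K ⧸ Z) = 1 then ⊤ else _)
        rw [if_pos rfl]
        exact mem_top _
      obtain ⟨k, rfl, hk⟩ := hrep x hx1
      obtain ⟨c, rfl⟩ := QuotientGroup.mk'_surjective Z g
      rw [hA k hk] at hy
      obtain ⟨w, hw, rfl⟩ := hy
      rw [show QuotientGroup.mk' Z c = π c from rfl, ← map_inv, ← map_mul, ← map_mul, ← map_mul,
        ← map_mul, hA (c * k * c⁻¹) (notMem_center_conj hk (c : G))]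
      refine mem_map_of_mem π (mem_subgroupOf.2 ?_)
      exact mem_cen.2 ((Commute.conj_iff (c : G)).2 (mem_cen.1 (mem_subgroupOf.1 hw)))
    · by_contra hge
      have htop : A (π k₀) = ⊤ := eq_top_of_le_card _ (not_lt.1 hge)
      rw [hA k₀ huc] at htop
      refine hns (Group.isSolvable_of_comm fun x y => Subtype.ext ?_)
      have hall : ∀ x : K, (x : G) ∈ cen u := by
        intro x
        have hx : π x ∈ ((cen (k₀ : G)).subgroupOf K).map π := htop ▸ mem_top _
        obtain ⟨w, hw, hwx⟩ := hx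
        have hz : (w⁻¹ * x : K) ∈ Z := QuotientGroup.eq.1 hwx
        have h1 := mul_mem (mem_subgroupOf.1 hw) (center_le_cen (k₀ : G) (mem_subgroupOf.1 hz))
        simpa using h1
      exact (hbb u huc hub _ (hall x) _ (hall y)).eq
  have hone : ∀ {r : ℕ}, Occ G b r → r = p := by
    intro r hr
    obtain ⟨v, hv, hvc, hvb⟩ := hr.2
    set k : K := ⟨v, (hK v).2 (Or.inr ⟨hvc, hvb⟩)⟩
    obtain ⟨i, hi⟩ := hv
    by_contra hrp
    refine hvc ((hπ k).1 (Pel.eq_one hr.1 hp hrp ⟨i, ?_⟩ (hpg (π k))))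
    rw [← map_pow, show k ^ r ^ i = 1 from Subtype.ext hi, map_one]
  exact hr ((hone hr₁).trans (hone hr₂).symm)

/-- Both class sizes at two primes or more. -/
theorem alpha {s₁ s₂ r₁ r₂ : ℕ} (hs₁ : Occ G a s₁) (hs₂ : Occ G a s₂) (hs : s₁ ≠ s₂)
    (hr₁ : Occ G b r₁) (hr₂ : Occ G b r₂) (hr : r₁ ≠ r₂) : False := by
  by_cases hA : SelfFull G a
  · exact D.self_full_false hr₁ hr₂ hr (D.abelian hs₁ hs₂ hs) hA
  by_cases hB : SelfFull G b
  · exact D.symm.self_full_false hs₁ hs₂ hs (D.symm.abelian hr₁ hr₂ hr) hB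
  have h1 := D.half_bound hs₁ hs₂ hs hA
  have h2 := D.symm.half_bound hr₁ hr₂ hr hB
  have h3 : (Set.univ : Set G) = (center G : Set G) ∪ (typeSet G a ∪ typeSet G b) := by
    refine (Set.eq_univ_of_forall fun x => ?_).symm
    by_cases hx : x ∈ center G
    · exact Or.inl hx
    · exact Or.inr ((D.sizes x hx).imp (fun h => ⟨hx, h⟩) fun h => ⟨hx, h⟩)
  have h4 : Nat.card G ≤ Nat.card (center G) + ((typeSet G a).ncard + (typeSet G b).ncard) := by
    rw [← Set.ncard_univ, h3]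
    refine (Set.ncard_union_le _ _).trans (Nat.add_le_add ?_ (Set.ncard_union_le _ _))
    exact (Nat.card_coe_set_eq _).ge
  have := Nat.card_pos (α := center G)
  omega

end FHyp

end CfsgLib.Ito
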