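import Cfsg.Agent.Lib.Struct77.Ito.PTwo

/-!
The last case is impossible.
-/

set_option autoImplicit false

namespace CfsgLib.Ito

open Subgroup CfsgLib.Structure81.CoprimeClass

universe u

variable {Q : Type u} [Group Q] [Finite Q] {l : ℕ} {Mem : Subgroup Q → Prop}

namespace PHyp

variable (D : PHyp Q l Mem)
include D

theorem false_of_full {G₁ : Subgroup Q} (hG₁ : G₁.Normal) {M : Subgroup Q} (hM : Mem M) {t : ℕ}
    [Fact t.Prime] (T : Sylow t Q) {v : Q} (hv : v ∈ M) (hv1 : v ≠ 1)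
    (hcomm : ∀ x ∈ (T : Subgroup Q), Commute v x) (hMG : M ≤ G₁) (hTG : (T : Subgroup Q) ≤ G₁)
    (hr : ∀ r : ℕ, r.Prime → r ≠ t → r ∣ Nat.card M → r ∣ M.index → ¬ r ∣ M.relIndex G₁) :
    False := by
  set a := (cen v).relIndex G₁ with ha
  have ha0 : a ≠ 0 := index_ne_zero_of_finite
  have hMc : M ≤ cen v ⊓ G₁ := le_inf (fun x hx => mem_cen.2 (D.comm M hM x hx v hv)) hMG
  have hTc : (T : Subgroup Q) ≤ cen v ⊓ G₁ := le_inf (fun x hx => mem_cen.2 (hcomm x hx).symm) hTG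
  have hainf : a = (cen v ⊓ G₁).relIndex G₁ := (inf_relIndex_right _ _).symm
  have hMa : a ∣ M.relIndex G₁ := hainf ▸ relIndex_dvd_of_le_left G₁ hMc
  have hTa : a ∣ (T : Subgroup Q).index := by
    refine (hainf ▸ relIndex_dvd_of_le_left G₁ hTc : a ∣ (T : Subgroup Q).relIndex G₁).trans ?_
    exact ⟨_, (relIndex_mul_index hTG).symm⟩
  have hMi : M.relIndex G₁ ∣ M.index := ⟨_, (relIndex_mul_index hMG).symm⟩
  have hprime : ∀ r : ℕ, r.Prime → r ∣ a → r = l := by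
    intro r hr' hra
    have hri : r ∣ M.index := (hra.trans hMa).trans hMi
    rcases D.prime_cases hM hr' (hri.trans (index_dvd_card M)) with h | h
    · exact h
    exfalso
    by_cases hrt : r = t
    · subst hrt
      exact T.not_dvd_index (hra.trans hTa)
    · exact hr r hr' hrt h hri (hra.trans hMa)
  refine D.false_of_class hG₁ (⟨v, hMG hv⟩ : G₁) (fun h => hv1 (congrArg Subtype.val h))
    (k := a.primeFactorsList.length) ?_
  rw [ncard_class_sub]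
  exact Nat.eq_prime_pow_of_unique_prime_dvd ha0 fun hd hdd => hprime _ hd hdd

theorem false : False := by
  obtain ⟨M₀, hM₀⟩ := D.exists_member
  obtain ⟨t₁, ht₁, ht₁d, ht₁i⟩ := D.nonfull M₀ hM₀
  by_cases hone : ∀ r : ℕ, r.Prime → r ∣ Nat.card M₀ → r ∣ M₀.index → r = t₁
  · have := Fact.mk ht₁
    obtain ⟨M, v, n, T, hM, hv, hv1, -, -, -, -, -, hcomm⟩ := D.exists_full_pair hM₀ ht₁d ht₁i
    refine D.false_of_full (G₁ := ⊤) inferInstance hM T hv hv1 hcomm le_top le_top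
      fun r hr hrt hrd hri => absurd (hone r hr ?_ ?_) hrt
    · rwa [D.card M₀ M hM₀ hM]
    · rwa [D.index_eq hM₀ hM]
  push Not at hone
  obtain ⟨r₁, hr₁, hr₁d, hr₁i, hne⟩ := hone
  obtain ⟨s, t, hs, hsd, hsi, ht, htd, hti, hst⟩ : ∃ s t : ℕ, s.Prime ∧ s ∣ Nat.card M₀ ∧
      s ∣ M₀.index ∧ t.Prime ∧ t ∣ Nat.card M₀ ∧ t ∣ M₀.index ∧ s < t := by
    rcases lt_or_gt_of_ne hne with h | h
    · exact ⟨r₁, t₁, hr₁, hr₁d, hr₁i, ht₁, ht₁d, ht₁i, h⟩
    · exact ⟨t₁, r₁, ht₁, ht₁d, ht₁i, hr₁, hr₁d, hr₁i, h⟩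
  by_cases hs2 : s = 2
  · subst hs2
    exact D.false_two hM₀ hsd hsi ht hst.ne' htd hti
  obtain ⟨G₁, hG₁, hidx, hle⟩ := D.exists_normal_index hM₀ hs hs2 hsd hsi ht htd hti hst
  have := Fact.mk ht
  obtain ⟨M, v, n, T, hM, hv, hv1, -, -, -, -, -, hcomm⟩ := D.exists_full_pair hM₀ htd hti
  have hTG : (T : Subgroup Q) ≤ G₁ := fun x hx => by
    have hx' : x ^ G₁.index ∈ G₁ := pow_index_mem G₁ x
    obtain ⟨k, hk⟩ := Pel.exists_orderOf ht (Pel.mem_of_isPGroup T.2 hx)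
    obtain ⟨i, hi⟩ := exists_pow_eq_self_of_coprime (x := x) (n := G₁.index) (by
      rw [hk, hidx]; exact ((Nat.coprime_primes hs ht).2 hst.ne).pow_right k)
    exact hi ▸ pow_mem hx' i
  refine D.false_of_full hG₁ hM T hv hv1 hcomm (hle M hM) hTG fun r hr hrt hrd hri hdvd => ?_
  rcases D.nonfull_cases hM₀ hs hsd hsi ht htd hti hst hr (D.card M₀ M hM₀ hM ▸ hrd)
    (D.index_eq hM₀ hM ▸ hri) with h | h
  · subst h
    have h1 := D.index_val hM hr hrd hri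
    have h0 : M.relIndex G₁ ≠ 0 := index_ne_zero_of_finite
    rw [← relIndex_mul_index (hle M hM), hidx, Nat.factorization_mul h0 hr.ne_zero,
      Finsupp.add_apply, hr.factorization_self] at h1
    have := hr.factorization_pos_of_dvd h0 hdvd
    omega
  · exact hrt h

end PHyp

end CfsgLib.Ito
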