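import Cfsg.Agent.Lib.Struct77.Ito.Beta1
import Cfsg.Agent.Lib.Struct77.Ito.PMain

/-!
One class size at a single prime, not occurring in the other size.
-/

set_option autoImplicit false

namespace CfsgLib.Ito

open Subgroup CfsgLib.Structure81.CoprimeClass

universe u

variable {G : Type u} [Group G] [Finite G] {a b : ℕ}

namespace FHyp

variable (D : FHyp G a b)
include D

theorem exists_pel_lift {r : ℕ} (hr : r.Prime) {y : G} (h : Pel r (QuotientGroup.mk y : G ⧸ center G)) :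
    ∃ e : ℕ, Pel r (y ^ e) ∧ (QuotientGroup.mk (y ^ e) : G ⧸ center G) = QuotientGroup.mk y := by
  have _hD := D
  obtain ⟨e, h1, h2⟩ := exists_pel_rep (center G) hr h
  exact ⟨e, h1, (QuotientGroup.eq.2 h2).symm⟩

theorem mem_map_member (hab : Ab G a) (M : Members G a) {y : G} :
    (QuotientGroup.mk y : G ⧸ center G) ∈ M.1.map (QuotientGroup.mk' (center G)) ↔ y ∈ M.1 := by
  constructor
  · rintro ⟨m, hm, he⟩
    have h1 := QuotientGroup.eq.1 (he : (QuotientGroup.mk m : G ⧸ center G) = QuotientGroup.mk y)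
    simpa using mul_mem hm ((D.member_spec hab M).1 h1)
  · exact fun h => ⟨y, h, rfl⟩

theorem card_map_member (hab : Ab G a) (M : Members G a) :
    Nat.card (center G) * Nat.card (M.1.map (QuotientGroup.mk' (center G))) = Nat.card G / a := by
  obtain ⟨x, -, hxa, hM⟩ := M.2
  rw [← relIndex_ker, QuotientGroup.ker_mk', ← card_eq_mul_relIndex (D.member_spec hab M).1,
    ← hM, ← hxa, ← (cen x).card_mul_index, idx,
    Nat.mul_div_cancel _ (Nat.pos_of_ne_zero index_ne_zero_of_finite)]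

theorem phyp {l s₁ s₂ : ℕ} (hl : Occ G b l) (hb : ∀ r, Occ G b r → r = l) (hla : ¬ Occ G a l)
    (hs₁ : Occ G a s₁) (hs₂ : Occ G a s₂) (hs : s₁ ≠ s₂) :
    PHyp (G ⧸ center G) l fun K => ∃ M : Members G a, K = M.1.map (QuotientGroup.mk' (center G)) := by
  have hab := D.abelian hs₁ hs₂ hs
  refine ⟨fun h => D.ns ?_, hl.1, ?_, ?_, ?_, ?_, ?_, ?_, ?_, ?_, ?_, ?_⟩
  · have : Group.IsSolvable (center G) := Group.isSolvable_of_comm fun p q =>
      Subtype.ext (mem_center_iff.1 q.2 p)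
    exact Group.isSolvable_of_ker_le_range (center G).subtype (QuotientGroup.mk' (center G))
      (by rw [QuotientGroup.ker_mk', range_subtype])
  · rintro _ ⟨M, rfl⟩ _ ⟨p, hp, rfl⟩ _ ⟨q, hq, rfl⟩
    exact ((D.member_spec hab M).2.1 p hp q hq).map (QuotientGroup.mk' (center G))
  · -- cover
    intro x hx hxl
    obtain ⟨y, rfl⟩ := QuotientGroup.mk'_surjective _ x
    have hy : y ∉ center G := fun h => hx ((QuotientGroup.eq_one_iff y).2 h)
    rcases D.sizes y hy with hya | hyb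
    · exact ⟨_, ⟨⟨cen y, y, hy, hya, rfl⟩, rfl⟩, mem_map_of_mem _ (mem_cen_self y)⟩
    refine absurd ?_ hxl
    obtain ⟨v, hv⟩ : ∃ v, v = (orderOf y).factorization l := ⟨_, rfl⟩
    refine ⟨v, ?_⟩
    rw [← map_pow]
    refine (QuotientGroup.eq_one_iff _).2 (mem_of_parts fun e r j hr hj => ?_)
    by_contra hec
    rw [← pow_mul] at hec hj
    have hrl : r = l := hb r ⟨hr, _, ⟨j, hj ▸ pow_orderOf_eq_one _⟩, hec, (D.idx_part hec).trans hyb⟩
    subst hrl
    have hcy : orderOf (y ^ (r ^ v * e)) ∣ orderOf y / r ^ v := by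
      refine orderOf_dvd_of_pow_eq_one ?_
      rw [← pow_mul, mul_comm (r ^ v) e, mul_assoc, hv, Nat.ordProj_mul_ordCompl_eq_self, mul_comm,
        pow_mul, pow_orderOf_eq_one, one_pow]
    rw [hj, hv] at hcy
    rcases Nat.eq_zero_or_pos j with rfl | hj0
    · exact hec (by rw [orderOf_eq_one_iff.1 ((hj.trans (pow_zero r)))]; exact one_mem _)
    · exact Nat.not_dvd_ordCompl hr (orderOf_pos y).ne' ((dvd_pow_self r hj0.ne').trans hcy)
  · -- the prime `l`
    rintro _ ⟨M, rfl⟩ hd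
    have := Fact.mk hl.1
    obtain ⟨⟨q, y, hy, rfl⟩, hq⟩ :=
      exists_prime_orderOf_dvd_card' (G := M.1.map (QuotientGroup.mk' (center G))) l hd
    have hqo : orderOf (QuotientGroup.mk y : G ⧸ center G) = l := by
      rw [← hq, ← orderOf_coe]; rfl
    obtain ⟨e, he, hey⟩ := D.exists_pel_lift hl.1 (y := y)
      (⟨1, by rw [pow_one, ← hqo, pow_orderOf_eq_one]⟩)
    have hec : y ^ e ∉ center G := fun h => by
      rw [← hey, (QuotientGroup.eq_one_iff _).2 h, orderOf_one] at hqo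
      exact hl.1.one_lt.ne hqo
    exact hla ⟨hl.1, y ^ e, he, hec, ((D.member_spec hab M).2.2 _ (pow_mem hy e) hec).2⟩
  · -- disjoint
    rintro _ _ ⟨M, rfl⟩ ⟨M', rfl⟩ x hx hx' hx1
    obtain ⟨y, rfl⟩ := QuotientGroup.mk'_surjective _ x
    have hy : y ∉ center G := fun h => hx1 ((QuotientGroup.eq_one_iff y).2 h)
    rw [D.member_disjoint hab ((D.mem_map_member hab M).1 hx) ((D.mem_map_member hab M').1 hx') hy]
  · -- separation
    intro s r hs' hr hsr x y hxs hyr hx1 hy1 hxy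
    obtain ⟨u, rfl⟩ := QuotientGroup.mk'_surjective _ x
    obtain ⟨w, rfl⟩ := QuotientGroup.mk'_surjective _ y
    obtain ⟨e, he, heu⟩ := D.exists_pel_lift hs' hxs
    obtain ⟨f, hf, hfw⟩ := D.exists_pel_lift hr hyr
    have huc : u ^ e ∉ center G := fun h => hx1 (heu.symm.trans ((QuotientGroup.eq_one_iff _).2 h))
    have hwc : w ^ f ∉ center G := fun h => hy1 (hfw.symm.trans ((QuotientGroup.eq_one_iff _).2 h))
    have hc : Commute (u ^ e) (w ^ f) := by
      refine commute_of_comm_mem_center hr hs' hsr he hf ?_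
      rw [← QuotientGroup.eq_one_iff, QuotientGroup.mk_mul, QuotientGroup.mk_mul, QuotientGroup.mk_mul,
        QuotientGroup.mk_inv, QuotientGroup.mk_inv, heu, hfw]
      exact mul_inv_eq_one.2 (mul_inv_eq_iff_eq_mul.2 hxy.eq)
    have hco := Pel.coprime hs' hr hsr he hf
    have hcen := D.same_cen huc hwc hc hco
    have hidx : idx (u ^ e) = a := by
      refine (D.sizes _ huc).resolve_right fun h => hsr ?_
      rw [hb s ⟨hs', _, he, huc, h⟩, hb r ⟨hr, _, hf, hwc, by rw [idx, ← hcen]; exact h⟩]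
    refine ⟨_, ⟨⟨cen (u ^ e), u ^ e, huc, hidx, rfl⟩, rfl⟩, ?_, ?_⟩
    · exact ⟨u ^ e, mem_cen_self (u ^ e), heu⟩
    · exact ⟨w ^ f, mem_cen.2 hc.symm, hfw⟩
  · -- conjugates
    rintro _ ⟨M, rfl⟩ g
    obtain ⟨h, rfl⟩ := QuotientGroup.mk'_surjective _ g
    obtain ⟨x, hx, hxa, hM⟩ := M.2
    refine ⟨⟨cen (h * x * h⁻¹), h * x * h⁻¹, notMem_center_conj hx h,
      by rw [idx_conj]; exact hxa, rfl⟩, ?_⟩
    show _ = (cen (h * x * h⁻¹)).map _
    rw [cen_conj, hM, map_map, map_map]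
    congr 1
  · -- powers
    rintro _ ⟨M, rfl⟩ x hx hx1 y hxy
    obtain ⟨u, rfl⟩ := QuotientGroup.mk'_surjective _ x
    obtain ⟨w, rfl⟩ := QuotientGroup.mk'_surjective _ y
    have huM := (D.mem_map_member hab M).1 hx
    have huc : u ∉ center G := fun h => hx1 ((QuotientGroup.eq_one_iff u).2 h)
    set o := orderOf (QuotientGroup.mk' (center G) u)
    have huo : u ^ o ∈ center G :=
      (QuotientGroup.eq_one_iff _).1 (pow_orderOf_eq_one (QuotientGroup.mk' (center G) u))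
    set c := w * u * w⁻¹ * u⁻¹ with hc
    have hcZ : c ∈ center G := by
      rw [← QuotientGroup.eq_one_iff]
      exact mul_inv_eq_one.2 (mul_inv_eq_iff_eq_mul.2 hxy.eq.symm)
    have hstep : ∀ i : ℕ, w ^ i * u * (w ^ i)⁻¹ = c ^ i * u := by
      intro i
      induction i with
      | zero => simp
      | succ i ih =>
        calc w ^ (i + 1) * u * (w ^ (i + 1))⁻¹ = w * (w ^ i * u * (w ^ i)⁻¹) * w⁻¹ := by
              rw [pow_succ']; group
          _ = (w * c ^ i) * (u * w⁻¹) := by rw [ih]; group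
          _ = (c ^ i * w) * (u * w⁻¹) := by rw [mem_center_iff.1 (pow_mem hcZ i) w]
          _ = c ^ i * c * u := by rw [hc]; group
          _ = _ := by rw [← pow_succ]
    have hco : c ^ o = 1 := by
      have h1 : (c * u) ^ o = u ^ o := by
        rw [show c * u = w * u * w⁻¹ by rw [hc]; group, conj_pow, mem_center_iff.1 huo w,
          mul_inv_cancel_right]
      rw [(show Commute c u from (mem_center_iff.1 hcZ u).symm).mul_pow] at h1
      exact mul_eq_right.1 h1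
    refine ⟨w ^ o, ?_, rfl⟩
    have h2 := hstep o
    rw [hco, one_mul] at h2
    rw [SetLike.mem_coe, ← ((D.member_spec hab M).2.2 u huM huc).1]
    exact mem_cen.2 (mul_inv_eq_iff_eq_mul.1 h2)
  · rintro _ _ ⟨M, rfl⟩ ⟨M', rfl⟩
    exact Nat.eq_of_mul_eq_mul_left Nat.card_pos
      ((D.card_map_member hab M).trans (D.card_map_member hab M').symm)
  · -- two primes
    rintro _ ⟨M, rfl⟩ r
    obtain ⟨t, ht, htr⟩ : ∃ t, Occ G a t ∧ t ≠ r := by
      by_cases h : s₁ = r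
      · exact ⟨s₂, hs₂, fun h' => hs (h.trans h'.symm)⟩
      · exact ⟨s₁, hs₁, h⟩
    refine ⟨t, ht.1, htr, ?_⟩
    obtain ⟨x, hx, hxa, hM⟩ := M.2
    obtain ⟨u, hu, hut, huc⟩ := exists_pel_of_ff_lt ht.1 (D.occ_ff ht hxa)
    have h1 : (QuotientGroup.mk u : G ⧸ center G) ≠ 1 := fun h => huc ((QuotientGroup.eq_one_iff u).1 h)
    obtain ⟨k, hk⟩ := Pel.exists_orderOf ht.1 (show Pel t (QuotientGroup.mk u : G ⧸ center G) from by
      obtain ⟨k, hk⟩ := hut
      exact ⟨k, by rw [← QuotientGroup.mk_pow, hk]; rfl⟩)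
    have hk0 : k ≠ 0 := fun h0 => h1 (orderOf_eq_one_iff.1 (by rw [hk, h0, pow_zero]))
    exact ((dvd_pow_self t hk0).trans (hk ▸ dvd_rfl)).trans
      (orderOf_dvd_natCard _ ((D.mem_map_member hab M).2 (hM ▸ hu)))
  · -- nonfull prime
    rintro _ ⟨M, rfl⟩
    obtain ⟨t, ht, -, htd⟩ := D.exists_nonfull hl hb hab
    obtain ⟨x, hx, hxa, hM⟩ := M.2
    obtain ⟨u, hu, hut, huc⟩ := exists_pel_of_ff_lt ht.1 (D.occ_ff ht hxa)
    refine ⟨t, ht.1, ?_, ?_⟩
    · have h1 : (QuotientGroup.mk u : G ⧸ center G) ≠ 1 := fun h => huc ((QuotientGroup.eq_one_iff u).1 h)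
      obtain ⟨k, hk⟩ := Pel.exists_orderOf ht.1 (show Pel t (QuotientGroup.mk u : G ⧸ center G) from by
        obtain ⟨k, hk⟩ := hut
        exact ⟨k, by rw [← QuotientGroup.mk_pow, hk]; rfl⟩)
      have hk0 : k ≠ 0 := fun h0 => h1 (orderOf_eq_one_iff.1 (by rw [hk, h0, pow_zero]))
      exact ((dvd_pow_self t hk0).trans (hk ▸ dvd_rfl)).trans
        (orderOf_dvd_natCard _ ((D.mem_map_member hab M).2 (hM ▸ hu)))
    · rw [index_map_eq _ (QuotientGroup.mk'_surjective _)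
        (by rw [QuotientGroup.ker_mk']; exact (D.member_spec hab M).1), ← hM]
      exact htd.trans hxa.symm.dvd

theorem beta2 {l s₁ s₂ : ℕ} (hl : Occ G b l) (hb : ∀ r, Occ G b r → r = l) (hla : ¬ Occ G a l)
    (hs₁ : Occ G a s₁) (hs₂ : Occ G a s₂) (hs : s₁ ≠ s₂) : False :=
  (D.phyp hl hb hla hs₁ hs₂ hs).false

end FHyp

end CfsgLib.Ito
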