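import Cfsg.Agent.Lib.Struct77.Ito.Inclusion
import Cfsg.Agent.Lib.Struct77.Ito.Alpha
import Cfsg.Agent.Lib.Struct77.Ito.Beta2

/-!
Itô's theorem: groups with three class sizes are solvable.
-/

set_option autoImplicit false

namespace CfsgLib.Ito

open Subgroup CfsgLib.Structure81.CoprimeClass

universe u

variable {G : Type u} [Group G] [Finite G] {a b : ℕ}

namespace FHyp

variable (D : FHyp G a b)
include D

theorem one_single {l : ℕ} (hl : Occ G b l) (hb : ∀ r, Occ G b r → r = l) : False := by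
  obtain ⟨s₁, hs₁, hs₁l, -⟩ := exists_live_ne D.ns hl.1 hl.1
  obtain ⟨s₂, hs₂, hs₂s, hs₂l⟩ := exists_live_ne D.ns hs₁.1 hl.1
  have h1 : Occ G a s₁ := (D.live_cases hs₁).resolve_right fun h => hs₁l (hb _ h)
  have h2 : Occ G a s₂ := (D.live_cases hs₂).resolve_right fun h => hs₂l (hb _ h)
  by_cases hla : Occ G a l
  · have hab := D.abelian h1 h2 hs₂s.symm
    obtain ⟨t, ht, htl, htd⟩ := D.exists_nonfull hl hb hab
    exact D.beta1 hla ht htl htd hb hab
  · exact D.beta2 hl hb hla h1 h2 hs₂s.symm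

theorem false : False := by
  obtain ⟨r, hr⟩ := D.symm.occ_exists
  by_cases hb : ∀ r', Occ G b r' → r' = r
  · exact D.one_single hr hb
  obtain ⟨s, hs⟩ := D.occ_exists
  by_cases ha : ∀ s', Occ G a s' → s' = s
  · exact D.symm.one_single hs ha
  push Not at ha hb
  obtain ⟨r', hr', hrr⟩ := hb
  obtain ⟨s', hs', hss⟩ := ha
  exact D.alpha hs hs' hss.symm hr hr' hrr.symm

end FHyp

theorem Data.false {n₁ n₂ : ℕ} (D : Data G n₁ n₂) : False := by
  refine FHyp.false (a := n₁) (b := n₂)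
    ⟨D.ns, D.lt.ne', fun x hx => (D.sizes x hx).symm, D.ex₁, D.ex₂, fun x y hy hle => ?_⟩
  by_contra hne
  exact D.not_incl ⟨x, y, hy, lt_of_le_of_ne hle hne⟩

end CfsgLib.Ito
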