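import Cfsg.Agent.Lib.Structure81.CoprimeClassBasic
import Cfsg.Agent.Lib.Structure81.ConjCover
import Cfsg.Agent.Lib.ClassSize.SquarefreeStructure
import Cfsg.Agent.Lib.FewOrders.Prime
import Cfsg.Agent.Lib.Solvable.KegelWielandt

/-!
Basic lemmas for groups with three class sizes: elements of prime power order, parts of centraliser
orders, live primes.
-/

set_option autoImplicit false

namespace CfsgLib.Ito

open Subgroup CfsgLib.Structure81.CoprimeClass

universe u

variable {G : Type u} [Group G]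

/-- An element of `s`-power order. -/
def Pel (s : ℕ) (x : G) : Prop := ∃ k, x ^ s ^ k = 1

/-- A prime for which some element of prime power order is noncentral. -/
def Live (G : Type u) [Group G] (s : ℕ) : Prop := s.Prime ∧ ∃ x : G, Pel s x ∧ x ∉ center G

theorem Pel.pow {s : ℕ} {x : G} (h : Pel s x) (e : ℕ) : Pel s (x ^ e) := by
  obtain ⟨k, hk⟩ := h
  exact ⟨k, by rw [← pow_mul, mul_comm, pow_mul, hk, one_pow]⟩

theorem Pel.conj {s : ℕ} {x : G} (h : Pel s x) (g : G) : Pel s (g * x * g⁻¹) := by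
  obtain ⟨k, hk⟩ := h
  exact ⟨k, by rw [← MulAut.conj_apply, ← map_pow, hk, map_one]⟩

theorem Pel.inv {s : ℕ} {x : G} (h : Pel s x) : Pel s x⁻¹ := by
  obtain ⟨k, hk⟩ := h
  exact ⟨k, by rw [inv_pow, hk, inv_one]⟩

theorem Pel.mul {s : ℕ} {x y : G} (hx : Pel s x) (hy : Pel s y) (hc : Commute x y) : Pel s (x * y) := by
  obtain ⟨i, hi⟩ := hx
  obtain ⟨j, hj⟩ := hy
  refine ⟨i + j, ?_⟩
  rw [hc.mul_pow, pow_add, pow_mul, hi, one_pow, mul_comm (s ^ i), pow_mul, hj, one_pow, one_mul]

theorem Pel.coprime {s t : ℕ} {x y : G} (hs : s.Prime) (ht : t.Prime) (hst : s ≠ t)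
    (hx : Pel s x) (hy : Pel t y) : (orderOf x).Coprime (orderOf y) := by
  obtain ⟨i, hi⟩ := hx
  obtain ⟨j, hj⟩ := hy
  exact (Nat.Coprime.pow i j ((Nat.coprime_primes hs ht).2 hst)).coprime_dvd_left
    (orderOf_dvd_of_pow_eq_one hi) |>.coprime_dvd_right (orderOf_dvd_of_pow_eq_one hj)

theorem Pel.not_dvd {s t : ℕ} {x : G} (hs : s.Prime) (ht : t.Prime) (hst : s ≠ t) (hx : Pel s x) :
    ¬ t ∣ orderOf x := by
  obtain ⟨i, hi⟩ := hx
  exact fun h => hst ((Nat.prime_dvd_prime_iff_eq ht hs).1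
    (ht.dvd_of_dvd_pow (h.trans (orderOf_dvd_of_pow_eq_one hi)))).symm

theorem Pel.mem_of_isPGroup {s : ℕ} {H : Subgroup G} (h : IsPGroup s H) {x : G} (hx : x ∈ H) :
    Pel s x := by
  obtain ⟨k, hk⟩ := h ⟨x, hx⟩
  exact ⟨k, congrArg Subtype.val hk⟩

theorem Pel.eq_one {s t : ℕ} {x : G} (hs : s.Prime) (ht : t.Prime) (hst : s ≠ t) (h : Pel s x)
    (h' : Pel t x) : x = 1 :=
  orderOf_eq_one_iff.1 ((Nat.coprime_self _).1 (Pel.coprime hs ht hst h h'))

theorem Pel.isPGroup_zpowers {s : ℕ} {x : G} (hs : s.Prime) (h : Pel s x) : IsPGroup s (zpowers x) := by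
  obtain ⟨k, hk⟩ := h
  obtain ⟨r, -, hr⟩ := (Nat.dvd_prime_pow hs).1 (orderOf_dvd_of_pow_eq_one hk)
  exact IsPGroup.of_card (n := r) (by rw [Nat.card_zpowers, hr])

theorem center_le_cen (x : G) : center G ≤ cen x := fun z hz =>
  mem_cen.2 ((mem_center_iff.1 hz x).symm)

theorem mem_cen_self (x : G) : x ∈ cen x := mem_cen.2 (Commute.refl x)

theorem mem_cen_comm {x y : G} : x ∈ cen y ↔ y ∈ cen x := by
  rw [mem_cen, mem_cen]; exact ⟨Commute.symm, Commute.symm⟩

theorem notMem_center_conj {x : G} (hx : x ∉ center G) (g : G) : g * x * g⁻¹ ∉ center G := fun h => by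
  have h1 := (mem_center_iff.1 h g)
  refine hx ?_
  rwa [show g * x * g⁻¹ = x from mul_left_cancel (h1.trans (by group))] at h

theorem mem_normalizer_cen {v g : G} (h : cen (g * v * g⁻¹) = cen v) :
    g ∈ normalizer (cen v : Set G) := by
  rw [mem_normalizer_iff_map_conj_eq]
  exact (cen_conj v g).symm.trans h

variable [Finite G]

/-- Translation by an element fixed by a coprime acting element. -/
theorem commute_of_shift {s t : ℕ} (hs : s.Prime) (ht : t.Prime) (hst : t ≠ s) {g v c : G}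
    (hg : Pel t g) (hc : Pel s c) (hgc : g * c = c * g) (h : g * v * g⁻¹ = c * v) : Commute g v :=
  CfsgLib.SquarefreeClass.commute_of_translation hs (Pel.not_dvd ht hs hst hg) hc hgc h

/-- Elements of coprime prime power orders with central commutator commute. -/
theorem commute_of_comm_mem_center {s t : ℕ} (hs : s.Prime) (ht : t.Prime) (hst : t ≠ s) {g v : G}
    (hg : Pel t g) (hv : Pel s v) (h : g * v * g⁻¹ * v⁻¹ ∈ center G) : Commute g v := by
  refine commute_of_shift hs ht hst hg ?_ (mem_center_iff.1 h g) (c := g * v * g⁻¹ * v⁻¹) (by group)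
  obtain ⟨k, hk⟩ := hv
  refine ⟨k, ?_⟩
  have hc : Commute (g * v * g⁻¹ * v⁻¹) v := ((mem_center_iff.1 h v).symm : _)
  have h1 : (g * v * g⁻¹ * v⁻¹ * v) ^ s ^ k = 1 := by
    rw [inv_mul_cancel_right, ← MulAut.conj_apply, ← map_pow, hk, map_one]
  rwa [hc.mul_pow, hk, mul_one] at h1

/-- The exponent of `s` in the order of a subgroup. -/
noncomputable def ff (s : ℕ) (H : Subgroup G) : ℕ := (Nat.card H).factorization s

theorem ff_mono {s : ℕ} {H K : Subgroup G} (h : H ≤ K) : ff s H ≤ ff s K :=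
  (Nat.factorization_le_iff_dvd Nat.card_pos.ne' Nat.card_pos.ne').2 (card_dvd_of_le h) s

theorem ff_add_idx (s : ℕ) (x : G) :
    ff s (cen x) + (idx x).factorization s = (Nat.card G).factorization s := by
  rw [ff, ← (cen x).card_mul_index, Nat.factorization_mul Nat.card_pos.ne'
    index_ne_zero_of_finite, Finsupp.add_apply]

theorem ff_cen_eq {s : ℕ} {x y : G} (h : (idx x).factorization s = (idx y).factorization s) :
    ff s (cen x) = ff s (cen y) := by
  have h1 := ff_add_idx s x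
  have h2 := ff_add_idx s y
  omega

theorem exists_part {x : G} (hx : x ∉ center G) :
    ∃ s e : ℕ, s.Prime ∧ Pel s (x ^ e) ∧ x ^ e ∉ center G := by
  by_contra hc
  push Not at hc
  refine hx (mem_of_parts fun e p k hp hk => hc p e hp ⟨k, ?_⟩)
  rw [← hk, pow_orderOf_eq_one]

theorem Pel.exists_orderOf {s : ℕ} {x : G} (hs : s.Prime) (h : Pel s x) : ∃ k, orderOf x = s ^ k := by
  obtain ⟨k, hk⟩ := h
  obtain ⟨j, -, hj⟩ := (Nat.dvd_prime_pow hs).1 (orderOf_dvd_of_pow_eq_one hk)
  exact ⟨j, hj⟩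

/-- A Sylow subgroup of a subgroup, inside the group. -/
theorem exists_sylow_sub (H : Subgroup G) (s : ℕ) [Fact s.Prime] :
    ∃ A : Subgroup G, A ≤ H ∧ IsPGroup s A ∧ Nat.card A = s ^ ff s H ∧
      ∀ z ∈ center G, z ∈ H → Pel s z → z ∈ A := by
  let S : Sylow s H := default
  refine ⟨(S : Subgroup H).map H.subtype, map_subtype_le _, S.isPGroup'.map _, ?_, fun z hz hzH hzs => ?_⟩
  · rw [card_map_of_injective H.subtype_injective, S.card_eq_multiplicity]; rfl
  · obtain ⟨k, hk⟩ := hzs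
    exact ⟨⟨z, hzH⟩, mem_sylow_of_normalizer_pel S (Fact.out) ⟨k, Subtype.ext hk⟩
      (mem_center_iff.2 fun h => Subtype.ext (mem_center_iff.1 hz h)), rfl⟩
where
  mem_sylow_of_normalizer_pel {K : Type u} [Group K] [Finite K] {p : ℕ} [Fact p.Prime]
      (S : Sylow p K) {z : K} (hp : p.Prime) (hz : Pel p z) (hc : z ∈ center K) :
      z ∈ (S : Subgroup K) := by
    have hle : zpowers z ≤ center K := zpowers_le.2 hc
    have hn : (S : Subgroup K) ≤ normalizer (zpowers z : Set K) := fun g _ => by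
      rw [mem_normalizer_iff_map_conj_eq, MonoidHom.map_zpowers]
      congr 1
      show g * z * g⁻¹ = z
      rw [mem_center_iff.1 hc g, mul_inv_cancel_right]
    have h1 : IsPGroup p ((S : Subgroup K) ⊔ zpowers z : Subgroup K) :=
      S.isPGroup'.to_sup_of_normal_right' (Pel.isPGroup_zpowers hp hz) hn
    rw [← S.is_maximal' h1 le_sup_left]
    exact mem_sup_right (mem_zpowers z)

/-- Elements of a normal Sylow subgroup of a subgroup. -/
theorem mem_of_pel {H A : Subgroup G} {s : ℕ} [Fact s.Prime] (hAH : A ≤ H)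
    (hA : Nat.card A = s ^ ff s H) (hn : H ≤ normalizer (A : Set G)) {x : G} (hx : x ∈ H)
    (hxs : Pel s x) : x ∈ A := by
  let S : Sylow s H := Sylow.ofCard (A.subgroupOf H) (by
    rw [Nat.card_congr (subgroupOfEquivOfLe hAH).toEquiv, hA]; rfl)
  have : (S : Subgroup H).Normal := normal_subgroupOf_of_le_normalizer hn
  obtain ⟨k, hk⟩ := hxs
  obtain ⟨R, hR⟩ := (Pel.isPGroup_zpowers Fact.out
    (⟨k, Subtype.ext hk⟩ : Pel s (⟨x, hx⟩ : H))).exists_le_sylow
  have := Sylow.unique_of_normal S this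
  have hRS : R = S := Subsingleton.elim _ _
  exact mem_subgroupOf.1 (hRS ▸ hR (mem_zpowers _) : (⟨x, hx⟩ : H) ∈ (S : Subgroup H))

theorem exists_pel_of_ff_lt {s : ℕ} (hs : s.Prime) {H : Subgroup G} (h : ff s (center G) < ff s H) :
    ∃ u ∈ H, Pel s u ∧ u ∉ center G := by
  have := Fact.mk hs
  obtain ⟨A, hAH, hA, hcard, -⟩ := exists_sylow_sub H s
  by_contra hc
  push Not at hc
  have hle : A ≤ center G := fun a ha => hc a (hAH ha) (Pel.mem_of_isPGroup hA ha)
  have h1 := ff_mono (s := s) hle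
  rw [ff, hcard, Nat.Prime.factorization_pow hs, Finsupp.single_eq_same] at h1
  omega

theorem ff_lt_of_pel {s : ℕ} (hs : s.Prime) {H : Subgroup G} (hZ : center G ≤ H) {u : G} (hu : u ∈ H)
    (hus : Pel s u) (huc : u ∉ center G) : ff s (center G) < ff s H := by
  have := Fact.mk hs
  by_contra hlt
  obtain ⟨A, hAZ, hA, hcard, hAz⟩ := exists_sylow_sub (center G) s
  have he : ff s (center G) = ff s H := le_antisymm (ff_mono hZ) (not_lt.1 hlt)
  have hn : H ≤ normalizer (A : Set G) := fun g _ => by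
    rw [mem_normalizer_iff]
    intro y
    constructor
    · intro hy
      rwa [mem_center_iff.1 (hAZ hy) g, mul_inv_cancel_right]
    · intro hy
      have h2 := mem_center_iff.1 (hAZ hy) g⁻¹
      rwa [show y = g * y * g⁻¹ from (calc y = g⁻¹ * (g * y * g⁻¹) * g := by group
        _ = g * y * g⁻¹ := by rw [h2, inv_mul_cancel_right])]
  exact huc (hAZ (mem_of_pel (hAZ.trans hZ) (he ▸ hcard) hn hu hus))

/-- A prime dividing no class size is not live. -/
theorem central_of_not_dvd_idx {s : ℕ} (hs : s.Prime) (h : ∀ x : G, ¬ s ∣ idx x) {u : G}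
    (hu : Pel s u) : u ∈ center G := by
  have := Fact.mk hs
  let S : Sylow s G := default
  have htop : centralizer ((S : Subgroup G) : Set G) = ⊤ := by
    refine ConjCover.eq_top_of_conj_cover _ fun x => ?_
    obtain ⟨A, hAx, hA, hcard, -⟩ := exists_sylow_sub (cen x) s
    let T : Sylow s G := Sylow.ofCard A (by
      have h1 := ff_add_idx s x
      rw [Nat.factorization_eq_zero_of_not_dvd (h x), add_zero] at h1
      rw [hcard, h1])
    obtain ⟨g, hg⟩ := MulAction.exists_smul_eq G T S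
    refine ⟨g, mem_centralizer_iff.2 fun y hy => ?_⟩
    rw [← hg] at hy
    obtain ⟨a, ha, rfl⟩ := hy
    show g * a * g⁻¹ * (g * x * g⁻¹) = g * x * g⁻¹ * (g * a * g⁻¹)
    have h1 : a * x = x * a := (mem_cen.1 (hAx ha)).eq
    calc g * a * g⁻¹ * (g * x * g⁻¹) = g * (a * x) * g⁻¹ := by group
      _ = g * (x * a) * g⁻¹ := by rw [h1]
      _ = g * x * g⁻¹ * (g * a * g⁻¹) := by group
  have hSZ : (S : Subgroup G) ≤ center G := fun y hy => mem_center_iff.2 fun g =>
    (mem_centralizer_iff.1 (htop ▸ mem_top g) y hy).symm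
  obtain ⟨R, hR⟩ := (Pel.isPGroup_zpowers hs hu).exists_le_sylow
  obtain ⟨g, hg⟩ := MulAction.exists_smul_eq G R S
  by_contra huc
  refine notMem_center_conj huc g (hSZ ?_)
  rw [← hg]
  exact ⟨u, hR (mem_zpowers u), rfl⟩

theorem live_of_dvd_index {s : ℕ} (hs : s.Prime) (h : s ∣ (center G).index) : Live G s := by
  refine ⟨hs, ?_⟩
  have := Fact.mk hs
  by_contra hc
  push Not at hc
  let S : Sylow s G := default
  exact S.not_dvd_index (h.trans (index_dvd_of_le fun y hy => hc y (Pel.mem_of_isPGroup S.2 hy)))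

theorem exists_live_ne (hns : ¬ Group.IsSolvable G) {a b : ℕ} (ha : a.Prime) (hb : b.Prime) :
    ∃ s, Live G s ∧ s ≠ a ∧ s ≠ b := by
  by_contra hc
  push Not at hc
  refine hns ?_
  have : Group.IsSolvable (G ⧸ center G) :=
    FewOrders.isSolvable_of_two_primes ha hb fun t ht htd => by
      rw [← index_eq_card] at htd
      by_cases hta : t = a
      · exact Or.inl hta
      · exact Or.inr (hc t (live_of_dvd_index ht htd) hta)
  have : Group.IsSolvable (center G) := isSolvable_of_comm fun a b =>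
    Subtype.ext (mem_center_iff.1 b.2 a)
  exact Group.isSolvable_of_ker_le_range (center G).subtype (QuotientGroup.mk' (center G))
    (by rw [QuotientGroup.ker_mk', range_subtype])

theorem carrier_eq_clas (u : G) : (ConjClasses.mk u).carrier = clas u := by
  ext y
  simp only [ConjClasses.mem_carrier_iff_mk_eq, ConjClasses.mk_eq_mk_iff_isConj, isConj_iff, clas,
    Set.mem_range]
  constructor
  · rintro ⟨c, hc⟩
    exact ⟨c⁻¹, by rw [← hc]; group⟩
  · rintro ⟨c, hc⟩
    exact ⟨c⁻¹, by rw [← hc]; group⟩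

theorem ncard_class (u : G) : (ConjClasses.mk u).carrier.ncard = idx u := by
  rw [carrier_eq_clas, ← Nat.card_coe_set_eq, card_clas]

/-- Class sizes inside a subgroup. -/
theorem ncard_class_sub (H : Subgroup G) (w : H) :
    (ConjClasses.mk w).carrier.ncard = (cen (w : G)).relIndex H := by
  rw [ncard_class]
  show (cen w).index = ((cen (w : G)).subgroupOf H).index
  congr 1
  ext y
  rw [mem_subgroupOf, mem_cen, mem_cen]
  exact ⟨fun h => congrArg Subtype.val h.eq, fun h => Subtype.ext h.eq⟩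

/-- A product of two nilpotent subgroups of complementary orders. -/
theorem isSolvable_of_card {A B : Subgroup G} (hA : Group.IsNilpotent A) (hB : Group.IsNilpotent B)
    (h : Nat.card G * Nat.card (A ⊓ B : Subgroup G) ≤ Nat.card A * Nat.card B) : Group.IsSolvable G := by
  refine KegelWielandt.isSolvable _ rfl A B hA hB fun g => ?_
  let f : A ⧸ B.subgroupOf A → G ⧸ B := Quotient.map' (fun a : A => (a : G)) fun a b hab => by
    rw [QuotientGroup.leftRel_apply] at hab ⊢
    exact mem_subgroupOf.1 hab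
  have hinj : Function.Injective f := by
    intro a b
    induction a using QuotientGroup.induction_on with | _ a => ?_
    induction b using QuotientGroup.induction_on with | _ b => ?_
    intro hab
    have h1 : ((a : G) : G ⧸ B) = ((b : G) : G ⧸ B) := hab
    exact QuotientGroup.eq.2 (mem_subgroupOf.2 (QuotientGroup.eq.1 h1))
  have hA' : Nat.card (A ⊓ B : Subgroup G) = Nat.card (B.subgroupOf A) := by
    rw [← inf_subgroupOf_left, Nat.card_congr (subgroupOfEquivOfLe inf_le_left).toEquiv]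
  have hsurj : Function.Surjective f := by
    refine (hinj.bijective_of_nat_card_le ?_).2
    have h2 := (B.subgroupOf A).card_mul_index
    rw [← index_eq_card, ← index_eq_card]
    refine Nat.le_of_mul_le_mul_left ?_ (Nat.mul_pos (Nat.card_pos (α := B)) (Nat.card_pos (α := B.subgroupOf A)))
    calc Nat.card B * Nat.card (B.subgroupOf A) * B.index
        = Nat.card G * Nat.card (A ⊓ B : Subgroup G) := by rw [hA', ← B.card_mul_index]; ring
      _ ≤ Nat.card A * Nat.card B := h
      _ = _ := by rw [← h2]; ring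
  obtain ⟨q, hq⟩ := hsurj ((g : G) : G ⧸ B)
  induction q using QuotientGroup.induction_on with | _ a => ?_
  have h3 : ((a : G) : G ⧸ B) = (g : G ⧸ B) := hq
  exact ⟨a, a.2, (a : G)⁻¹ * g, QuotientGroup.eq.1 h3, by group⟩

/-- Growing a subgroup of prime power order inside its normalizer. -/
theorem exists_normalizing {s : ℕ} [Fact s.Prime] {A : Subgroup G} {j : ℕ}
    (hA : Nat.card A = s ^ j) (hlt : j < (Nat.card G).factorization s) :
    ∃ g : G, Pel s g ∧ g ∈ normalizer (A : Set G) ∧ g ∉ A := by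
  have hd : s ^ (j + 1) ∣ Nat.card G :=
    (pow_dvd_pow s hlt).trans (Nat.ordProj_dvd (Nat.card G) s)
  obtain ⟨K, hK, hle⟩ := Sylow.exists_subgroup_card_pow_succ hd hA
  have hKp : IsPGroup s K := IsPGroup.of_card hK
  obtain ⟨g, hgK, hgA⟩ := SetLike.not_le_iff_exists.1 (fun h : K ≤ A => by
    have := card_le_of_le h
    rw [hK, hA] at this
    exact absurd this (not_le.2 (Nat.pow_lt_pow_right (Fact.out : s.Prime).one_lt (Nat.lt_succ_self j))))
  refine ⟨g, Pel.mem_of_isPGroup hKp hgK, ?_, hgA⟩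
  have hidx : (A.subgroupOf K).index = s := by
    have h1 := (A.subgroupOf K).card_mul_index
    rw [Nat.card_congr (subgroupOfEquivOfLe hle).toEquiv, hA, hK, pow_succ] at h1
    exact Nat.eq_of_mul_eq_mul_left (pow_pos (Fact.out : s.Prime).pos j) h1
  have hn : (A.subgroupOf K).Normal := by
    refine normal_of_index_eq_minFac_card ?_
    rw [hidx, hK, Nat.Prime.pow_minFac Fact.out (Nat.succ_ne_zero j)]
  have := (normal_subgroupOf_iff_le_normalizer hle).1 hn
  exact this hgK

open scoped Classical in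
/-- Pairs of an element and a conjugating element moving it into a Sylow subgroup. -/
theorem pairs_le {ι : Type*} [Fintype ι] {s : ℕ} [Fact s.Prime] (S : Sylow s G) (W : ι → Set G)
    (A N : ι → Subgroup G) (hWA : ∀ i, W i ⊆ A i) (hWZ : ∀ i, ∀ x ∈ W i, x ∉ center G)
    (hA : ∀ i, IsPGroup s (A i)) (hAN : ∀ i, A i ≤ N i) (hN : ∀ i, N i ≤ normalizer (A i : Set G))
    (hdis : ∀ i j, ∀ x, x ∈ W i → x ∈ W j → i = j) :
    (∑ i, (W i).ncard * ordCompl[s] (Nat.card (N i))) * Nat.card (S : Subgroup G) ≤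
      Nat.card G * (((S : Subgroup G) : Set G) \ center G).ncard := by
  have key : ∀ i, ordCompl[s] (Nat.card (N i)) * Nat.card (S : Subgroup G) ≤
      {g : G | ∀ a ∈ A i, g * a * g⁻¹ ∈ (S : Subgroup G)}.ncard := by
    intro i
    let R : Sylow s (N i) := default
    have hAR : (A i).subgroupOf (N i) ≤ (R : Subgroup (N i)) := by
      have hn : ((A i).subgroupOf (N i)).Normal := normal_subgroupOf_of_le_normalizer (hN i)
      have hp : IsPGroup s ((A i).subgroupOf (N i)) :=
        (hA i).of_equiv (subgroupOfEquivOfLe (hAN i)).symm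
      obtain ⟨R', hR'⟩ := hp.exists_le_sylow
      obtain ⟨g, hg⟩ := MulAction.exists_smul_eq (N i) R' R
      intro a ha
      rw [← hg]
      refine ⟨g⁻¹ * a * g⁻¹⁻¹, hR' (hn.conj_mem a ha g⁻¹), ?_⟩
      show g * (g⁻¹ * a * g⁻¹⁻¹) * g⁻¹ = a
      group
    obtain ⟨P, hP⟩ := (R.isPGroup'.map (N i).subtype).exists_le_sylow
    obtain ⟨g₀, hg₀⟩ := MulAction.exists_smul_eq G P S
    have hg₀' : ∀ y ∈ (P : Subgroup G), g₀ * y * g₀⁻¹ ∈ (S : Subgroup G) := fun y hy => by
      rw [← hg₀]; exact ⟨y, hy, rfl⟩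
    let f : ↥(S : Subgroup G) × (↥(N i) ⧸ (R : Subgroup (N i))) →
        {g : G | ∀ a ∈ A i, g * a * g⁻¹ ∈ (S : Subgroup G)} := fun p =>
      ⟨(p.1 : G) * g₀ * ((p.2.out : N i) : G)⁻¹, fun a ha => by
        set n := p.2.out
        have h1 : (n : G)⁻¹ * a * n ∈ A i := (mem_normalizer_iff''.1 (hN i n.2) a).1 ha
        have h2 := hg₀' _ (hP ⟨_, hAR (mem_subgroupOf.2 h1 :
          (⟨_, hAN i h1⟩ : N i) ∈ (A i).subgroupOf (N i)), rfl⟩)
        have h3 := mul_mem (mul_mem p.1.2 h2) (inv_mem p.1.2)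
        rw [show (p.1 : G) * g₀ * (n : G)⁻¹ * a * ((p.1 : G) * g₀ * (n : G)⁻¹)⁻¹ =
          (p.1 : G) * (g₀ * ((n : G)⁻¹ * a * n) * g₀⁻¹) * (p.1 : G)⁻¹ by group]
        exact h3⟩
    have hf : Function.Injective f := by
      rintro ⟨σ, q⟩ ⟨σ', q'⟩ h
      have h' : (σ : G) * g₀ * ((q.out : N i) : G)⁻¹ = (σ' : G) * g₀ * ((q'.out : N i) : G)⁻¹ :=
        congrArg Subtype.val h
      have h1 : ((q.out : N i) : G)⁻¹ * (q'.out : N i) = g₀⁻¹ * ((σ : G)⁻¹ * σ') * g₀ := by
        calc _ = g₀⁻¹ * (σ : G)⁻¹ * ((σ : G) * g₀ * ((q.out : N i) : G)⁻¹) * (q'.out : N i) := by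
              group
          _ = _ := by rw [h']; group
      have hmem : q.out⁻¹ * q'.out ∈ (R : Subgroup (N i)) := by
        set x := q.out⁻¹ * q'.out
        have hxS : g₀ * (x : G) * g₀⁻¹ ∈ (S : Subgroup G) := by
          rw [show (x : G) = g₀⁻¹ * ((σ : G)⁻¹ * σ') * g₀ from h1]
          simpa [mul_assoc] using mul_mem (inv_mem σ.2) σ'.2
        have hxP : (x : G) ∈ (P : Subgroup G) := by
          rw [← hg₀] at hxS
          obtain ⟨y, hy, e⟩ := hxS
          have : y = (x : G) := (MulAut.conj g₀).injective (e : MulAut.conj g₀ y = MulAut.conj g₀ x)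
          rwa [← this]
        have hmax : (P : Subgroup G).subgroupOf (N i) = R :=
          R.is_maximal' (P.isPGroup'.comap_subtype) fun y hy => mem_subgroupOf.2 (hP ⟨y, hy, rfl⟩)
        exact hmax ▸ mem_subgroupOf.2 hxP
      have hq : q = q' := by
        rw [← Quotient.out_eq q, ← Quotient.out_eq q']
        exact QuotientGroup.eq.2 hmem
      subst hq
      exact Prod.ext (Subtype.ext (mul_right_cancel (mul_right_cancel h'))) rfl
    have := Nat.card_le_card_of_injective f hf
    rw [Nat.card_prod, Nat.card_coe_set_eq, ← index_eq_card] at this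
    refine le_trans (le_of_eq ?_) this
    rw [mul_comm, Nat.eq_div_of_mul_eq_right (Nat.card_pos (α := (R : Subgroup (N i)))).ne'
      (R : Subgroup (N i)).card_mul_index, R.card_eq_multiplicity]
  let X : Set (G × G) := {p | p.1 * p.2 * p.1⁻¹ ∈ ((S : Subgroup G) : Set G) \ center G}
  have hX : Nat.card X = Nat.card G * (((S : Subgroup G) : Set G) \ center G).ncard := by
    rw [← Nat.card_coe_set_eq (((S : Subgroup G) : Set G) \ center G), ← Nat.card_prod]
    exact Nat.card_congr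
      { toFun := fun p => (p.1.1, ⟨p.1.1 * p.1.2 * p.1.1⁻¹, p.2⟩)
        invFun := fun p => ⟨(p.1, p.1⁻¹ * p.2.1 * p.1), by
          show p.1 * (p.1⁻¹ * p.2.1 * p.1) * p.1⁻¹ ∈ ((S : Subgroup G) : Set G) \ center G
          rw [show p.1 * (p.1⁻¹ * p.2.1 * p.1) * p.1⁻¹ = p.2.1 by group]
          exact p.2.2⟩
        left_inv := fun p => by
          apply Subtype.ext
          refine Prod.ext rfl ?_
          show p.1.1⁻¹ * (p.1.1 * p.1.2 * p.1.1⁻¹) * p.1.1 = p.1.2
          group
        right_inv := fun p => by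
          refine Prod.ext rfl (Subtype.ext ?_)
          show p.1 * (p.1⁻¹ * p.2.1 * p.1) * p.1⁻¹ = p.2.1
          group }
  let Y : (Σ i, {g : G | ∀ a ∈ A i, g * a * g⁻¹ ∈ (S : Subgroup G)} × W i) → X := fun p =>
    ⟨(p.2.1.1, p.2.2.1), p.2.1.2 _ (hWA _ p.2.2.2), notMem_center_conj (hWZ _ _ p.2.2.2) _⟩
  have hY : Function.Injective Y := by
    rintro ⟨i, g, x⟩ ⟨j, g', x'⟩ h
    obtain ⟨h1, h2⟩ := Prod.ext_iff.1 (congrArg Subtype.val h)
    obtain rfl := hdis i j x.1 x.2 (by rw [show x.1 = x'.1 from h2]; exact x'.2)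
    exact Sigma.ext rfl (heq_of_eq (Prod.ext (Subtype.ext h1) (Subtype.ext h2)))
  have := Nat.card_le_card_of_injective Y hY
  rw [hX, Nat.card_sigma] at this
  refine le_trans ?_ this
  rw [Finset.sum_mul]
  refine Finset.sum_le_sum fun i _ => ?_
  rw [Nat.card_prod, Nat.card_coe_set_eq, Nat.card_coe_set_eq, mul_assoc, mul_comm]
  exact Nat.mul_le_mul_right _ (key i)

end CfsgLib.Ito
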