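import Cfsg.Agent.Lib.Struct77.Ito.Bounds
import Cfsg.Agent.Lib.Struct77.Ito.Alpha

/-!
One class size at a single prime, which occurs in both sizes.
-/

set_option autoImplicit false

namespace CfsgLib.Ito

open Subgroup CfsgLib.Structure81.CoprimeClass

universe u

variable {G : Type u} [Group G] [Finite G] {a b : ℕ}

/-- The number of central elements of order prime to `l`. -/
theorem ncard_center_coprime_le {l : ℕ} (hl : l.Prime) :
    {w : G | w ∈ center G ∧ ¬ l ∣ orderOf w}.ncard ≤ ordCompl[l] (Nat.card (center G)) := by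
  have := Fact.mk hl
  obtain ⟨A, hAZ, hA, hcard, -⟩ := exists_sylow_sub (center G) l
  let f : {w : G | w ∈ center G ∧ ¬ l ∣ orderOf w} × A → center G :=
    fun p => ⟨p.1.1 * p.2.1, mul_mem p.1.2.1 (hAZ p.2.2)⟩
  have hf : Function.Injective f := by
    rintro ⟨⟨w, hw, hwl⟩, s, hs⟩ ⟨⟨w', hw', hwl'⟩, s', hs'⟩ h
    have h' : w * s = w' * s' := congrArg Subtype.val h
    have hq : w'⁻¹ * w = s' * s⁻¹ := by
      calc w'⁻¹ * w = w'⁻¹ * (w * s) * s⁻¹ := by group
        _ = _ := by rw [h']; group
    obtain ⟨k, hk⟩ := Pel.mem_of_isPGroup hA (mul_mem hs' (inv_mem hs))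
    have hco : (orderOf (w'⁻¹ * w)).Coprime l := by
      have hc : Commute w'⁻¹ w := mem_center_iff.1 hw w'⁻¹
      refine Nat.Coprime.coprime_dvd_left hc.orderOf_mul_dvd_lcm ?_
      rw [orderOf_inv]
      exact Nat.Coprime.coprime_dvd_left (Nat.lcm_dvd_mul _ _)
        (Nat.Coprime.mul_left (hl.coprime_iff_not_dvd.2 hwl').symm
          (hl.coprime_iff_not_dvd.2 hwl).symm)
    have h1 : w'⁻¹ * w = 1 := by
      refine orderOf_eq_one_iff.1 (Nat.eq_one_of_dvd_coprimes (hco.pow_right k) dvd_rfl ?_)
      exact orderOf_dvd_of_pow_eq_one (by rw [hq]; exact hk)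
    obtain rfl := inv_mul_eq_one.1 h1
    obtain rfl := mul_left_cancel h'
    rfl
  have h := Nat.card_le_card_of_injective f hf
  rw [Nat.card_prod, Nat.card_coe_set_eq] at h
  refine Nat.le_of_mul_le_mul_right (h.trans_eq ?_) (Nat.card_pos (α := A))
  exact (ordCompl_mul_sylow hcard).symm

theorem center_pel_mem_sylow {l : ℕ} [Fact l.Prime] (S : Sylow l G) {z : G} (hz : z ∈ center G)
    (hzl : Pel l z) : z ∈ (S : Subgroup G) :=
  exists_sylow_sub.mem_sylow_of_normalizer_pel S Fact.out hzl hz

theorem sum_le_ncard {α : Type*} [Finite α] {ι : Type*} [Fintype ι] (T : Set α) (U : ι → Set α)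
    (h : ∀ x ∈ T, ∃ i, x ∈ U i) : T.ncard ≤ ∑ i, (U i).ncard :=
  (Set.ncard_le_ncard (fun x hx => Set.mem_iUnion.2 (h x hx)) (Set.toFinite _)).trans
    (Set.ncard_iUnion_le_of_fintype U)

namespace FHyp

variable (D : FHyp G a b)
include D

theorem exists_nonfull {l : ℕ} (hl : Occ G b l) (hb : ∀ r, Occ G b r → r = l) (hab : Ab G a) :
    ∃ t, Occ G a t ∧ t ≠ l ∧ t ∣ a := by
  by_contra hc
  push Not at hc
  have := Fact.mk hl.1
  obtain ⟨x, hx, hxa⟩ := D.exa
  let S : Sylow l G := default
  refine D.ns (isSolvable_of_parts (isNilpotent_of_comm (hab x hx hxa)) S.isPGroup'.isNilpotent ?_)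
  intro q hq
  by_cases hql : q = l
  · subst hql
    have h1 : (Nat.card G).factorization q ≤ ff q (S : Subgroup G) := by
      rw [ff, S.card_eq_multiplicity, hl.1.factorization_pow, Finsupp.single_eq_same]
    have h2 := ff_mono (s := q) (inf_le_left : cen x ⊓ (S : Subgroup G) ≤ cen x)
    omega
  have h2 := ff_mono (s := q) (inf_le_right : cen x ⊓ (S : Subgroup G) ≤ S)
  suffices h1 : (Nat.card G).factorization q ≤ ff q (cen x) by omega
  by_cases hlive : Live G q
  · rcases D.live_cases hlive with h | h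
    · have h1 := ff_add_idx q x
      rw [hxa, Nat.factorization_eq_zero_of_not_dvd (hc q h hql)] at h1
      omega
    · exact absurd (hb q h) hql
  · rw [← ff_center_of_not_live hq hlive]
    exact ff_mono (center_le_cen x)

open scoped Classical in
theorem beta1 {l t : ℕ} (hl : Occ G a l) (ht : Occ G a t) (htl : t ≠ l) (htd : t ∣ a)
    (hb : ∀ r, Occ G b r → r = l) (hab : Ab G a) : False := by
  have := Fact.mk hl.1
  let X : Type u := {x : G // Pel l x ∧ x ∉ center G ∧ idx x = b}
  let _ : Fintype (Members G a) := Fintype.ofFinite _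
  let _ : Fintype X := Fintype.ofFinite _
  choose A hAM hA hAcard hNA hAmem u huA huc using fun M => D.exists_member_sylow hab hl M
  let W : Members G a ⊕ X → Set G := Sum.elim (fun M => (A M : Set G) \ center G) fun x => {x.1}
  let A' : Members G a ⊕ X → Subgroup G := Sum.elim A fun x => zpowers x.1
  let N : Members G a ⊕ X → Subgroup G :=
    Sum.elim (fun M => normalizer (M.1 : Set G)) fun x => cen x.1
  let S : Sylow l G := default
  have hpairs := pairs_le S W A' N
    (by
      rintro (M | x) y hy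
      · exact hy.1
      · obtain rfl : y = x.1 := hy
        exact mem_zpowers _)
    (by
      rintro (M | x) y hy
      · exact hy.2
      · obtain rfl : y = x.1 := hy
        exact x.2.2.1)
    (by
      rintro (M | x)
      · exact hA M
      · exact Pel.isPGroup_zpowers hl.1 x.2.1)
    (by
      rintro (M | x)
      · exact (hAM M).trans le_normalizer
      · exact zpowers_le.2 (mem_cen_self _))
    (by
      rintro (M | x) g hg
      · exact hNA M hg
      · show g ∈ normalizer (zpowers x.1 : Set G)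
        rw [mem_normalizer_iff_map_conj_eq, MonoidHom.map_zpowers]
        refine congrArg Subgroup.zpowers ?_
        show g * x.1 * g⁻¹ = x.1
        rw [(mem_cen.1 hg).eq, mul_inv_cancel_right])
    (by
      rintro (M | x) (M' | x') y hy hy'
      · exact congrArg Sum.inl (D.member_disjoint hab (hAM M hy.1) (hAM M' hy'.1) hy.2)
      · obtain rfl : y = x'.1 := hy'
        exact absurd (((D.member_spec hab M).2.2 _ (hAM M hy.1) hy.2).2.symm.trans x'.2.2.2) D.ne
      · obtain rfl : y = x.1 := hy
        exact absurd (((D.member_spec hab M').2.2 _ (hAM M' hy'.1) hy'.2).2.symm.trans x.2.2.2) D.ne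
      · exact congrArg Sum.inr (Subtype.ext (hy.symm.trans hy')))
  set C := {w : G | w ∈ center G ∧ ¬ l ∣ orderOf w} with hC
  let U : Members G a ⊕ X → Set G :=
    Sum.elim (fun M => (M.1 : Set G) \ center G) fun x => (fun w => x.1 * w) '' C
  have hU : ∀ i, (U i).ncard ≤ (W i).ncard * ordCompl[l] (Nat.card (N i)) := by
    rintro (M | x)
    · show ((M.1 : Set G) \ center G).ncard ≤
        ((A M : Set G) \ center G).ncard * ordCompl[l] (Nat.card (normalizer (M.1 : Set G)))
      have h1 := card_le_two_diff (huA M) (huc M)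
      have h2 := mul_ordCompl_le (le_normalizer (H := M.1)) hl.1 ht.1 htl (D.dvd_relIndex hab ht htd M)
      have h3 := ordCompl_mul_sylow (hAcard M)
      have h4 : ((M.1 : Set G) \ center G).ncard ≤ Nat.card M.1 :=
        (Set.ncard_le_ncard Set.sdiff_subset).trans_eq (Nat.card_coe_set_eq _).symm
      refine h4.trans (le_trans ?_ (Nat.mul_le_mul_left _ h2))
      calc Nat.card M.1 = ordCompl[l] (Nat.card M.1) * Nat.card (A M) := h3.symm
        _ ≤ ordCompl[l] (Nat.card M.1) * (2 * ((A M : Set G) \ center G).ncard) :=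
          Nat.mul_le_mul_left _ h1
        _ ≤ ordCompl[l] (Nat.card M.1) * (t * ((A M : Set G) \ center G).ncard) :=
          Nat.mul_le_mul_left _ (Nat.mul_le_mul_right _ ht.1.two_le)
        _ = _ := by ring
    · show ((fun w => x.1 * w) '' C).ncard ≤ ({x.1} : Set G).ncard * ordCompl[l] (Nat.card (cen x.1))
      rw [Set.ncard_singleton, one_mul]
      refine (Set.ncard_image_le (Set.toFinite _)).trans ((ncard_center_coprime_le hl.1).trans ?_)
      exact Nat.le_of_dvd (Nat.ordCompl_pos l Nat.card_pos.ne')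
        (Nat.ordCompl_dvd_ordCompl_of_dvd (card_dvd_of_le (center_le_cen x.1)) l)
  have hcover : ∀ y ∈ ((center G : Set G))ᶜ, ∃ i, y ∈ U i := by
    intro y hy
    rcases D.sizes y hy with hya | hyb
    · exact ⟨Sum.inl ⟨cen y, y, hy, hya, rfl⟩, mem_cen_self y, hy⟩
    obtain ⟨v, hv⟩ : ∃ v, v = (orderOf y).factorization l := ⟨_, rfl⟩
    obtain ⟨c, hc⟩ := Nat.ordProj_dvd (orderOf y) l
    rw [← hv] at hc
    have hc0 : c ≠ 0 := fun h => (orderOf_pos y).ne' (by rw [hc, h, mul_zero])
    have hcl : ¬ l ∣ c := by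
      have h := Nat.not_dvd_ordCompl hl.1 (orderOf_pos y).ne'
      rwa [← hv, hc, Nat.mul_div_cancel_left _ (pow_pos hl.1.pos v)] at h
    obtain ⟨p, q, hpq⟩ := (Nat.isCoprime_iff_coprime.2
      ((hl.1.coprime_iff_not_dvd.2 hcl).pow_left v) : IsCoprime ((l ^ v : ℕ) : ℤ) (c : ℤ))
    have hord : y ^ (((l ^ v : ℕ) : ℤ) * c) = 1 := by
      rw [← Int.natCast_mul, zpow_natCast, ← hc, pow_orderOf_eq_one]
    -- the two parts of `y`
    set w := y ^ (p * ((l ^ v : ℕ) : ℤ)) with hw
    set x := y ^ (q * (c : ℤ)) with hx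
    have hxy : x * w = y := by rw [hx, hw, ← zpow_add, add_comm, hpq, zpow_one]
    have hwc : w ^ c = 1 := by
      rw [hw, ← zpow_natCast, ← zpow_mul, mul_assoc, mul_comm p, zpow_mul, hord, one_zpow]
    have hxl : Pel l x := ⟨v, by
      rw [hx, ← zpow_natCast, ← zpow_mul, mul_assoc, mul_comm q, mul_comm (c : ℤ), zpow_mul, hord,
        one_zpow]⟩
    have hwl : ¬ l ∣ orderOf w := fun h => hcl (h.trans (orderOf_dvd_of_pow_eq_one hwc))
    have hwy : w ∈ cen y := by rw [hw]; exact zpow_mem (mem_cen_self y) _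
    have hwZ : w ∈ center G := by
      refine mem_of_parts fun e r j hr hj => ?_
      by_contra hec
      have hrl : r ≠ l := by
        rintro rfl
        refine hwl ((dvd_pow_self r ?_).trans (hj ▸ orderOf_pow_dvd e))
        intro h0
        rw [h0, pow_zero] at hj
        exact hec (by rw [orderOf_eq_one_iff.1 hj]; exact one_mem _)
      refine hrl (hb r ?_)
      have := D.occ_of_mem hr hy (pow_mem hwy e) ⟨j, hj ▸ pow_orderOf_eq_one _⟩ hec
      rwa [hyb] at this
    have hxZ : x ∉ center G := fun h => hy (hxy ▸ mul_mem h hwZ)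
    refine ⟨Sum.inr ⟨x, hxl, hxZ, ?_⟩, w, ⟨hwZ, hwl⟩, hxy⟩
    rw [← hyb, idx, idx, ← hxy, cen_mul_center x hwZ]
  have hsum : ((center G : Set G))ᶜ.ncard ≤ ∑ i, (W i).ncard * ordCompl[l] (Nat.card (N i)) :=
    (sum_le_ncard _ U hcover).trans (Finset.sum_le_sum fun i _ => hU i)
  have hmain := (Nat.mul_le_mul_right (Nat.card (S : Subgroup G)) hsum).trans hpairs
  -- central elements of the Sylow subgroup
  obtain ⟨B, hBZ, hB, hBcard, -⟩ := exists_sylow_sub (center G) l
  have hBS : Nat.card B ≤ Nat.card ((S : Subgroup G) ⊓ center G : Subgroup G) :=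
    card_le_of_le fun y hy =>
      ⟨center_pel_mem_sylow S (hBZ hy) (Pel.mem_of_isPGroup hB hy), hBZ hy⟩
  have hSd := ncard_diff_center (S : Subgroup G)
  have hcompl := Set.ncard_add_ncard_compl (center G : Set G)
  rw [show (center G : Set G).ncard = Nat.card (center G) from (Nat.card_coe_set_eq _).symm] at hcompl
  have hB2 : ordCompl[l] (Nat.card (center G)) * Nat.card B = Nat.card (center G) :=
    ordCompl_mul_sylow hBcard
  have hS2 : ordCompl[l] (Nat.card G) * Nat.card (S : Subgroup G) = Nat.card G := by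
    rw [S.card_eq_multiplicity, mul_comm, Nat.ordProj_mul_ordCompl_eq_self]
  have htz : t ∣ (center G).relIndex ⊤ := by
    obtain ⟨x, hx, hxa⟩ := D.exa
    rw [relIndex_top_right]
    exact htd.trans (hxa ▸ index_dvd_of_le (center_le_cen x))
  have hKc := mul_ordCompl_le (le_top (a := center G)) hl.1 ht.1 htl htz
  rw [Subgroup.card_top] at hKc
  have hK0 : 0 < ordCompl[l] (Nat.card (center G)) := Nat.ordCompl_pos l Nat.card_pos.ne'
  have hSpos : 0 < Nat.card (S : Subgroup G) := Nat.card_pos
  have hBpos : 0 < Nat.card B := Nat.card_pos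
  have h2 := ht.1.two_le
  generalize ordCompl[l] (Nat.card (center G)) = Kz at *
  generalize ordCompl[l] (Nat.card G) = Kg at *
  generalize (center G : Set G)ᶜ.ncard = T at *
  generalize (((S : Subgroup G) : Set G) \ center G).ncard = Sd at *
  have h3 : Nat.card G * Nat.card B ≤ Nat.card (center G) * Nat.card (S : Subgroup G) := by
    nlinarith [Nat.mul_le_mul_left (Nat.card G) hBS]
  rw [← hS2, ← hB2] at h3
  have h4 : Kg ≤ Kz := by
    refine Nat.le_of_mul_le_mul_right ?_ (Nat.mul_pos hBpos hSpos)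
    calc Kg * (Nat.card B * Nat.card (S : Subgroup G))
        = Kg * Nat.card (S : Subgroup G) * Nat.card B := by ring
      _ ≤ Kz * Nat.card B * Nat.card (S : Subgroup G) := h3
      _ = _ := by ring
  nlinarith

end FHyp

end CfsgLib.Ito
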