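import Cfsg.Agent.Lib.Struct77.Ito.FBasic
import Cfsg.Agent.Lib.Struct77.NilpLCS.Counting

/-!
Upper bounds for the number of elements of one class size.
-/

set_option autoImplicit false

namespace CfsgLib.Ito

open Subgroup CfsgLib.Structure81.CoprimeClass

universe u

variable {G : Type u} [Group G] [Finite G] {a b n : ℕ}

/-- All primes of the size `n` are full and some member is self-normalizing. -/
def SelfFull (G : Type u) [Group G] (n : ℕ) : Prop :=
  (∀ s, Occ G n s → ¬ s ∣ n) ∧ ∃ M : Members G n, normalizer (M.1 : Set G) = M.1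

namespace FHyp

variable (D : FHyp G a b)
include D

theorem half_of_full (hab : Ab G n) {s : ℕ} (hs : Occ G n s) (hfull : ¬ s ∣ n) (M₀ : Members G n)
    (hN : 2 * Nat.card M₀.1 ≤ Nat.card (normalizer (M₀.1 : Set G))) :
    2 * (typeSet G n).ncard + 2 * Nat.card (center G) ≤ Nat.card G := by
  have hspec := D.member_spec hab M₀
  have hT : typeSet G n = {y | ∃ g : G, g * y * g⁻¹ ∈ (M₀.1 : Set G) \ center G} := by
    ext y
    refine ⟨D.conj_member hab hs hfull M₀, fun ⟨g, hg, hgc⟩ => ?_⟩
    have hyc : y ∉ center G := fun h => hgc (by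
      rwa [mem_center_iff.1 h g, mul_inv_cancel_right])
    exact ⟨hyc, by rw [← idx_conj y g]; exact (hspec.2.2 _ hg hgc).2⟩
  have h := NilpLCS.ncard_conj_mul ((M₀.1 : Set G) \ center G) (normalizer (M₀.1 : Set G))
    (fun g hg y hy => ⟨(mem_normalizer_iff.1 hg y).1 hy.1, notMem_center_conj hy.2 g⟩)
    (fun y hy g hg => D.mem_normalizer_member hab hy.1 hy.2 hg.1)
  rw [← hT] at h
  have h1 := ncard_diff_center M₀.1
  rw [inf_eq_right.2 hspec.1] at h1
  have h2 : Nat.card (normalizer (M₀.1 : Set G)) ≤ Nat.card G := card_le_card_group _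
  have hM : 0 < Nat.card M₀.1 := Nat.card_pos
  refine Nat.le_of_mul_le_mul_right ?_ hM
  nlinarith [Nat.mul_le_mul_left (typeSet G n).ncard hN,
    Nat.mul_le_mul_right (Nat.card (center G)) (hN.trans h2)]

theorem half_of_nonfull (hab : Ab G n) {s t : ℕ} (hs : Occ G n s) (ht : Occ G n t) (hst : s ≠ t)
    (ht3 : 3 ≤ t) (htd : t ∣ n) (hne : Nonempty (Members G n)) :
    2 * (typeSet G n).ncard + 2 * Nat.card (center G) ≤ Nat.card G := by
  classical
  have := Fact.mk hs.1
  let _ : Fintype (Members G n) := Fintype.ofFinite _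
  choose A hAM hA hAcard hNA hAmem u huA huc using fun M => D.exists_member_sylow hab hs M
  let W : Members G n → Set G := fun M => (A M : Set G) \ center G
  let S : Sylow s G := default
  have hpairs := pairs_le S W A (fun M => normalizer (M.1 : Set G)) (fun M => Set.sdiff_subset)
    (fun M y hy => hy.2) hA (fun M => (hAM M).trans le_normalizer) hNA
    (fun M M' y hy hy' => D.member_disjoint hab (hAM M hy.1) (hAM M' hy'.1) hy.2)
  have hk : ∀ M : Members G n,
      2 * Nat.card M.1 ≤ (W M).ncard * ordCompl[s] (Nat.card (normalizer (M.1 : Set G))) := by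
    intro M
    have hidx : ((A M ⊓ center G : Subgroup G).subgroupOf (A M)).index ≠ 2 := by
      intro h2
      obtain ⟨g, hgt, hgN, hgM⟩ := D.exists_growth hab ht htd M
      have hus : Pel s (u M) := Pel.mem_of_isPGroup (hA M) (huA M)
      have hc : g * u M * g⁻¹ ∈ A M :=
        hAmem M _ ((mem_normalizer_iff.1 hgN _).1 (hAM M (huA M))) (hus.conj g)
      have h1 := (mul_mem_iff_of_index_two h2 (a := (⟨_, hc⟩ : A M)) (b := ⟨(u M)⁻¹, inv_mem (huA M)⟩)).2
        ⟨fun h => absurd (mem_subgroupOf.1 h).2 (notMem_center_conj (huc M) g),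
          fun h => absurd ((Subgroup.inv_mem_iff _).1 ((mem_subgroupOf.1 h).2 : (u M)⁻¹ ∈ center G)) (huc M)⟩
      have h3 : g * u M * g⁻¹ * (u M)⁻¹ ∈ center G := (mem_subgroupOf.1 h1).2
      have h4 := commute_of_comm_mem_center hs.1 ht.1 hst.symm hgt hus h3
      exact hgM (((D.member_spec hab M).2.2 _ (hAM M (huA M)) (huc M)).1 ▸ mem_cen.2 h4)
    have hW := card_le_three_half_diff (huA M) (huc M) hidx
    have hk := mul_ordCompl_le (le_normalizer (H := M.1)) hs.1 ht.1 hst.symm (D.dvd_relIndex hab ht htd M)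
    have he := ordCompl_mul_sylow (hAcard M)
    nlinarith [Nat.mul_le_mul hW hk,
      Nat.mul_le_mul_left (ordCompl[s] (Nat.card M.1) * Nat.card (A M)) ht3]
  have hsum : 2 * ∑ M : Members G n, Nat.card M.1 ≤
      ∑ M : Members G n, (W M).ncard * ordCompl[s] (Nat.card (normalizer (M.1 : Set G))) := by
    rw [Finset.mul_sum]; exact Finset.sum_le_sum fun M _ => hk M
  have hSd : (((S : Subgroup G) : Set G) \ center G).ncard ≤ Nat.card (S : Subgroup G) :=
    (Set.ncard_le_ncard Set.sdiff_subset).trans_eq (Nat.card_coe_set_eq _).symm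
  have h2 : 2 * ∑ M : Members G n, Nat.card M.1 ≤ Nat.card G :=
    Nat.le_of_mul_le_mul_right ((Nat.mul_le_mul_right _ hsum).trans (hpairs.trans
      (Nat.mul_le_mul_left _ hSd))) (Nat.card_pos (α := (S : Subgroup G)))
  have h3 := D.card_typeSet hab
  have := Nat.le_mul_of_pos_left (Nat.card (center G)) (Fintype.card_pos : 0 < Fintype.card (Members G n))
  omega

/-- The bound for a size with two primes, outside the self-normalizing Hall case. -/
theorem half_bound {s t : ℕ} (hs : Occ G n s) (ht : Occ G n t) (hst : s ≠ t) (h : ¬ SelfFull G n) :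
    2 * (typeSet G n).ncard + 2 * Nat.card (center G) ≤ Nat.card G := by
  have hab := D.abelian hs ht hst
  obtain ⟨u, -, huc, hun⟩ := hs.2
  have hne : Nonempty (Members G n) := ⟨⟨cen u, u, huc, hun, rfl⟩⟩
  by_cases hf : ∃ q, Occ G n q ∧ ¬ q ∣ n
  · obtain ⟨q, hq, hqd⟩ := hf
    refine D.half_of_full hab hq hqd hne.some ?_
    by_cases hn : ∃ q', Occ G n q' ∧ q' ∣ n
    · obtain ⟨q', hq', hq'd⟩ := hn
      exact (Nat.mul_le_mul_right _ hq'.1.two_le).trans
        (mul_card_le le_normalizer (D.dvd_relIndex hab hq' hq'd hne.some))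
    · push Not at hn
      have hlt : hne.some.1 ≠ normalizer (hne.some.1 : Set G) := fun e => h ⟨hn, hne.some, e.symm⟩
      have h1 : hne.some.1.relIndex (normalizer (hne.some.1 : Set G)) ≠ 1 := fun e =>
        hlt (le_antisymm le_normalizer (relIndex_eq_one.1 e))
      have h0 : hne.some.1.relIndex (normalizer (hne.some.1 : Set G)) ≠ 0 := index_ne_zero_of_finite
      rw [card_eq_mul_relIndex (le_normalizer (H := hne.some.1)), mul_comm]
      exact Nat.mul_le_mul_left _ (by omega)
  · push Not at hf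
    by_cases ht2 : t = 2
    · exact D.half_of_nonfull hab ht hs hst.symm (by have := hs.1.two_le; omega) (hf s hs) hne
    · exact D.half_of_nonfull hab hs ht hst (by have := ht.1.two_le; omega) (hf t ht) hne

end FHyp

end CfsgLib.Ito
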