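import Cfsg.Agent.Lib.Struct77.Ito.Basic
import Cfsg.Agent.Lib.Coprime.Basic

/-!
Arithmetical lemmas used when counting centralizers.
-/

set_option autoImplicit false

namespace CfsgLib.Ito

open Subgroup CfsgLib.Structure81.CoprimeClass

universe u

variable {G : Type u} [Group G] [Finite G]

theorem dvd_relIndex_of_pel {M N : Subgroup G} {t : ℕ} (ht : t.Prime) (hMN : N ≤ normalizer (M : Set G))
    {g : G} (hg : g ∈ N) (hgM : g ∉ M) (hgt : Pel t g) : t ∣ M.relIndex N := by
  have hn : (M.subgroupOf N).Normal := normal_subgroupOf_of_le_normalizer hMN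
  set q : N ⧸ M.subgroupOf N := QuotientGroup.mk ⟨g, hg⟩
  obtain ⟨k, hk⟩ := hgt
  have h1 : q ^ t ^ k = 1 := by
    rw [← QuotientGroup.mk_pow, QuotientGroup.eq_one_iff, mem_subgroupOf, SubgroupClass.coe_pow]
    simp [hk]
  have h2 : q ≠ 1 := fun h => hgM (mem_subgroupOf.1 ((QuotientGroup.eq_one_iff _).1 h))
  obtain ⟨j, hj⟩ := Pel.exists_orderOf ht (⟨k, h1⟩ : Pel t q)
  rw [relIndex, index_eq_card]
  exact (dvd_pow_self t fun h0 => h2 (orderOf_eq_one_iff.1 (by rw [hj, h0, pow_zero]))).trans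
    (hj ▸ orderOf_dvd_natCard q)

theorem card_eq_mul_relIndex {M N : Subgroup G} (h : M ≤ N) :
    Nat.card N = Nat.card M * M.relIndex N := by
  rw [relIndex, ← Nat.card_congr (subgroupOfEquivOfLe h).toEquiv, (M.subgroupOf N).card_mul_index]

theorem mul_card_le {M N : Subgroup G} (h : M ≤ N) {t : ℕ} (ht : t ∣ M.relIndex N) :
    t * Nat.card M ≤ Nat.card N := by
  rw [card_eq_mul_relIndex h, mul_comm]
  exact Nat.mul_le_mul_left _
    (Nat.le_of_dvd (Nat.pos_of_ne_zero index_ne_zero_of_finite) ht)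

theorem mul_ordCompl_le {M N : Subgroup G} (h : M ≤ N) {s t : ℕ} (hs : s.Prime) (ht : t.Prime)
    (hts : t ≠ s) (hd : t ∣ M.relIndex N) :
    t * ordCompl[s] (Nat.card M) ≤ ordCompl[s] (Nat.card N) := by
  rw [card_eq_mul_relIndex h, Nat.ordCompl_mul, mul_comm]
  refine Nat.mul_le_mul_left _ (Nat.le_of_dvd (Nat.ordCompl_pos s index_ne_zero_of_finite) ?_)
  refine (((Nat.coprime_primes ht hs).2 hts).pow_right ((M.relIndex N).factorization s)).dvd_of_dvd_mul_left ?_
  rw [Nat.ordProj_mul_ordCompl_eq_self]; exact hd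

theorem ordCompl_mul_sylow {M A : Subgroup G} {s : ℕ} (hA : Nat.card A = s ^ ff s M) :
    ordCompl[s] (Nat.card M) * Nat.card A = Nat.card M := by
  rw [hA, ff, mul_comm, Nat.ordProj_mul_ordCompl_eq_self]

theorem ncard_diff_center (A : Subgroup G) :
    ((A : Set G) \ center G).ncard + Nat.card (A ⊓ center G : Subgroup G) = Nat.card A := by
  rw [add_comm, show Nat.card A = (A : Set G).ncard from Nat.card_coe_set_eq _,
    show Nat.card (A ⊓ center G : Subgroup G) = ((A : Set G) ∩ center G).ncard from Nat.card_coe_set_eq _]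
  exact Set.ncard_inter_add_ncard_sdiff_eq_ncard _ _

theorem card_le_two_diff {A : Subgroup G} {u : G} (hu : u ∈ A) (huc : u ∉ center G) :
    Nat.card A ≤ 2 * ((A : Set G) \ center G).ncard := by
  have h1 := ncard_diff_center A
  obtain ⟨c, hc⟩ := card_dvd_of_le (inf_le_left : A ⊓ center G ≤ A)
  rcases Nat.lt_or_ge c 2 with h | h
  · exfalso
    have h2 : A ⊓ center G = A := eq_of_le_of_card_ge inf_le_left (by
      rw [hc]; exact (Nat.mul_le_mul_left _ (Nat.lt_succ_iff.1 h)).trans (le_of_eq (mul_one _)))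
    exact huc (inf_eq_left.1 h2 hu)
  · have := Nat.mul_le_mul_left (Nat.card (A ⊓ center G : Subgroup G)) h
    omega

theorem card_le_three_half_diff {A : Subgroup G} {u : G} (hu : u ∈ A) (huc : u ∉ center G)
    (h2 : ((A ⊓ center G : Subgroup G).subgroupOf A).index ≠ 2) :
    2 * Nat.card A ≤ 3 * ((A : Set G) \ center G).ncard := by
  have h1 := ncard_diff_center A
  have hc := card_eq_mul_relIndex (inf_le_left : A ⊓ center G ≤ A)
  have h0 : (A ⊓ center G).relIndex A ≠ 0 := index_ne_zero_of_finite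
  have h3 : (A ⊓ center G).relIndex A ≠ 2 := h2
  have h4 : (A ⊓ center G).relIndex A ≠ 1 := fun h4 =>
    huc ((relIndex_eq_one.1 h4) hu).2
  have h5 := Nat.mul_le_mul_left (Nat.card (A ⊓ center G : Subgroup G))
    (show 3 ≤ (A ⊓ center G).relIndex A by omega)
  omega

/-- A prime without noncentral elements of its power order. -/
theorem ff_center_of_not_live {s : ℕ} (hs : s.Prime) (h : ¬ Live G s) :
    ff s (center G) = (Nat.card G).factorization s := by
  refine le_antisymm ((ff_mono le_top).trans_eq ?_) ?_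
  · rw [ff, Subgroup.card_top]
  · by_contra hlt
    obtain ⟨u, -, hu, huc⟩ := exists_pel_of_ff_lt hs (H := (⊤ : Subgroup G))
      (by rw [ff, ff, Subgroup.card_top] at *; omega)
    exact h ⟨hs, u, hu, huc⟩

/-- Two nilpotent subgroups covering all prime parts of the order. -/
theorem isSolvable_of_parts {A B : Subgroup G} (hA : Group.IsNilpotent A) (hB : Group.IsNilpotent B)
    (h : ∀ q : ℕ, q.Prime → (Nat.card G).factorization q + ff q (A ⊓ B) ≤ ff q A + ff q B) :
    Group.IsSolvable G := by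
  refine isSolvable_of_card hA hB (Nat.le_of_dvd (Nat.mul_pos Nat.card_pos Nat.card_pos) ?_)
  have h0 : Nat.card G * Nat.card (A ⊓ B : Subgroup G) ≠ 0 :=
    (Nat.mul_pos Nat.card_pos Nat.card_pos).ne'
  refine (Nat.factorization_le_iff_dvd h0 (Nat.mul_pos Nat.card_pos Nat.card_pos).ne').1 fun q => ?_
  by_cases hq : q.Prime
  · rw [Nat.factorization_mul Nat.card_pos.ne' Nat.card_pos.ne',
      Nat.factorization_mul Nat.card_pos.ne' Nat.card_pos.ne', Finsupp.add_apply, Finsupp.add_apply]
    exact h q hq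
  · rw [Nat.factorization_eq_zero_of_not_prime _ hq]; exact Nat.zero_le _

end CfsgLib.Ito
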