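import Cfsg.Agent.Lib.Struct77.Ito.Setup
import Cfsg.Agent.Lib.Struct77.Ito.Counting
import Cfsg.Agent.Lib.Coprime.Action

/-!
Groups with two nontrivial class sizes and no inclusion between centralizers.
-/

set_option autoImplicit false

namespace CfsgLib.Ito

open Subgroup CfsgLib.Structure81.CoprimeClass

universe u

variable {G : Type u} [Group G] [Finite G] {a b : ℕ}

/-- Two nontrivial class sizes, and no proper inclusion between centralizers. -/
structure FHyp (G : Type u) [Group G] (a b : ℕ) : Prop where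
  ns : ¬ Group.IsSolvable G
  ne : a ≠ b
  sizes : ∀ x : G, x ∉ center G → idx x = a ∨ idx x = b
  exa : ∃ x : G, x ∉ center G ∧ idx x = a
  exb : ∃ x : G, x ∉ center G ∧ idx x = b
  eq_of_le : ∀ x y : G, y ∉ center G → cen x ≤ cen y → cen x = cen y

/-- A prime occurring in the elements of class size `n`. -/
def Occ (G : Type u) [Group G] (n s : ℕ) : Prop :=
  s.Prime ∧ ∃ u : G, Pel s u ∧ u ∉ center G ∧ idx u = n

/-- The centralizers of class size `n` are commutative. -/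
def Ab (G : Type u) [Group G] (n : ℕ) : Prop :=
  ∀ x : G, x ∉ center G → idx x = n → ∀ p ∈ cen x, ∀ q ∈ cen x, Commute p q

/-- The elements of class size `n`. -/
def typeSet (G : Type u) [Group G] (n : ℕ) : Set G := {x | x ∉ center G ∧ idx x = n}

/-- The centralizers of class size `n`. -/
abbrev Members (G : Type u) [Group G] (n : ℕ) : Type u :=
  {M : Subgroup G // ∃ x : G, x ∉ center G ∧ idx x = n ∧ cen x = M}

theorem Occ.live {n s : ℕ} (h : Occ G n s) : Live G s :=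
  let ⟨hs, u, hu, huc, _⟩ := h; ⟨hs, u, hu, huc⟩

theorem isNilpotent_of_comm {A : Subgroup G} (h : ∀ p ∈ A, ∀ q ∈ A, Commute p q) :
    Group.IsNilpotent A := by
  let _ : CommGroup A :=
    { (inferInstance : Group A) with mul_comm := fun x y => Subtype.ext (h x x.2 y y.2).eq }
  infer_instance

namespace FHyp

variable (D : FHyp G a b)
include D

theorem symm : FHyp G b a :=
  ⟨D.ns, D.ne.symm, fun x hx => (D.sizes x hx).symm, D.exb, D.exa, D.eq_of_le⟩

theorem same_cen {v w : G} (hv : v ∉ center G) (hw : w ∉ center G) (hc : Commute v w)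
    (hco : (orderOf v).Coprime (orderOf w)) : cen v = cen w := by
  rw [← D.eq_of_le (v * w) v hv (cen_mul_le_left hc hco),
    D.eq_of_le (v * w) w hw ((cen_mul hc hco).le.trans inf_le_right)]

theorem same_part {x : G} {e : ℕ} (h : x ^ e ∉ center G) : cen (x ^ e) = cen x :=
  (D.eq_of_le x _ h (cen_le_cen_pow x e)).symm

theorem exists_primary {x : G} (hx : x ∉ center G) :
    ∃ (l : ℕ) (x' : G), l.Prime ∧ Pel l x' ∧ x' ∉ center G ∧ cen x' = cen x := by
  obtain ⟨l, e, hl, h1, h2⟩ := exists_part hx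
  exact ⟨l, x ^ e, hl, h1, h2, D.same_part h2⟩

theorem occ_of_mem {x v : G} {s : ℕ} (hs : s.Prime) (hx : x ∉ center G) (hv : v ∈ cen x)
    (hvs : Pel s v) (hvc : v ∉ center G) : Occ G (idx x) s := by
  obtain ⟨l, x', hl, hx'l, hx'c, he⟩ := D.exists_primary hx
  by_cases hls : l = s
  · subst hls
    exact ⟨hl, x', hx'l, hx'c, by rw [idx, he]⟩
  · refine ⟨hs, v, hvs, hvc, ?_⟩
    rw [idx, D.same_cen hvc hx'c (mem_cen.1 (he ▸ hv)) (Pel.coprime hs hl (Ne.symm hls) hvs hx'l), he]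

theorem occ_ff {x : G} {n s : ℕ} (h : Occ G n s) (hn : idx x = n) :
    ff s (center G) < ff s (cen x) := by
  obtain ⟨hs, u, hu, huc, hun⟩ := h
  rw [ff_cen_eq (x := x) (y := u) (by rw [hn, hun])]
  exact ff_lt_of_pel hs (center_le_cen u) (mem_cen_self u) hu huc

theorem occ_exists : ∃ s, Occ G a s := by
  obtain ⟨x, hx, hxa⟩ := D.exa
  obtain ⟨l, x', hl, h1, h2, h3⟩ := D.exists_primary hx
  exact ⟨l, hl, x', h1, h2, by rw [idx, h3]; exact hxa⟩

theorem live_cases {s : ℕ} (h : Live G s) : Occ G a s ∨ Occ G b s := by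
  obtain ⟨hs, u, hu, huc⟩ := h
  rcases D.sizes u huc with h1 | h1
  · exact Or.inl ⟨hs, u, hu, huc, h1⟩
  · exact Or.inr ⟨hs, u, hu, huc, h1⟩

theorem abelian {n s t : ℕ} (hs : Occ G n s) (ht : Occ G n t) (hst : s ≠ t) : Ab G n := by
  intro x hx hxn p hp q hq
  obtain ⟨l, x', hl, hx'l, hx'c, he⟩ := D.exists_primary hx
  obtain ⟨k, hk, hkl⟩ : ∃ k, Occ G n k ∧ k ≠ l := by
    by_cases hsl : s = l
    · exact ⟨t, ht, fun h => hst (hsl.trans h.symm)⟩
    · exact ⟨s, hs, hsl⟩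
  obtain ⟨w, hwx, hwk, hwc⟩ := exists_pel_of_ff_lt hk.1 (D.occ_ff hk hxn)
  have hew : cen w = cen x := (D.same_cen hwc hx'c (mem_cen.1 (he ▸ hwx))
    (Pel.coprime hk.1 hl hkl hwk hx'l)).trans he
  have key : p ∈ centralizer (cen x : Set G) := by
    refine mem_of_parts fun e r j hr hj => ?_
    have hpe : p ^ e ∈ cen x := pow_mem hp e
    have hpr : Pel r (p ^ e) := ⟨j, hj ▸ pow_orderOf_eq_one _⟩
    refine mem_centralizer_iff.2 fun y hy => ?_
    by_cases hpc : p ^ e ∈ center G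
    · exact mem_center_iff.1 hpc y
    have hce : cen (p ^ e) = cen x := by
      by_cases hrl : r = l
      · refine (D.same_cen hpc hwc (mem_cen.1 (hew ▸ hpe)) (Pel.coprime hr hk.1 ?_ hpr hwk)).trans hew
        exact hrl ▸ hkl.symm
      · exact (D.same_cen hpc hx'c (mem_cen.1 (he ▸ hpe)) (Pel.coprime hr hl hrl hpr hx'l)).trans he
    exact (mem_cen.1 (hce ▸ hy)).eq
  exact (mem_centralizer_iff.1 key q hq).symm

section AbFacts

variable {n : ℕ} (hab : Ab G n)
include hab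

theorem cen_eq {x y : G} (hx : x ∉ center G) (hxn : idx x = n) (hy : y ∈ cen x) (hyc : y ∉ center G) :
    cen y = cen x :=
  (D.eq_of_le x y hyc fun z hz => mem_cen.2 (hab x hx hxn z hz y hy)).symm

theorem idx_of_mem {x y : G} (hx : x ∉ center G) (hxn : idx x = n) (hy : y ∈ cen x)
    (hyc : y ∉ center G) : idx y = n := by
  rw [idx, D.cen_eq hab hx hxn hy hyc]; exact hxn

theorem member_spec (M : Members G n) :
    center G ≤ M.1 ∧ (∀ p ∈ M.1, ∀ q ∈ M.1, Commute p q) ∧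
      ∀ y ∈ M.1, y ∉ center G → cen y = M.1 ∧ idx y = n := by
  obtain ⟨M, x, hx, hxn, rfl⟩ := M
  exact ⟨center_le_cen x, hab x hx hxn, fun y hy hyc =>
    ⟨D.cen_eq hab hx hxn hy hyc, D.idx_of_mem hab hx hxn hy hyc⟩⟩

theorem member_disjoint {M M' : Members G n} {y : G} (h : y ∈ M.1) (h' : y ∈ M'.1)
    (hyc : y ∉ center G) : M = M' :=
  Subtype.ext (((D.member_spec hab M).2.2 y h hyc).1.symm.trans ((D.member_spec hab M').2.2 y h' hyc).1)

theorem mem_normalizer_member {M : Members G n} {y g : G} (hy : y ∈ M.1) (hyc : y ∉ center G)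
    (h : g * y * g⁻¹ ∈ M.1) : g ∈ normalizer (M.1 : Set G) := by
  rw [← ((D.member_spec hab M).2.2 y hy hyc).1]
  refine mem_normalizer_cen ?_
  rw [((D.member_spec hab M).2.2 y hy hyc).1,
    ((D.member_spec hab M).2.2 _ h (notMem_center_conj hyc g)).1]

theorem card_typeSet [Fintype (Members G n)] :
    (typeSet G n).ncard + Fintype.card (Members G n) * Nat.card (center G) =
      ∑ M : Members G n, Nat.card M.1 := by
  have hT : typeSet G n = ⋃ M : Members G n, (M.1 : Set G) \ center G := by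
    ext y
    constructor
    · rintro ⟨hy, hyn⟩
      exact Set.mem_iUnion.2 ⟨⟨cen y, y, hy, hyn, rfl⟩, mem_cen_self y, hy⟩
    · intro h
      obtain ⟨M, hM, hyc⟩ := Set.mem_iUnion.1 h
      exact ⟨hyc, ((D.member_spec hab M).2.2 y hM hyc).2⟩
  rw [hT, Set.ncard_iUnion_of_finite (fun _ => Set.toFinite _) (fun M M' hne =>
    Set.disjoint_left.2 fun y h h' => hne (D.member_disjoint hab h.1 h'.1 h.2)),
    finsum_eq_sum_of_fintype, Fintype.card_eq_sum_ones, Finset.sum_mul, ← Finset.sum_add_distrib]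
  refine Finset.sum_congr rfl fun M _ => ?_
  rw [one_mul]
  have := ncard_diff_center M.1
  rwa [inf_eq_right.2 (D.member_spec hab M).1] at this

theorem exists_growth {t : ℕ} (ht : Occ G n t) (hdvd : t ∣ n) (M : Members G n) :
    ∃ g : G, Pel t g ∧ g ∈ normalizer (M.1 : Set G) ∧ g ∉ M.1 := by
  have := Fact.mk ht.1
  obtain ⟨x, hx, hxn, hM⟩ := M.2
  obtain ⟨A, hAM, hA, hAcard, -⟩ := exists_sylow_sub M.1 t
  have hnA : M.1 ≤ normalizer (A : Set G) := fun m hm =>
    Coprime.mem_normalizer_of_forall_conj fun q hq => by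
      rw [((D.member_spec hab M).2.1 m hm q (hAM hq)).eq, mul_inv_cancel_right]; exact hq
  have hn0 : n ≠ 0 := hxn ▸ index_ne_zero_of_finite
  have hlt : ff t M.1 < (Nat.card G).factorization t := by
    have h1 := ff_add_idx t x
    rw [hxn, hM] at h1
    have := ht.1.factorization_pos_of_dvd hn0 hdvd
    omega
  obtain ⟨g, hgt, hgA, hgA'⟩ := exists_normalizing hAcard hlt
  obtain ⟨v, hv, hvt, hvc⟩ := exists_pel_of_ff_lt ht.1 (hM ▸ D.occ_ff ht hxn : ff t (center G) < ff t M.1)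
  have hvA : v ∈ A := mem_of_pel hAM hAcard hnA hv hvt
  exact ⟨g, hgt, D.mem_normalizer_member hab hv hvc (hAM ((mem_normalizer_iff.1 hgA v).1 hvA)),
    fun h => hgA' (mem_of_pel hAM hAcard hnA h hgt)⟩

theorem dvd_relIndex {t : ℕ} (ht : Occ G n t) (hdvd : t ∣ n) (M : Members G n) :
    t ∣ M.1.relIndex (normalizer (M.1 : Set G)) := by
  obtain ⟨g, h1, h2, h3⟩ := D.exists_growth hab ht hdvd M
  exact dvd_relIndex_of_pel ht.1 le_rfl h2 h3 h1

/-- The Sylow subgroup of a member. -/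
theorem exists_member_sylow {s : ℕ} (hs : Occ G n s) (M : Members G n) :
    ∃ A : Subgroup G, A ≤ M.1 ∧ IsPGroup s A ∧ Nat.card A = s ^ ff s M.1 ∧
      normalizer (M.1 : Set G) ≤ normalizer (A : Set G) ∧ (∀ y ∈ M.1, Pel s y → y ∈ A) ∧
      ∃ u ∈ A, u ∉ center G := by
  have := Fact.mk hs.1
  obtain ⟨A, hAM, hA, hAcard, -⟩ := exists_sylow_sub M.1 s
  have hnA : M.1 ≤ normalizer (A : Set G) := fun m hm =>
    Coprime.mem_normalizer_of_forall_conj fun q hq => by
      rw [((D.member_spec hab M).2.1 m hm q (hAM hq)).eq, mul_inv_cancel_right]; exact hq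
  obtain ⟨x, hx, hxn, hM⟩ := M.2
  obtain ⟨u, hu, hus, huc⟩ := exists_pel_of_ff_lt hs.1 (hM ▸ D.occ_ff hs hxn : ff s (center G) < ff s M.1)
  refine ⟨A, hAM, hA, hAcard, fun g hg => Coprime.mem_normalizer_of_forall_conj fun q hq => ?_,
    fun y hy hys => mem_of_pel hAM hAcard hnA hy hys, u, mem_of_pel hAM hAcard hnA hu hus, huc⟩
  exact mem_of_pel hAM hAcard hnA ((mem_normalizer_iff.1 hg q).1 (hAM hq))
    ((Pel.mem_of_isPGroup hA hq).conj g)

/-- A prime not dividing the class size: a conjugate of each element lies in each member. -/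
theorem exists_conj_mem {s : ℕ} (hs : s.Prime) (hfull : ¬ s ∣ n) (M : Members G n) {v : G}
    (hv : Pel s v) : ∃ g : G, g * v * g⁻¹ ∈ M.1 := by
  have := Fact.mk hs
  obtain ⟨x, hx, hxn, hM⟩ := M.2
  obtain ⟨A, hAM, hA, hAcard, -⟩ := exists_sylow_sub M.1 s
  let S : Sylow s G := Sylow.ofCard A (by
    have h1 := ff_add_idx s x
    rw [hxn, hM, Nat.factorization_eq_zero_of_not_dvd hfull, add_zero] at h1
    rw [hAcard, h1])
  obtain ⟨R, hR⟩ := (Pel.isPGroup_zpowers hs hv).exists_le_sylow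
  obtain ⟨g, hg⟩ := MulAction.exists_smul_eq G R S
  refine ⟨g, hAM ?_⟩
  show g * v * g⁻¹ ∈ (S : Subgroup G)
  rw [← hg]
  exact ⟨v, hR (mem_zpowers v), rfl⟩

theorem not_occ_other {s m : ℕ} (hex : Nonempty (Members G n)) (hfull : ¬ s ∣ n) (hmn : m ≠ n) :
    ¬ Occ G m s := by
  rintro ⟨hs, v, hv, hvc, hvm⟩
  obtain ⟨g, hg⟩ := D.exists_conj_mem hab hs hfull hex.some hv
  refine hmn ?_
  rw [← hvm, ← idx_conj v g]
  exact ((D.member_spec hab hex.some).2.2 _ hg (notMem_center_conj hvc g)).2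

theorem conj_member {s : ℕ} (hs : Occ G n s) (hfull : ¬ s ∣ n) (M₀ : Members G n) {y : G}
    (hy : y ∈ typeSet G n) : ∃ g : G, g * y * g⁻¹ ∈ (M₀.1 : Set G) \ center G := by
  obtain ⟨v, hv, hvs, hvc⟩ := exists_pel_of_ff_lt hs.1 (D.occ_ff hs hy.2)
  obtain ⟨g, hg⟩ := D.exists_conj_mem hab hs.1 hfull M₀ hvs
  refine ⟨g, ?_, notMem_center_conj hy.1 g⟩
  rw [← ((D.member_spec hab M₀).2.2 _ hg (notMem_center_conj hvc g)).1, cen_conj]
  exact ⟨y, mem_cen_comm.1 hv, rfl⟩

end AbFacts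

end FHyp

end CfsgLib.Ito
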