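import Cfsg.Agent.Lib.Struct77.Ito.Ratio
import Cfsg.Agent.Lib.InvChar.Kazarin
import Cfsg.Agent.Lib.Coprime.Action
import Cfsg.Agent.S4035

/-!
No non-solvable group with three class sizes has a proper inclusion between centralizers.
-/

set_option autoImplicit false

namespace CfsgLib.Ito

open Subgroup CfsgLib.Structure81.CoprimeClass

universe u

variable {G : Type u} [Group G] [Finite G] {n₁ n₂ : ℕ}

/-- The normal Sylow subgroup of a centralizer and its complement. -/
structure Split (s : ℕ) (u : G) (A K : Subgroup G) : Prop where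
  leA : A ≤ cen u
  leK : K ≤ cen u
  pgrp : IsPGroup s A
  card : Nat.card A = s ^ ff s (cen u)
  mem : ∀ x ∈ cen u, Pel s x → x ∈ A
  memK : ∀ (t : ℕ) (x : G), t.Prime → t ≠ s → x ∈ cen u → Pel t x → x ∈ K
  comm : ∀ a ∈ A, ∀ b ∈ K, Commute a b
  sup : cen u = A ⊔ K
  normK : cen u ≤ normalizer (K : Set G)
  coprime : ¬ s ∣ Nat.card K

namespace Data

variable (D : Data G n₁ n₂)
include D

theorem exists_split {s : ℕ} [hs : Fact s.Prime] (hsr : ¬ s ∣ n₁ / n₂) {u : G} (hus : Pel s u)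
    (huc : u ∉ center G) : ∃ A K : Subgroup G, Split s u A K := by
  let P : Sylow s (cen u) := default
  have hh : ∀ w : cen u, (orderOf w).Coprime s → ¬ s ∣ (ConjClasses.mk w).carrier.ncard := by
    intro w hw
    rw [ncard_class_sub]
    have hco : (orderOf u).Coprime (orderOf (w : G)) := by
      obtain ⟨k, hk⟩ := hus.exists_orderOf hs.out
      rw [hk, orderOf_coe]; exact (hw.symm).pow_left k
    rcases D.rel_cases huc (mem_cen.1 w.2).symm hco with h | ⟨-, -, h⟩ <;> rw [h]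
    · exact hs.out.not_dvd_one
    · exact hsr
  obtain ⟨hP, H, hH, hHs, hinf, hsup⟩ := Cfsg.Agent.S4035.result hh P
  have hdis : Disjoint (P : Subgroup (cen u)) H := disjoint_iff.2 hinf
  have hsurj : (P : Subgroup (cen u)).map (cen u).subtype ⊔ H.map (cen u).subtype = cen u := by
    rw [← Subgroup.map_sup, hsup, ← MonoidHom.range_eq_map, range_subtype]
  have hidx : H.index = Nat.card P := by
    have h1 := Coprime.card_sup_of_disjoint (H := (P : Subgroup (cen u))) (N := H)
      (by rw [Subgroup.normalizer_eq_top_iff.2 hH]; exact le_top) (by rw [inf_comm]; exact hinf)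
    rw [hsup, Subgroup.card_top, ← H.card_mul_index, mul_comm (Nat.card P)] at h1
    exact Nat.eq_of_mul_eq_mul_left Nat.card_pos h1
  refine ⟨(P : Subgroup (cen u)).map (cen u).subtype, H.map (cen u).subtype,
    map_subtype_le _, map_subtype_le _, P.isPGroup'.map _, ?_, fun x hx hxs => ?_,
    fun t x ht hts hx hxt => ?_, ?_, hsurj.symm, ?_, ?_⟩
  · rw [card_map_of_injective (cen u).subtype_injective, P.card_eq_multiplicity]; rfl
  · obtain ⟨k, hk⟩ := hxs
    obtain ⟨R, hR⟩ := (Pel.isPGroup_zpowers hs.out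
      (⟨k, Subtype.ext hk⟩ : Pel s (⟨x, hx⟩ : cen u))).exists_le_sylow
    have := Sylow.unique_of_normal P hP
    have hRP : R = P := Subsingleton.elim _ _
    exact ⟨⟨x, hx⟩, hRP ▸ hR (mem_zpowers _), rfl⟩
  · refine ⟨⟨x, hx⟩, ?_, rfl⟩
    have h1 : (⟨x, hx⟩ : cen u) ^ H.index ∈ H := Subgroup.pow_index_mem H _
    have hco : (orderOf (⟨x, hx⟩ : cen u)).Coprime H.index := by
      obtain ⟨j, hj⟩ := hxt.exists_orderOf ht
      obtain ⟨i, hi⟩ := P.isPGroup'.exists_card_eq
      rw [Subgroup.orderOf_mk, hj, hidx, hi]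
      exact Nat.Coprime.pow j i ((Nat.coprime_primes ht hs.out).2 hts)
    obtain ⟨m, hm⟩ := exists_pow_eq_self_of_coprime hco.symm
    exact hm ▸ pow_mem h1 m
  · rintro _ ⟨a, ha, rfl⟩ _ ⟨b, hb, rfl⟩
    exact (Subgroup.commute_of_normal_of_disjoint _ _ hP hH hdis a b ha hb).map (cen u).subtype
  · intro g hg
    exact mem_normalizer_iff.2 fun y => ⟨fun ⟨z, hz, e⟩ => ⟨⟨g, hg⟩ * z * ⟨g, hg⟩⁻¹, hH.conj_mem z hz _,
      by rw [← e]; rfl⟩, fun ⟨z, hz, e⟩ => ⟨⟨g, hg⟩⁻¹ * z * ⟨g, hg⟩⁻¹⁻¹, hH.conj_mem z hz _, by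
        show g⁻¹ * (z : G) * g⁻¹⁻¹ = y
        rw [show (z : G) = g * y * g⁻¹ from e]; group⟩⟩
  · rwa [card_map_of_injective (cen u).subtype_injective]

end Data

/-- The hypotheses of the inclusion case. -/
structure Bad (G : Type u) [Group G] (n₁ n₂ l₀ : ℕ) : Prop where
  data : Data G n₁ n₂
  hl₀ : l₀.Prime
  hdvd : n₂ ∣ n₁
  hr : ∀ p : ℕ, p.Prime → p ∣ n₁ / n₂ → p = l₀
  hfac : ∀ s : ℕ, s.Prime → s ≠ l₀ → n₁.factorization s = n₂.factorization s

namespace Bad

variable {l₀ : ℕ} (B : Bad G n₁ n₂ l₀)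
include B

theorem not_dvd {s : ℕ} (hs : s.Prime) (hsl : s ≠ l₀) : ¬ s ∣ n₁ / n₂ := fun h => hsl (B.hr s hs h)

theorem ff_const {s : ℕ} (hs : s.Prime) (hsl : s ≠ l₀) {x y : G} (hx : x ∉ center G)
    (hy : y ∉ center G) : ff s (cen x) = ff s (cen y) := by
  refine ff_cen_eq ?_
  rcases B.data.sizes x hx with h | h <;> rcases B.data.sizes y hy with h' | h' <;> rw [h, h']
  · exact (B.hfac s hs hsl).symm
  · exact B.hfac s hs hsl

theorem ff_lt {s : ℕ} (hs : Live G s) (hsl : s ≠ l₀) {x : G} (hx : x ∉ center G) :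
    ff s (center G) < ff s (cen x) := by
  obtain ⟨hp, u, hu, huc⟩ := hs
  rw [B.ff_const hp hsl hx huc]
  exact ff_lt_of_pel hp (center_le_cen u) (mem_cen_self u) hu huc

theorem commutative {s : ℕ} (hs : s.Prime) (hsl : s ≠ l₀) {u : G} (hus : Pel s u) (huc : u ∉ center G)
    {A K : Subgroup G} (hA : Split s u A K) : ∀ a ∈ A, ∀ b ∈ A, Commute a b := by
  have := Fact.mk hs
  have := Fact.mk B.hl₀
  obtain ⟨t, htl, hts, htl0⟩ := B.data.exists_live hs B.hl₀
  have := Fact.mk htl.1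
  obtain ⟨w, hwu, hwt, hwc⟩ := exists_pel_of_ff_lt htl.1 (B.ff_lt htl htl0 huc)
  obtain ⟨A', K', hA'⟩ := B.data.exists_split (B.not_dvd htl.1 htl0) hwt hwc
  have hwK : w ∈ K := hA.memK t w htl.1 hts hwu hwt
  have hAK' : A ≤ K' := fun a ha => hA'.memK s a hs (Ne.symm hts) (mem_cen.2 (hA.comm a ha w hwK))
    (Pel.mem_of_isPGroup hA.pgrp ha)
  have hcl : ∀ v : K', (orderOf v).Coprime l₀ → ∃ k : ℕ, (ConjClasses.mk v).carrier.ncard = l₀ ^ k := by
    intro v _
    rw [ncard_class_sub]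
    have hd : (cen (v : G)).relIndex K' ∣ (cen (v : G)).relIndex (cen w) :=
      CfsgLib.InvChar.relIndex_dvd_of_le_normalizer hA'.leK hA'.normK
    have hco : (orderOf w).Coprime (orderOf (v : G)) := by
      obtain ⟨k, hk⟩ := hwt.exists_orderOf htl.1
      rw [hk]
      refine Nat.Coprime.pow_left k (htl.1.coprime_iff_not_dvd.2 fun h => hA'.coprime (h.trans ?_))
      rw [orderOf_coe]; exact orderOf_dvd_natCard v
    rcases B.data.rel_cases hwc (mem_cen.1 (hA'.leK v.2)).symm hco with h | ⟨-, -, h⟩ <;> rw [h] at hd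
    · exact ⟨0, by rw [Nat.dvd_one.1 hd, pow_zero]⟩
    · have hr0 : n₁ / n₂ ≠ 0 := fun h0 => B.data.pos₁.ne
        (by have := Nat.div_mul_cancel B.hdvd; rw [h0, zero_mul] at this; exact this)
      exact ⟨_, Nat.eq_prime_pow_of_unique_prime_dvd (fun h0 => by simp [h0] at hd; exact hr0 (by simpa using hd))
        fun {d} hd' hdd => B.hr d hd' (hdd.trans hd)⟩
  obtain ⟨C, hC, -, k, hk⟩ := (Cfsg.Agent.S4034.result B.hl₀).1 hcl
  have hsC : ¬ s ∣ C.index := by
    rw [hk]; exact fun h => hsl ((Nat.prime_dvd_prime_iff_eq hs B.hl₀).1 (hs.dvd_of_dvd_pow h))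
  let T : Sylow s C := default
  let T' : Sylow s K' := Sylow.ofCard ((T : Subgroup C).map C.subtype) (by
    rw [card_map_of_injective C.subtype_injective, T.card_eq_multiplicity, ← C.card_mul_index,
      Nat.factorization_mul Nat.card_pos.ne' index_ne_zero_of_finite, Finsupp.add_apply,
      Nat.factorization_eq_zero_of_not_dvd hsC, add_zero])
  obtain ⟨R, hR⟩ := ((hA.pgrp).of_equiv (subgroupOfEquivOfLe hAK').symm).exists_le_sylow
  obtain ⟨g, hg⟩ := MulAction.exists_smul_eq K' R T'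
  intro a ha b hb
  have key : ∀ c (hc : c ∈ A), g * ⟨c, hAK' hc⟩ * g⁻¹ ∈ C := fun c hc => by
    have : g * (⟨c, hAK' hc⟩ : K') * g⁻¹ ∈ (T' : Subgroup K') := by
      rw [← hg]; exact ⟨_, hR (mem_subgroupOf.2 hc), rfl⟩
    exact map_subtype_le _ this
  have h1 : Commute (g * (⟨a, hAK' ha⟩ : K') * g⁻¹) (g * ⟨b, hAK' hb⟩ * g⁻¹) :=
    congrArg Subtype.val ((hC.is_comm).comm ⟨_, key a ha⟩ ⟨_, key b hb⟩)
  exact (((Commute.conj_iff g).1 h1).map K'.subtype : _)

theorem clean {s : ℕ} (hs : s.Prime) (hsl : s ≠ l₀) {u v : G} (hus : Pel s u) (huc : u ∉ center G)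
    (hvs : Pel s v) (hvc : v ∉ center G) (hv : v ∈ cen u) : cen v = cen u := by
  have := Fact.mk hs
  obtain ⟨A, K, hA⟩ := B.data.exists_split (B.not_dvd hs hsl) hus huc
  obtain ⟨A', K', hA'⟩ := B.data.exists_split (B.not_dvd hs hsl) hvs hvc
  have hvA : v ∈ A := hA.mem v hv hvs
  have hcA := B.commutative hs hsl hus huc hA
  have hAA' : A = A' := by
    refine eq_of_le_of_card_ge (fun a ha => hA'.mem a (mem_cen.2 (hcA a ha v hvA))
      (Pel.mem_of_isPGroup hA.pgrp ha)) (le_of_eq ?_)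
    rw [hA.card, hA'.card, B.ff_const hs hsl huc hvc]
  refine le_antisymm ?_ ?_
  · rw [hA'.sup]
    exact sup_le (hAA'.ge.trans hA.leA) fun b hb => mem_cen.2
      (hA'.comm u (hAA' ▸ hA.mem u (mem_cen_self u) hus) b hb).symm
  · rw [hA.sup]
    exact sup_le (fun a ha => mem_cen.2 (hcA a ha v hvA)) fun b hb => mem_cen.2 (hA.comm v hvA b hb).symm

theorem mem_normalizer_of_sylow {s : ℕ} (hs : s.Prime) (hsl : s ≠ l₀) {u : G} (hus : Pel s u)
    (huc : u ∉ center G) {A K : Subgroup G} (hA : Split s u A K) {g : G}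
    (hg : g ∈ normalizer (A : Set G)) : g ∈ normalizer (cen u : Set G) := by
  refine mem_normalizer_cen (B.clean hs hsl hus huc (hus.conj g) (notMem_center_conj huc g)
    (hA.leA ?_))
  exact (mem_normalizer_iff.1 hg u).1 (hA.mem u (mem_cen_self u) hus)

theorem normalizer_growth {s t : ℕ} (hs : s.Prime) (hsl : s ≠ l₀) (ht : Live G t) (htl : t ≠ l₀)
    (hts : t ≠ s) {u : G} (hus : Pel s u) (huc : u ∉ center G) :
    t ^ (ff t (cen u) + 1) ∣ Nat.card (normalizer (cen u : Set G)) := by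
  have := Fact.mk hs
  have := Fact.mk ht.1
  obtain ⟨w, hwu, hwt, hwc⟩ := exists_pel_of_ff_lt ht.1 (B.ff_lt ht htl huc)
  obtain ⟨A, K, hA⟩ := B.data.exists_split (B.not_dvd hs hsl) hus huc
  obtain ⟨A', K', hA'⟩ := B.data.exists_split (B.not_dvd ht.1 htl) hwt hwc
  -- a `t`-element normalizing the centralizer of `w` from outside
  have hlt : ff t (cen w) < (Nat.card G).factorization t := by
    by_contra hge
    refine hwc (central_of_not_dvd_idx ht.1 (fun x hx => ?_) hwt)
    have hxc : x ∉ center G := fun h => ht.1.not_dvd_one (idx_eq_one_iff.2 h ▸ hx)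
    have h1 := ff_add_idx t x
    have h2 := B.ff_const ht.1 htl hxc hwc
    have h3 := ht.1.factorization_pos_of_dvd (index_ne_zero_of_finite (H := cen x)) hx
    simp only [idx] at h1
    exact absurd h2 (by omega)
  obtain ⟨n, hnt, hnA, hnA'⟩ := exists_normalizing hA'.card hlt
  have hncen : n ∈ normalizer (cen w : Set G) := mem_normalizer_cen
    (B.clean ht.1 htl hwt hwc (hwt.conj n) (notMem_center_conj hwc n)
      (hA'.leA ((mem_normalizer_iff.1 hnA w).1 (hA'.mem w (mem_cen_self w) hwt))))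
  have hnw : n ∉ cen w := fun h => hnA' (hA'.mem n h hnt)
  have hwK : w ∈ K := hA.memK t w ht.1 hts hwu hwt
  have hAw : A ≤ cen w := fun a ha => mem_cen.2 (hA.comm a ha w hwK)
  have hcardA : Nat.card A = s ^ ff s (cen w) := by rw [hA.card, B.ff_const hs hsl huc hwc]
  let R : Sylow s (cen w) := Sylow.ofCard (A.subgroupOf (cen w)) (by
    rw [Nat.card_congr (subgroupOfEquivOfLe hAw).toEquiv, hcardA]; rfl)
  have hnA2 : ∀ a ∈ A, n * a * n⁻¹ ∈ cen w := fun a ha => (mem_normalizer_iff.1 hncen a).1 (hAw ha)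
  let An : Subgroup G := A.map (MulAut.conj n).toMonoidHom
  let R' : Sylow s (cen w) := Sylow.ofCard (An.subgroupOf (cen w)) (by
    rw [Nat.card_congr (subgroupOfEquivOfLe (by rintro _ ⟨a, ha, rfl⟩; exact hnA2 a ha : An ≤ cen w)).toEquiv,
      card_map_of_injective (MulAut.conj n).injective, hcardA]; rfl)
  obtain ⟨c, hc⟩ := MulAction.exists_smul_eq (cen w) R' R
  have hg : (c : G) * n ∈ normalizer (A : Set G) := by
    refine Coprime.mem_normalizer_of_forall_conj fun a ha => ?_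
    have h1 : (⟨n * a * n⁻¹, hnA2 a ha⟩ : cen w) ∈ (R' : Subgroup (cen w)) :=
      mem_subgroupOf.2 ⟨a, ha, rfl⟩
    have h2 : c * ⟨n * a * n⁻¹, hnA2 a ha⟩ * c⁻¹ ∈ (R : Subgroup (cen w)) := by
      rw [← hc]; exact ⟨_, h1, rfl⟩
    have h3 := mem_subgroupOf.1 h2
    rw [show (c : G) * n * a * ((c : G) * n)⁻¹ = (c : G) * (n * a * n⁻¹) * (c : G)⁻¹ by group]
    exact h3
  set N := normalizer (cen u : Set G)
  set Y := N ⊓ normalizer (cen w : Set G)
  have hgY : (c : G) * n ∈ Y :=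
    ⟨B.mem_normalizer_of_sylow hs hsl hus huc hA hg, mul_mem (le_normalizer c.2) hncen⟩
  have hYn : ((cen w).subgroupOf Y).Normal := normal_subgroupOf_of_le_normalizer inf_le_right
  have ht1 : t ∣ ((cen w).subgroupOf Y).index := by
    obtain ⟨k, hk⟩ := hnt
    -- the image of the element has order a power of `t`
    have hpow : ∀ i : ℕ, ((c : G) * n) ^ i * (n ^ i)⁻¹ ∈ cen w := by
      intro i
      induction i with
      | zero => simp
      | succ i ih =>
        rw [show ((c : G) * n) ^ (i + 1) * (n ^ (i + 1))⁻¹ =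
          (c : G) * (n * (((c : G) * n) ^ i * (n ^ i)⁻¹) * n⁻¹) by rw [pow_succ', pow_succ']; group]
        exact mul_mem c.2 ((mem_normalizer_iff.1 hncen _).1 ih)
    set q : Y ⧸ (cen w).subgroupOf Y := QuotientGroup.mk (⟨_, hgY⟩ : Y)
    have h1 : q ^ t ^ k = 1 := by
      rw [← QuotientGroup.mk_pow, QuotientGroup.eq_one_iff, mem_subgroupOf, SubgroupClass.coe_pow]
      have := hpow (t ^ k)
      rwa [hk, inv_one, mul_one] at this
    have h2 : q ≠ 1 := fun h => hnw (by
      have h3 : (c : G) * n ∈ cen w := mem_subgroupOf.1 ((QuotientGroup.eq_one_iff _).1 h)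
      simpa using mul_mem (inv_mem c.2) h3)
    obtain ⟨j, hj⟩ := Pel.exists_orderOf ht.1 (⟨k, h1⟩ : Pel t q)
    rw [index_eq_card]
    refine (dvd_pow_self t fun h0 => h2 (orderOf_eq_one_iff.1 (by rw [hj, h0, pow_zero]))).trans
      (hj ▸ orderOf_dvd_natCard q)
  have hA'u : A' ≤ cen u := fun a ha => mem_cen.2
    (hA'.comm a ha u (hA'.memK s u hs hts.symm (mem_cen_comm.1 hwu) hus))
  have hA'Y : A' ≤ Y := le_inf (hA'u.trans le_normalizer) (hA'.leA.trans le_normalizer)
  have h1 : t ^ ff t (cen u) ∣ Nat.card ((cen w).subgroupOf Y) := by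
    rw [B.ff_const ht.1 htl huc hwc, ← hA'.card, ← Nat.card_congr (subgroupOfEquivOfLe hA'Y).toEquiv]
    exact card_dvd_of_le fun y hy => mem_subgroupOf.2 (hA'.leA (mem_subgroupOf.1 hy))
  rw [pow_succ]
  exact (Nat.mul_dvd_mul h1 ht1).trans (((cen w).subgroupOf Y).card_mul_index ▸ card_dvd_of_le inf_le_left)

open scoped Classical in
theorem false : False := by
  obtain ⟨s, hs, hsl, -⟩ := B.data.exists_live B.hl₀ B.hl₀
  have := Fact.mk hs.1
  obtain ⟨t, ht, hts, htl⟩ := B.data.exists_live hs.1 B.hl₀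
  let ι := {M : Subgroup G // ∃ u, Pel s u ∧ u ∉ center G ∧ cen u = M}
  let _ : Fintype ι := Fintype.ofFinite ι
  have hex : ∀ M : ι, ∃ A K : Subgroup G, ∃ u, Pel s u ∧ u ∉ center G ∧ cen u = M.1 ∧ Split s u A K := by
    intro M
    obtain ⟨u, hus, huc, hu⟩ := M.2
    obtain ⟨A, K, h⟩ := B.data.exists_split (B.not_dvd hs.1 hsl) hus huc
    exact ⟨A, K, u, hus, huc, hu, h⟩
  choose A K u hus huc hu hA using hex
  let N : ι → Subgroup G := fun M => normalizer (M.1 : Set G)
  let W : ι → Set G := fun M => (A M : Set G) \ center G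
  let S : Sylow s G := default
  have hpairs := pairs_le S W A N (fun M => Set.diff_subset) (fun M x hx => hx.2)
    (fun M => (hA M).pgrp) (fun M => ((hA M).leA.trans (hu M).le).trans le_normalizer)
    (fun M g hg => Coprime.mem_normalizer_of_forall_conj fun a ha => (hA M).mem _
      (by rw [hu M]; exact (mem_normalizer_iff.1 hg a).1 (hu M ▸ (hA M).leA ha))
      ((Pel.mem_of_isPGroup (hA M).pgrp ha).conj g))
    (fun M M' x hx hx' => by
      have hxs := Pel.mem_of_isPGroup (hA M).pgrp hx.1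
      have h1 := B.clean hs.1 hsl (hus M) (huc M) hxs hx.2 ((hA M).leA hx.1)
      have h2 := B.clean hs.1 hsl (hus M') (huc M') hxs hx.2 ((hA M').leA hx'.1)
      exact Subtype.ext (by rw [← hu M, ← hu M', ← h1, ← h2]))
  have hk : ∀ M : ι, Nat.card M.1 ≤ (W M).ncard * ordCompl[s] (Nat.card (N M)) := by
    intro M
    have hgrow : t ^ (ff t (cen (u M)) + 1) ∣ Nat.card (normalizer (cen (u M) : Set G)) :=
      B.normalizer_growth hs.1 hsl ht htl hts (hus M) (huc M)
    rw [hu M] at hgrow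
    obtain ⟨e, he⟩ := card_dvd_of_le (le_normalizer (H := M.1))
    have hte : t ∣ e := by
      have he0 : e ≠ 0 := fun h => Nat.card_pos.ne' (he.trans (by rw [h, mul_zero]))
      have h1 := (ht.1.pow_dvd_iff_le_factorization Nat.card_pos.ne').1 hgrow
      rw [he, Nat.factorization_mul Nat.card_pos.ne' he0, Finsupp.add_apply] at h1
      exact Nat.dvd_of_factorization_pos (by simp only [ff] at h1; omega)
    have hNe : ordCompl[s] (Nat.card (N M)) = ordCompl[s] (Nat.card M.1) * ordCompl[s] e := by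
      rw [← Nat.ordCompl_mul]; exact congrArg (fun n => ordCompl[s] n) he
    have hte' : t ≤ ordCompl[s] e := by
      have he0 : e ≠ 0 := fun h => Nat.card_pos.ne' (he.trans (by rw [h, mul_zero]))
      refine Nat.le_of_dvd (Nat.ordCompl_pos s he0) ?_
      refine (((Nat.coprime_primes ht.1 hs.1).2 hts).pow_right (e.factorization s)).dvd_of_dvd_mul_left ?_
      rw [Nat.ordProj_mul_ordCompl_eq_self]; exact hte
    have hAM : ordCompl[s] (Nat.card M.1) * Nat.card (A M) = Nat.card M.1 := by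
      rw [(hA M).card, ← hu M, ff, mul_comm, Nat.ordProj_mul_ordCompl_eq_self]
    have hW : Nat.card (A M) ≤ 2 * (W M).ncard := by
      have h1 : (W M).ncard + Nat.card (A M ⊓ center G : Subgroup G) = Nat.card (A M) := by
        rw [add_comm, ← Nat.card_coe_set_eq]
        simp only [SetLike.coe_sort_coe, Nat.card_coe_set_eq, W]
        rw [show Nat.card (A M) = (A M : Set G).ncard from Nat.card_coe_set_eq _,
          show Nat.card (A M ⊓ center G : Subgroup G) = ((A M : Set G) ∩ center G).ncard from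
            Nat.card_coe_set_eq _]
        exact Set.ncard_inter_add_ncard_sdiff_eq_ncard _ _
      obtain ⟨c, hc⟩ := card_dvd_of_le (inf_le_left : A M ⊓ center G ≤ A M)
      rcases Nat.lt_or_ge c 2 with h | h
      · exfalso
        refine huc M (((inf_le_right : A M ⊓ center G ≤ _) ) ?_)
        have h2 : A M ⊓ center G = A M := eq_of_le_of_card_ge inf_le_left (by
          rw [hc]; exact (Nat.mul_le_mul_left _ (Nat.lt_succ_iff.1 h)).trans (le_of_eq (mul_one _)))
        rw [h2]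
        exact (hA M).mem _ (mem_cen_self _) (hus M)
      · have := Nat.mul_le_mul_left (Nat.card (A M ⊓ center G : Subgroup G)) h
        omega
    rw [hNe]
    have : 2 ≤ t := ht.1.two_le
    nlinarith [Nat.mul_le_mul (Nat.mul_le_mul_left (ordCompl[s] (Nat.card M.1)) hW) hte']
  -- covering
  have hcover : ∀ x : G, x ∉ center G → ∃ M : ι, x ∈ M.1 := by
    intro x hx
    obtain ⟨v, hv, hvs, hvc⟩ := exists_pel_of_ff_lt hs.1 (B.ff_lt hs hsl hx)
    exact ⟨⟨cen v, v, hvs, hvc, rfl⟩, mem_cen_comm.1 hv⟩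
  have hne : Nonempty ι := by
    obtain ⟨x, hx, -⟩ := B.data.ex₁
    exact ⟨(hcover x hx).choose⟩
  have hcount : Nat.card G ≤ ∑ M : ι, Nat.card M.1 := by
    have hsub : (Set.univ : Set G) ⊆ (center G : Set G) ∪ ⋃ M : ι, (M.1 : Set G) \ center G := by
      intro x _
      by_cases hx : x ∈ center G
      · exact Or.inl hx
      · obtain ⟨M, hM⟩ := hcover x hx
        exact Or.inr (Set.mem_iUnion.2 ⟨M, hM, hx⟩)
    have h1 := (Set.ncard_le_ncard hsub (Set.toFinite _)).trans ((Set.ncard_union_le _ _).trans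
      (Nat.add_le_add_left (Set.ncard_iUnion_le_of_fintype _) _))
    rw [Set.ncard_univ] at h1
    have h2 : ∀ M : ι, ((M.1 : Set G) \ center G).ncard + (center G : Set G).ncard = Nat.card M.1 :=
      fun M => by
        rw [Set.ncard_diff_add_ncard_of_subset (by rw [← hu M]; exact center_le_cen (u M))]
        exact (Nat.card_coe_set_eq _).symm
    have h3 : ∑ M : ι, ((M.1 : Set G) \ center G).ncard + Fintype.card ι * (center G : Set G).ncard =
        ∑ M : ι, Nat.card M.1 := by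
      rw [← Finset.sum_congr rfl fun M _ => h2 M, Finset.sum_add_distrib, Finset.sum_const,
        Finset.card_univ, smul_eq_mul]
    have := Nat.le_mul_of_pos_left (center G : Set G).ncard (Fintype.card_pos : 0 < Fintype.card ι)
    omega
  have hsum : ∑ M : ι, Nat.card M.1 ≤ ∑ M : ι, (W M).ncard * ordCompl[s] (Nat.card (N M)) :=
    Finset.sum_le_sum fun M _ => hk M
  have hlt : (((S : Subgroup G) : Set G) \ center G).ncard < Nat.card (S : Subgroup G) := by
    rw [← SetLike.coe_sort_coe, Nat.card_coe_set_eq]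
    exact Set.ncard_lt_ncard ⟨Set.diff_subset, fun h => (h (one_mem (S : Subgroup G))).2 (one_mem _)⟩
      (Set.toFinite _)
  nlinarith [Nat.mul_le_mul_right (Nat.card (S : Subgroup G)) (hcount.trans hsum),
    Nat.mul_lt_mul_of_pos_left hlt (Nat.card_pos (α := G))]

end Bad

theorem Data.not_incl (D : Data G n₁ n₂) : ¬ Incl G := fun hI => by
  obtain ⟨hdvd, l₀, hl₀, hr, hfac⟩ := D.ratio_prime_power hI
  exact Bad.false ⟨D, hl₀, hdvd, hr, hfac⟩

end CfsgLib.Ito
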