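import Cfsg.Agent.Lib.Struct77.Ito.Basic
import Cfsg.Agent.Lib.Coprime.Action
import Cfsg.Agent.Lib.FewOrders.Structure

/-!
A group covered by commutative subgroups meeting trivially and by elements of `l`-power order.
-/

set_option autoImplicit false

namespace CfsgLib.Ito

open Subgroup CfsgLib.Structure81.CoprimeClass

universe u

variable {Q : Type u} [Group Q] [Finite Q] {l : ℕ} {Mem : Subgroup Q → Prop}

/-- The central factor group in the last case of Itô's theorem. -/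
structure PHyp (Q : Type u) [Group Q] (l : ℕ) (Mem : Subgroup Q → Prop) : Prop where
  ns : ¬ Group.IsSolvable Q
  hl : l.Prime
  comm : ∀ M, Mem M → ∀ p ∈ M, ∀ q ∈ M, Commute p q
  cover : ∀ x : Q, x ≠ 1 → ¬ Pel l x → ∃ M, Mem M ∧ x ∈ M
  not_dvd : ∀ M, Mem M → ¬ l ∣ Nat.card M
  disjoint : ∀ M M', Mem M → Mem M' → ∀ x ∈ M, x ∈ M' → x ≠ 1 → M = M'
  sep : ∀ s r : ℕ, s.Prime → r.Prime → s ≠ r → ∀ x y : Q, Pel s x → Pel r y → x ≠ 1 → y ≠ 1 →
    Commute x y → ∃ M, Mem M ∧ x ∈ M ∧ y ∈ M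
  conj : ∀ M, Mem M → ∀ g : Q, Mem (M.map (MulAut.conj g).toMonoidHom)
  pow_mem_of_commute : ∀ M, Mem M → ∀ x ∈ M, x ≠ 1 → ∀ y, Commute x y → y ^ orderOf x ∈ M
  card : ∀ M M', Mem M → Mem M' → Nat.card M = Nat.card M'
  two : ∀ M, Mem M → ∀ r : ℕ, ∃ t, t.Prime ∧ t ≠ r ∧ t ∣ Nat.card M
  nonfull : ∀ M, Mem M → ∃ t, t.Prime ∧ t ∣ Nat.card M ∧ t ∣ M.index

/-- A power of `q` agreeing with `q` modulo a normal subgroup, of prime power order. -/
theorem exists_pel_rep {K : Type u} [Group K] [Finite K] (L : Subgroup K) [L.Normal] {r : ℕ}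
    (hr : r.Prime) {g : K} (hg : Pel r (QuotientGroup.mk g : K ⧸ L)) :
    ∃ e : ℕ, Pel r (g ^ e) ∧ g⁻¹ * g ^ e ∈ L := by
  obtain ⟨k, hk⟩ := hg
  set v := (orderOf g).factorization r with hv
  set c := orderOf g / r ^ v with hc
  have hcl : ¬ r ∣ c := Nat.not_dvd_ordCompl hr (orderOf_pos g).ne'
  have hgc : r ^ v * c = orderOf g := Nat.ordProj_mul_ordCompl_eq_self _ _
  obtain ⟨e, he⟩ := Nat.chineseRemainder ((hr.coprime_iff_not_dvd.2 hcl).pow_left (v + k)) 1 0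
  have hc0 : c ∣ e := Nat.modEq_zero_iff_dvd.1 he.2
  refine ⟨e, ⟨v, ?_⟩, ?_⟩
  · obtain ⟨d, rfl⟩ := hc0
    rw [← pow_mul, mul_comm c d, mul_assoc, mul_comm c, hgc, mul_comm, pow_mul, pow_orderOf_eq_one,
      one_pow]
  · rw [← QuotientGroup.eq_one_iff, QuotientGroup.mk_mul, QuotientGroup.mk_inv, QuotientGroup.mk_pow]
    have h1 : e ≡ 1 [MOD orderOf (QuotientGroup.mk g : K ⧸ L)] :=
      he.1.of_dvd ((orderOf_dvd_of_pow_eq_one hk).trans (pow_dvd_pow r (Nat.le_add_left k v)))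
    rw [pow_eq_pow_iff_modEq.2 h1, pow_one, inv_mul_cancel]

/-- An element of prime power order normalising a nontrivial subgroup of the same kind. -/
theorem exists_fixed {t : ℕ} (ht : t.Prime) {A : Subgroup Q} (hA : IsPGroup t A) (hne : A ≠ ⊥)
    {g : Q} (hg : Pel t g) (hgA : g ∈ normalizer (A : Set Q)) :
    ∃ v ∈ A, v ≠ 1 ∧ Commute v g := by
  have := Fact.mk ht
  set H := zpowers (⟨g, hgA⟩ : normalizer (A : Set Q))
  have hH : IsPGroup t H := by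
    obtain ⟨k, hk⟩ := hg
    exact Pel.isPGroup_zpowers ht ⟨k, Subtype.ext hk⟩
  let _ : MulAction H A :=
    MulAction.compHom A (A.normalizerMonoidHom.comp H.subtype)
  have : Nontrivial A := (nontrivial_iff_ne_bot A).2 hne
  obtain ⟨j, hj, hcard⟩ := hA.nontrivial_iff_card.1 ‹_›
  have h1 : (1 : A) ∈ MulAction.fixedPoints H A := fun h =>
    map_one (A.normalizerMonoidHom (h : normalizer (A : Set Q)))
  obtain ⟨v, hv, hv1⟩ := hH.exists_fixed_point_of_prime_dvd_card_of_fixed_point A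
    (hcard ▸ dvd_pow_self t hj.ne') h1
  refine ⟨v, v.2, fun h => hv1 (Subtype.ext h.symm), ?_⟩
  have h2 : A.normalizerMonoidHom ⟨g, hgA⟩ v = v := hv ⟨_, mem_zpowers _⟩
  have h3 : g * (v : Q) * g⁻¹ = v := congrArg Subtype.val h2
  exact ((mul_inv_eq_iff_eq_mul.1 h3).symm : (v : Q) * g = g * v)

namespace PHyp

variable (D : PHyp Q l Mem)
include D

theorem eq_one_of_l {M : Subgroup Q} (hM : Mem M) {x : Q} (hx : x ∈ M) (hxl : Pel l x) : x = 1 := by
  obtain ⟨k, hk⟩ := hxl.exists_orderOf D.hl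
  rcases Nat.eq_zero_or_pos k with rfl | hk0
  · exact orderOf_eq_one_iff.1 (by rw [hk, pow_zero])
  · refine absurd ((dvd_pow_self l hk0.ne').trans ?_) (D.not_dvd M hM)
    rw [← hk]; exact orderOf_dvd_natCard M hx

theorem mem_of_commute {M : Subgroup Q} (hM : Mem M) {s r : ℕ} (hs : s.Prime) (hr : r.Prime)
    (hsr : s ≠ r) {x y : Q} (hx : x ∈ M) (hx1 : x ≠ 1) (hxs : Pel s x) (hyr : Pel r y)
    (hc : Commute x y) : y ∈ M := by
  by_cases hy : y = 1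
  · rw [hy]; exact one_mem M
  obtain ⟨M', hM', hxM', hyM'⟩ := D.sep s r hs hr hsr x y hxs hyr hx1 hy hc
  exact D.disjoint M M' hM hM' x hx hxM' hx1 ▸ hyM'

theorem exists_mem {M : Subgroup Q} {t : ℕ} (ht : t.Prime) (hd : t ∣ Nat.card M) :
    ∃ x ∈ M, x ≠ 1 ∧ Pel t x ∧ orderOf x = t := by
  have := Fact.mk ht
  obtain ⟨x, hx⟩ := exists_prime_orderOf_dvd_card' (G := M) t hd
  refine ⟨x, x.2, fun h => ht.one_lt.ne' ?_, ⟨1, ?_⟩, by rwa [orderOf_coe]⟩
  · rw [← hx, ← orderOf_coe, h, orderOf_one]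
  · rw [pow_one, ← hx, ← orderOf_coe, pow_orderOf_eq_one]

theorem ne_l {M : Subgroup Q} (hM : Mem M) {t : ℕ} (hd : t ∣ Nat.card M) : t ≠ l :=
  fun h => D.not_dvd M hM (h ▸ hd)

theorem prime_cases {M : Subgroup Q} (hM : Mem M) {r : ℕ} (hr : r.Prime) (hd : r ∣ Nat.card Q) :
    r = l ∨ r ∣ Nat.card M := by
  by_contra hc
  push Not at hc
  have := Fact.mk hr
  obtain ⟨x, hx⟩ := exists_prime_orderOf_dvd_card' (G := Q) r hd
  have hx1 : x ≠ 1 := fun h => hr.one_lt.ne' (by rw [← hx, h, orderOf_one])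
  obtain ⟨M', hM', hxM⟩ := D.cover x hx1 fun h => hx1 (Pel.eq_one hr D.hl hc.1
    ⟨1, by rw [pow_one, ← hx, pow_orderOf_eq_one]⟩ h)
  refine hc.2 (D.card M M' hM hM' ▸ ?_)
  rw [← hx]; exact orderOf_dvd_natCard M' hxM

theorem mem_of_centralizing {M : Subgroup Q} (hM : Mem M) {y : Q} (hy : ∀ x ∈ M, Commute x y) :
    y ∈ M := by
  refine mem_of_parts fun e r k hr hk => ?_
  obtain ⟨t, ht, htr, htd⟩ := D.two M hM r
  obtain ⟨x, hx, hx1, hxt, -⟩ := D.exists_mem ht htd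
  exact D.mem_of_commute hM ht hr htr hx hx1 hxt ⟨k, hk ▸ pow_orderOf_eq_one _⟩ ((hy x hx).pow_right e)

theorem mem_normalizer_of_mem {M : Subgroup Q} (hM : Mem M) {x g : Q} (hx : x ∈ M) (hx1 : x ≠ 1)
    (h : g * x * g⁻¹ ∈ M) : g ∈ normalizer (M : Set Q) := by
  rw [mem_normalizer_iff_map_conj_eq]
  refine (D.disjoint _ _ hM (D.conj M hM g) (g * x * g⁻¹) h ⟨x, hx, rfl⟩ fun h1 => hx1 ?_).symm
  exact (MulAut.conj g).injective (show MulAut.conj g x = MulAut.conj g 1 by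
    rw [map_one]; exact h1)

theorem mem_normalizer_of_commute {M : Subgroup Q} (hM : Mem M) {x g : Q} (hx : x ∈ M) (hx1 : x ≠ 1)
    (h : Commute x g) : g ∈ normalizer (M : Set Q) :=
  D.mem_normalizer_of_mem hM hx hx1 (by rw [← h.eq, mul_inv_cancel_right]; exact hx)

theorem eq_one_of_pow_mem {M : Subgroup Q} (hM : Mem M) {y : Q} (hy : y ∉ M) {i : ℕ} (h : y ^ i ∈ M) :
    y ^ i = 1 := by
  by_contra h1
  have hy1 : y ≠ 1 := fun e => hy (e ▸ one_mem M)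
  have hyl : ¬ Pel l y := fun hl => h1 (D.eq_one_of_l hM h (hl.pow i))
  obtain ⟨M', hM', hyM'⟩ := D.cover y hy1 hyl
  exact hy (D.disjoint M M' hM hM' _ h (pow_mem hyM' i) h1 ▸ hyM')

/-- The Sylow subgroup of a member. -/
theorem exists_part_sub {M : Subgroup Q} (hM : Mem M) {t : ℕ} (ht : t.Prime) (hd : t ∣ Nat.card M) :
    ∃ A : Subgroup Q, A ≤ M ∧ IsPGroup t A ∧ Nat.card A = t ^ ff t M ∧ A ≠ ⊥ ∧
      (∀ y ∈ M, Pel t y → y ∈ A) ∧ normalizer (M : Set Q) ≤ normalizer (A : Set Q) := by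
  have := Fact.mk ht
  obtain ⟨A, hAM, hA, hcard, -⟩ := exists_sylow_sub M t
  have hn : M ≤ normalizer (A : Set Q) := fun m hm =>
    Coprime.mem_normalizer_of_forall_conj fun q hq => by
      rw [(D.comm M hM m hm q (hAM hq)).eq, mul_inv_cancel_right]; exact hq
  refine ⟨A, hAM, hA, hcard, fun h => ?_, fun y hy hyt => mem_of_pel hAM hcard hn hy hyt,
    fun g hg => Coprime.mem_normalizer_of_forall_conj fun q hq => mem_of_pel hAM hcard hn
      ((mem_normalizer_iff.1 hg q).1 (hAM hq)) ((Pel.mem_of_isPGroup hA hq).conj g)⟩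
  obtain ⟨x, hx, hx1, hxt, -⟩ := D.exists_mem ht hd
  exact hx1 ((mem_bot).1 (h ▸ mem_of_pel hAM hcard hn hx hxt))

/-- Elements of prime power order outside a member, in its normalizer. -/
theorem outside {M : Subgroup Q} (hM : Mem M) {t : ℕ} (ht : t.Prime) (hd : t ∣ Nat.card M) {y : Q}
    (hyt : Pel t y) (hyN : y ∈ normalizer (M : Set Q)) (hyM : y ∉ M) :
    orderOf y = t ∧ ∃ v ∈ M, v ≠ 1 ∧ Pel t v ∧ orderOf v = t ∧ Commute v y := by
  have := Fact.mk ht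
  obtain ⟨A, hAM, hA, -, hne, -, hnA⟩ := D.exists_part_sub hM ht hd
  obtain ⟨v, hv, hv1, hvy⟩ := exists_fixed ht hA hne hyt (hnA hyN)
  have hvt := Pel.mem_of_isPGroup hA hv
  obtain ⟨k, hk⟩ := hvt.exists_orderOf ht
  obtain ⟨k', rfl⟩ : ∃ k', k = k' + 1 :=
    Nat.exists_eq_succ_of_ne_zero fun h => hv1 (orderOf_eq_one_iff.1 (by rw [hk, h, pow_zero]))
  have ho : orderOf (v ^ t ^ k') = t := by
    rw [orderOf_pow_of_dvd (pow_ne_zero _ ht.ne_zero) (by rw [hk]; exact pow_dvd_pow t k'.le_succ), hk,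
      pow_succ, Nat.mul_div_cancel_left _ (pow_pos ht.pos k')]
  have hw1 : v ^ t ^ k' ≠ 1 := fun h => ht.one_lt.ne' (by rw [← ho, h, orderOf_one])
  have hwy : Commute (v ^ t ^ k') y := hvy.pow_left _
  refine ⟨orderOf_eq_prime ?_ (fun h => hyM (h ▸ one_mem M)), v ^ t ^ k', pow_mem (hAM hv) _, hw1,
    hvt.pow _, ho, hwy⟩
  have := D.pow_mem_of_commute M hM _ (pow_mem (hAM hv) _) hw1 y hwy
  rw [ho] at this
  exact D.eq_one_of_pow_mem hM hyM this

theorem exists_outside {M : Subgroup Q} (hM : Mem M) {t : ℕ} (ht : t.Prime) (hd : t ∣ Nat.card M)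
    (hi : t ∣ M.index) : ∃ g : Q, Pel t g ∧ g ∈ normalizer (M : Set Q) ∧ g ∉ M := by
  have := Fact.mk ht
  obtain ⟨A, hAM, hA, hcard, hne, hAmem, -⟩ := D.exists_part_sub hM ht hd
  have hlt : ff t M < (Nat.card Q).factorization t := by
    have h1 := ht.factorization_pos_of_dvd index_ne_zero_of_finite hi
    rw [← M.card_mul_index, Nat.factorization_mul Nat.card_pos.ne' index_ne_zero_of_finite,
      Finsupp.add_apply]
    simp only [ff]
    omega
  obtain ⟨g, hgt, hgA, hgA'⟩ := exists_normalizing hcard hlt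
  obtain ⟨x, hx, hx1⟩ := (Subgroup.bot_or_exists_ne_one A).resolve_left hne
  exact ⟨g, hgt, D.mem_normalizer_of_mem hM (hAM hx) hx1 (hAM ((mem_normalizer_iff.1 hgA x).1 hx)),
    fun h => hgA' (hAmem g h hgt)⟩

/-- No elements of distinct prime power orders outside a member commute modulo it. -/
theorem not_comm {M : Subgroup Q} (hM : Mem M) {t r : ℕ} (ht : t.Prime) (hr : r.Prime) (hrt : r ≠ t)
    (hd : t ∣ Nat.card M) {n y : Q} (hnt : Pel t n) (hnN : n ∈ normalizer (M : Set Q)) (hnM : n ∉ M)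
    (hyr : Pel r y) (hyN : y ∈ normalizer (M : Set Q)) (hyM : y ∉ M)
    (hc : y * n * y⁻¹ * n⁻¹ ∈ M) : False := by
  have := Fact.mk ht
  have := Fact.mk hr
  obtain ⟨A, hAM, hA, hAcard, hAne, hAmem, hnA⟩ := D.exists_part_sub hM ht hd
  -- a Sylow subgroup of `M⟨n⟩` and its translate
  set T := A ⊔ zpowers n with hTdef
  have hTp : IsPGroup t T :=
    hA.to_sup_of_normal_left' (Pel.isPGroup_zpowers ht hnt) (zpowers_le.2 (hnA hnN))
  have hyn : y * n * y⁻¹ ∈ M ⊔ zpowers n := by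
    rw [show y * n * y⁻¹ = y * n * y⁻¹ * n⁻¹ * n by group]
    exact mul_mem (mem_sup_left hc) (mem_sup_right (mem_zpowers n))
  set H := M ⊔ zpowers n with hH
  have hTH : T ≤ H := sup_le (hAM.trans le_sup_left) le_sup_right
  have hTy : T.map (MulAut.conj y).toMonoidHom ≤ H := by
    rw [hTdef, Subgroup.map_sup, MonoidHom.map_zpowers]
    refine sup_le ?_ (zpowers_le.2 hyn)
    rintro _ ⟨a, ha, rfl⟩
    exact mem_sup_left ((mem_normalizer_iff.1 hyN a).1 (hAM ha))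
  have hmax : ∀ R : Subgroup Q, T ≤ R → R ≤ H → IsPGroup t R → R = T := by
    intro R hTR hRH hR
    refine le_antisymm (fun x hx => ?_) hTR
    have hxH := hRH hx
    rw [hH, sup_comm, ← SetLike.mem_coe,
      coe_mul_of_left_le_normalizer_right _ _ (zpowers_le.2 hnN)] at hxH
    obtain ⟨b, hb, a, ha, rfl⟩ := hxH
    have hbT : b ∈ T := mem_sup_right hb
    have haR : a ∈ R := by simpa using mul_mem (inv_mem (hTR hbT)) hx
    exact mul_mem hbT (mem_sup_left (hAmem a ha (Pel.mem_of_isPGroup hR haR)))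
  let S₁ : Sylow t H :=
    { toSubgroup := T.subgroupOf H
      isPGroup' := hTp.of_equiv (subgroupOfEquivOfLe hTH).symm
      is_maximal' := fun {R} hR hle => by
        have h1 := hmax (R.map H.subtype) (by
          rw [← map_subgroupOf_eq_of_le hTH]; exact map_mono hle) (map_subtype_le R) (hR.map _)
        rw [← h1, subgroupOf, comap_map_eq_self_of_injective H.subtype_injective] }
  have hTyp : IsPGroup t (T.map (MulAut.conj y).toMonoidHom) := hTp.map _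
  obtain ⟨R, hR⟩ := (hTyp.of_equiv (subgroupOfEquivOfLe hTy).symm).exists_le_sylow
  obtain ⟨h, hh⟩ := MulAction.exists_smul_eq H R S₁
  have hmove : ∀ x ∈ T, (h : Q) * (y * x * y⁻¹) * (h : Q)⁻¹ ∈ T := fun x hx => by
    have h1 : (⟨y * x * y⁻¹, hTy ⟨x, hx, rfl⟩⟩ : H) ∈ (R : Subgroup H) :=
      hR (mem_subgroupOf.2 ⟨x, hx, rfl⟩)
    have h2 : h * ⟨y * x * y⁻¹, hTy ⟨x, hx, rfl⟩⟩ * h⁻¹ ∈ (S₁ : Subgroup H) := by
      rw [← hh]; exact ⟨_, h1, rfl⟩
    exact mem_subgroupOf.1 h2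
  have hhH : (h : Q) ∈ ((zpowers n ⊔ M : Subgroup Q) : Set Q) := by
    rw [sup_comm]; exact h.2
  rw [coe_mul_of_left_le_normalizer_right _ _ (zpowers_le.2 hnN)] at hhH
  obtain ⟨b, hb, a, ha, hab⟩ := hhH
  have hab : b * a = h := hab
  set y₁ := a * y with hy₁
  have hy₁T : y₁ ∈ normalizer (T : Set Q) :=
    Coprime.mem_normalizer_of_forall_conj fun x hx => by
      have h2 := mul_mem (mul_mem (inv_mem (mem_sup_right hb : b ∈ T)) (hmove x hx)) (mem_sup_right hb)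
      rw [show y₁ * x * y₁⁻¹ = b⁻¹ * ((h : Q) * (y * x * y⁻¹) * (h : Q)⁻¹) * b by
        rw [← hab, hy₁]; group]
      exact h2
  have hy₁N : y₁ ∈ normalizer (M : Set Q) := mul_mem (le_normalizer ha) hyN
  -- its part of `r`-power order
  set N := normalizer (M : Set Q)
  have hMn : (M.subgroupOf N).Normal := normal_subgroupOf_of_le_normalizer le_rfl
  have hq : (QuotientGroup.mk (⟨y₁, hy₁N⟩ : N) : N ⧸ M.subgroupOf N) = QuotientGroup.mk ⟨y, hyN⟩ := by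
    refine (QuotientGroup.eq.2 (mem_subgroupOf.2 ?_)).symm
    show y⁻¹ * (a * y) ∈ M
    have := (mem_normalizer_iff''.1 hyN a).1 ha
    rwa [← mul_assoc]
  obtain ⟨k, hk⟩ := hyr
  obtain ⟨e, he, hemem⟩ := exists_pel_rep (M.subgroupOf N) hr (g := (⟨y₁, hy₁N⟩ : N))
    ⟨k, by rw [hq, ← QuotientGroup.mk_pow, show (⟨y, hyN⟩ : N) ^ r ^ k = 1 from Subtype.ext hk]; rfl⟩
  set z := y₁ ^ e with hz
  have hzr : Pel r z := by
    obtain ⟨j, hj⟩ := he
    exact ⟨j, congrArg Subtype.val hj⟩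
  have hzT : z ∈ normalizer (T : Set Q) := pow_mem hy₁T e
  have hz₁ : y₁⁻¹ * z ∈ M := mem_subgroupOf.1 hemem
  have hzM : z ∉ M := fun h => hyM (by
    have h1 := mul_mem h (inv_mem hz₁)
    rw [show z * (y₁⁻¹ * z)⁻¹ = y₁ by group, hy₁] at h1
    simpa using mul_mem (inv_mem ha) h1)
  have hzn : z * n * z⁻¹ * n⁻¹ ∈ M := by
    set ν : N →* N ⧸ M.subgroupOf N := QuotientGroup.mk' _
    have hzN : z ∈ N := pow_mem hy₁N e
    have h1 : ν ⟨z, hzN⟩ = ν ⟨y, hyN⟩ := by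
      refine Eq.trans ?_ hq
      exact (QuotientGroup.eq.2 (mem_subgroupOf.2 hz₁ :
        (⟨y₁, hy₁N⟩ : N)⁻¹ * ⟨z, hzN⟩ ∈ M.subgroupOf N)).symm
    have h2 : ν (⟨y, hyN⟩ * ⟨n, hnN⟩ * (⟨y, hyN⟩ : N)⁻¹ * (⟨n, hnN⟩ : N)⁻¹) = 1 :=
      (QuotientGroup.eq_one_iff _).2 (mem_subgroupOf.2 hc)
    have h3 : ν (⟨z, hzN⟩ * ⟨n, hnN⟩ * (⟨z, hzN⟩ : N)⁻¹ * (⟨n, hnN⟩ : N)⁻¹) = 1 := by
      rw [map_mul, map_mul, map_mul, map_inv, map_inv, h1, ← map_inv, ← map_inv, ← map_mul,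
        ← map_mul, ← map_mul]
      exact h2
    exact mem_subgroupOf.1 ((QuotientGroup.eq_one_iff _).1 h3)
  -- a fixed element in the coset of `n`
  have hBn : T ⊓ M ≤ T := inf_le_left
  have hzA : zpowers z ≤ normalizer ((T ⊓ M : Subgroup Q) : Set Q) := zpowers_le.2
    (Coprime.mem_normalizer_of_forall_conj fun x hx =>
      ⟨(mem_normalizer_iff.1 hzT x).1 hx.1, (mem_normalizer_iff.1 (pow_mem hy₁N e) x).1 hx.2⟩)
  have hcop : (Nat.card (zpowers z)).Coprime (Nat.card T) := by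
    obtain ⟨i, hi⟩ := hzr.exists_orderOf hr
    obtain ⟨j, hj⟩ := hTp.exists_card_eq
    rw [Nat.card_zpowers, hi, hj]
    exact Nat.Coprime.pow i j ((Nat.coprime_primes hr ht).2 hrt)
  obtain ⟨c, hcT, hcn⟩ := Coprime.exists_centralizing_rep (zpowers z) T (zpowers_le.2 hzT) hcop
    (Or.inl (Group.isSolvable_of_comm fun p q => mul_comm' p q)) (T ⊓ M) hBn hzA
    (mem_sup_right (mem_zpowers n) : n ∈ T) (fun x hx => by
      obtain ⟨i, rfl⟩ := mem_zpowers_iff.1 hx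
      refine ⟨T.mul_mem (T.inv_mem (mem_sup_right (mem_zpowers n) : n ∈ T))
        ((mem_normalizer_iff.1 (zpow_mem hzT i) n).1 (mem_sup_right (mem_zpowers n) : n ∈ T)), ?_⟩
      set ν : N →* N ⧸ M.subgroupOf N := QuotientGroup.mk' _
      have hzN : z ∈ N := pow_mem hy₁N e
      have hcν : Commute (ν ⟨z, hzN⟩) (ν ⟨n, hnN⟩) := by
        refine mul_inv_eq_iff_eq_mul.1 (eq_of_mul_inv_eq_one ?_)
        rw [← map_inv, ← map_inv, ← map_mul, ← map_mul, ← map_mul]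
        exact (QuotientGroup.eq_one_iff _).2 (mem_subgroupOf.2 hzn)
      refine mem_subgroupOf.1 ((QuotientGroup.eq_one_iff (N := M.subgroupOf N)
        ((⟨n, hnN⟩ : N)⁻¹ * ((⟨z, hzN⟩ : N) ^ i * ⟨n, hnN⟩ * ((⟨z, hzN⟩ : N) ^ i)⁻¹))).1 ?_)
      show ν _ = 1
      rw [map_mul, map_mul, map_mul, map_inv, map_inv, map_zpow, (hcν.zpow_left i).eq,
        mul_inv_cancel_right, inv_mul_cancel])
  have hcM : c ∉ M := fun h => hnM (by
    have h1 := mul_mem h (inv_mem hcn.2)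
    rwa [show c * (n⁻¹ * c)⁻¹ = n by group] at h1)
  have hct : Pel t c := Pel.mem_of_isPGroup hTp hcT.1
  have hcz : Commute c z := (mem_centralizer_iff.1 hcT.2 z (mem_zpowers z)).symm
  obtain ⟨M', hM', hcM', hzM'⟩ := D.sep t r ht hr hrt.symm c z hct hzr
    (fun h => hcM (h ▸ one_mem M)) (fun h => hzM (h ▸ one_mem M)) hcz
  have hcN : c ∈ N := (sup_le (hAM.trans le_normalizer) (zpowers_le.2 hnN) : T ≤ N) hcT.1
  obtain ⟨v, hv, hv1, hvc⟩ := exists_fixed ht hA hAne hct (hnA hcN)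
  have hvN' := D.mem_normalizer_of_commute hM' hcM' (fun h => hcM (h ▸ one_mem M)) hvc.symm
  have hk : v * z * v⁻¹ * z⁻¹ ∈ M := by
    have h1 := (mem_normalizer_iff.1 (hnA (pow_mem hy₁N e)) v⁻¹).1 (inv_mem hv)
    rw [show v * z * v⁻¹ * z⁻¹ = v * (z * v⁻¹ * z⁻¹) by group]
    exact hAM (mul_mem hv h1)
  have hk' : v * z * v⁻¹ * z⁻¹ ∈ M' := mul_mem ((mem_normalizer_iff.1 hvN' z).1 hzM') (inv_mem hzM')
  have hvz : Commute v z := by
    by_contra hne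
    have h1 : v * z * v⁻¹ * z⁻¹ ≠ 1 := fun h =>
      hne (mul_inv_eq_iff_eq_mul.1 (mul_inv_eq_one.1 h))
    exact hcM (D.disjoint M M' hM hM' _ hk hk' h1 ▸ hcM')
  exact hzM (D.mem_of_commute hM ht hr hrt.symm (hAM hv) hv1 (Pel.mem_of_isPGroup hA hv) hzr hvz)

end PHyp

end CfsgLib.Ito
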