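import Cfsg.Agent.Lib.Struct77.Ito.PBasic
import Cfsg.Agent.Lib.Structure81.FPFPGroup

/-!
The factor group of the normalizer of a member: a group with cyclic Sylow subgroups in which the
elements of nonfull prime order are self-centralizing.
-/

set_option autoImplicit false

namespace CfsgLib.Ito

open Subgroup CfsgLib.Structure81.CoprimeClass

universe u

variable {Q : Type u} [Group Q] [Finite Q] {l : ℕ} {Mem : Subgroup Q → Prop}

/-- The factor group of the normalizer of a subgroup. -/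
abbrev EQ (M : Subgroup Q) : Type u :=
  ↥(normalizer (M : Set Q)) ⧸ M.subgroupOf (normalizer (M : Set Q))

/-- The natural map to the factor group of the normalizer. -/
noncomputable abbrev toEQ (M : Subgroup Q) : ↥(normalizer (M : Set Q)) →* EQ M :=
  QuotientGroup.mk' _

theorem toEQ_eq_one (M : Subgroup Q) {y : normalizer (M : Set Q)} : toEQ M y = 1 ↔ (y : Q) ∈ M :=
  (QuotientGroup.eq_one_iff y).trans mem_subgroupOf

theorem exists_lift {M : Subgroup Q} {r : ℕ} (hr : r.Prime) {q : EQ M} (hq : Pel r q) :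
    ∃ y : normalizer (M : Set Q), Pel r (y : Q) ∧ toEQ M y = q := by
  obtain ⟨g, rfl⟩ := QuotientGroup.mk'_surjective _ q
  obtain ⟨e, he, hmem⟩ := exists_pel_rep (M.subgroupOf (normalizer (M : Set Q))) hr (g := g) hq
  obtain ⟨k, hk⟩ := he
  exact ⟨g ^ e, ⟨k, congrArg Subtype.val hk⟩, (QuotientGroup.eq.2 hmem).symm⟩

theorem card_EQ (M : Subgroup Q) : Nat.card (EQ M) = M.relIndex (normalizer (M : Set Q)) :=
  (index_eq_card _).symm

theorem card_EQ_dvd_index (M : Subgroup Q) : Nat.card (EQ M) ∣ M.index :=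
  card_EQ M ▸ ⟨_, (relIndex_mul_index (le_normalizer (H := M))).symm⟩

theorem quaternion_elem {p : ℕ} [Fact p.Prime] {A : Type u} [Group A] [Finite A] (hA : IsPGroup p A)
    {n : ℕ} (φ : A ≃* QuaternionGroup (2 ^ n)) : p = 2 ∧ ∃ x : A, x ^ p ≠ 1 := by
  have hx : orderOf (φ.symm (QuaternionGroup.xa 0)) = 4 := by
    rw [MulEquiv.orderOf_eq, QuaternionGroup.orderOf_xa]
  obtain ⟨k, hk⟩ := Pel.exists_orderOf Fact.out (hA (φ.symm (QuaternionGroup.xa 0)))
  rw [hx] at hk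
  have hp : p = 2 := ((Nat.prime_dvd_prime_iff_eq Nat.prime_two Fact.out).1
    (Nat.prime_two.dvd_of_dvd_pow (n := k) (hk ▸ by norm_num))).symm
  refine ⟨hp, φ.symm (QuaternionGroup.xa 0), fun h => ?_⟩
  have := orderOf_dvd_of_pow_eq_one h
  rw [hx, hp] at this
  omega

namespace PHyp

variable (D : PHyp Q l Mem)
include D

variable {M : Subgroup Q} (hM : Mem M)
include hM

theorem prime_EQ {r : ℕ} (hr : r.Prime) (hd : r ∣ Nat.card (EQ M)) :
    r = l ∨ (r ∣ Nat.card M ∧ r ∣ M.index) := by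
  have h := hd.trans (card_EQ_dvd_index M)
  exact (D.prime_cases hM hr (h.trans (index_dvd_card M))).imp id fun h1 => ⟨h1, h⟩

theorem part_cases {r : ℕ} [Fact r.Prime] {R : Subgroup (EQ M)} (hR : IsPGroup r R) :
    IsCyclic R ∨ ∃ n : ℕ, Nonempty (R ≃* QuaternionGroup (2 ^ n)) := by
  obtain ⟨s, hs, hsr, hsd⟩ := D.two M hM r
  obtain ⟨A, hAM, hA, -, hne, -, hnA⟩ := D.exists_part_sub hM hs hsd
  set N := normalizer (M : Set Q)
  let ρ : N →* MulAut A := A.normalizerMonoidHom.comp (Subgroup.inclusion hnA)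
  have hker : M.subgroupOf N ≤ ρ.ker := fun y hy => by
    rw [MonoidHom.mem_ker]
    refine MulEquiv.ext fun a => Subtype.ext ?_
    show (y : Q) * (a : Q) * (y : Q)⁻¹ = a
    rw [(D.comm M hM y (mem_subgroupOf.1 hy) a (hAM a.2)).eq, mul_inv_cancel_right]
  let ρ' : R →* MulAut A := (QuotientGroup.lift _ ρ hker).comp R.subtype
  let _ : MulDistribMulAction R A := MulDistribMulAction.compHom A ρ'
  have : Nontrivial A := (nontrivial_iff_ne_bot A).2 hne
  refine CfsgLib.Structure81.isCyclic_or_quaternion_of_fpf (N := A) hR fun q hq a ha => ?_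
  by_contra ha1
  obtain ⟨y, hy, hyq⟩ := exists_lift Fact.out (Pel.mem_of_isPGroup hR q.2)
  have h1 : ρ y a = a := by
    have h2 : ρ' q a = a := ha
    rwa [show ρ' q = QuotientGroup.lift _ ρ hker (q : EQ M) from rfl, ← hyq,
      show QuotientGroup.lift _ ρ hker (toEQ M y) = ρ y from rfl] at h2
  have h3 : (y : Q) * (a : Q) * (y : Q)⁻¹ = a := congrArg Subtype.val h1
  have h4 := D.mem_of_commute hM hs Fact.out hsr (hAM a.2) (fun h => ha1 (Subtype.ext h))
    (Pel.mem_of_isPGroup hA a.2) hy ((mul_inv_eq_iff_eq_mul.1 h3).symm)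
  exact hq (Subtype.ext (hyq ▸ (toEQ_eq_one M).2 h4))

theorem exp_part {t : ℕ} (ht : t.Prime) (hd : t ∣ Nat.card M) {q : EQ M} (hq : Pel t q) :
    q ^ t = 1 := by
  obtain ⟨y, hy, rfl⟩ := exists_lift ht hq
  by_cases hyM : (y : Q) ∈ M
  · rw [(toEQ_eq_one M).2 hyM, one_pow]
  · rw [← map_pow, toEQ_eq_one, SubgroupClass.coe_pow]
    have h := (D.outside hM ht hd hy y.2 hyM).1
    rw [← h, pow_orderOf_eq_one]
    exact one_mem M

theorem dvd_card_EQ {t : ℕ} (ht : t.Prime) (hd : t ∣ Nat.card M) (hi : t ∣ M.index) :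
    t ∣ Nat.card (EQ M) := by
  obtain ⟨g, hgt, hgN, hgM⟩ := D.exists_outside hM ht hd hi
  have hne : toEQ M ⟨g, hgN⟩ ≠ 1 := fun h => hgM ((toEQ_eq_one M).1 h)
  have hpel : Pel t (toEQ M ⟨g, hgN⟩) := by
    obtain ⟨k, hk⟩ := hgt
    exact ⟨k, by rw [← map_pow, show (⟨g, hgN⟩ : normalizer (M : Set Q)) ^ t ^ k = 1 from
      Subtype.ext hk, map_one]⟩
  have := Fact.mk ht
  rw [← orderOf_eq_prime (D.exp_part hM ht hd hpel) hne]
  exact orderOf_dvd_natCard _

theorem card_part {t : ℕ} [Fact t.Prime] (hd : t ∣ Nat.card M) (hi : t ∣ M.index)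
    (R : Sylow t (EQ M)) : Nat.card (R : Subgroup (EQ M)) = t := by
  have hexp : ∀ x : (R : Subgroup (EQ M)), x ^ t = 1 := fun x =>
    Subtype.ext (D.exp_part hM Fact.out hd (Pel.mem_of_isPGroup R.2 x.2))
  rcases D.part_cases hM R.2 with hc | ⟨n, ⟨φ⟩⟩
  · obtain ⟨g, hg⟩ := hc.exists_generator
    have h1 : Nat.card (R : Subgroup (EQ M)) ∣ t := by
      rw [← orderOf_eq_card_of_forall_mem_zpowers hg]
      exact orderOf_dvd_of_pow_eq_one (hexp g)
    exact ((Nat.dvd_prime Fact.out).1 h1).resolve_left fun h =>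
      (Fact.out : t.Prime).not_dvd_one (h ▸ R.dvd_card_of_dvd_card (D.dvd_card_EQ hM Fact.out hd hi))
  · obtain ⟨-, x, hx⟩ := quaternion_elem R.2 φ
    exact absurd (hexp x) hx

theorem not_two_dvd (hl2 : l = 2) : ¬ 2 ∣ Nat.card (EQ M) := fun h2 => by
  obtain ⟨q, hq⟩ := exists_prime_orderOf_dvd_card' (G := EQ M) 2 h2
  obtain ⟨y, hy, rfl⟩ := exists_lift Nat.prime_two (⟨1, by rw [pow_one, ← hq, pow_orderOf_eq_one]⟩ :
    Pel 2 q)
  have hyM : (y : Q) ∉ M := fun h => by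
    rw [(toEQ_eq_one M).2 h, orderOf_one] at hq
    omega
  have hg2 : (y : Q) ^ 2 = 1 := by
    refine D.eq_one_of_l hM ?_ (hl2 ▸ hy.pow 2)
    rw [← SubgroupClass.coe_pow, ← toEQ_eq_one, map_pow, ← hq, pow_orderOf_eq_one]
  have hinv : (y : Q)⁻¹ = y := inv_eq_of_mul_eq_one_right (by rw [← pow_two, hg2])
  have hfix : ∀ x ∈ M, Commute x (y : Q) → x = 1 := by
    intro x hx hc
    refine mem_bot.1 (mem_of_parts fun e r k hr hk => mem_bot.2 ?_)
    by_contra hne
    have hrp : Pel r (x ^ e) := ⟨k, hk ▸ pow_orderOf_eq_one _⟩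
    refine hyM (D.mem_of_commute hM hr Nat.prime_two ?_ (pow_mem hx e) hne hrp hy (hc.pow_left e))
    rintro rfl
    exact hne (D.eq_one_of_l hM (pow_mem hx e) (hl2 ▸ hrp))
  have hconj : ∀ x ∈ M, (y : Q) * x * (y : Q)⁻¹ ∈ M := fun x hx =>
    (mem_normalizer_iff.1 y.2 x).1 hx
  let f : M → M := fun x => ⟨(x : Q)⁻¹ * ((y : Q) * x * (y : Q)⁻¹),
    mul_mem (inv_mem x.2) (hconj x x.2)⟩
  have hf : Function.Injective f := by
    intro p q hpq
    have h1 : (p : Q)⁻¹ * ((y : Q) * p * (y : Q)⁻¹) = (q : Q)⁻¹ * ((y : Q) * q * (y : Q)⁻¹) :=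
      congrArg Subtype.val hpq
    refine Subtype.ext (inv_mul_eq_one.1 (hfix ((q : Q)⁻¹ * p) (mul_mem (inv_mem q.2) p.2) ?_)).symm
    refine Eq.symm (mul_inv_eq_iff_eq_mul.1 ?_)
    calc (y : Q) * ((q : Q)⁻¹ * p) * (y : Q)⁻¹
        = ((y : Q) * q * (y : Q)⁻¹)⁻¹ * ((p : Q) * ((p : Q)⁻¹ * ((y : Q) * p * (y : Q)⁻¹))) := by group
      _ = ((y : Q) * q * (y : Q)⁻¹)⁻¹ * ((p : Q) * (q : Q)⁻¹ * ((y : Q) * q * (y : Q)⁻¹)) := by
          rw [h1]; group
      _ = ((y : Q) * q * (y : Q)⁻¹)⁻¹ * ((y : Q) * q * (y : Q)⁻¹ * ((p : Q) * (q : Q)⁻¹)) := by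
          rw [(D.comm M hM _ (mul_mem p.2 (inv_mem q.2)) _ (hconj q q.2)).eq]
      _ = (q : Q)⁻¹ * p := by
          rw [← (D.comm M hM _ p.2 _ (inv_mem q.2)).eq]; group
  have hinvert : ∀ x ∈ M, (y : Q) * x * (y : Q)⁻¹ = x⁻¹ := by
    intro x hx
    obtain ⟨p, hp⟩ := (Finite.injective_iff_surjective.1 hf) ⟨x, hx⟩
    obtain rfl : (p : Q)⁻¹ * ((y : Q) * p * (y : Q)⁻¹) = x := congrArg Subtype.val hp
    calc _ = ((y : Q) * p * (y : Q)⁻¹)⁻¹ * ((y : Q) ^ 2 * p * ((y : Q) ^ 2)⁻¹) := by group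
      _ = _ := by rw [hg2]; group
  obtain ⟨t, ht, htd, hti⟩ := D.nonfull M hM
  obtain ⟨n, hnt, hnN, hnM⟩ := D.exists_outside hM ht htd hti
  refine D.not_comm hM ht Nat.prime_two (fun h => D.ne_l hM htd (h.symm.trans hl2.symm)) htd hnt hnN
    hnM hy y.2 hyM ?_
  refine D.mem_of_centralizing hM fun x hx => ?_
  have h1 : n⁻¹ * x * n ∈ M := (mem_normalizer_iff''.1 hnN x).1 hx
  refine Eq.symm (mul_inv_eq_iff_eq_mul.1 ?_)
  calc (y : Q) * n * (y : Q)⁻¹ * n⁻¹ * x * ((y : Q) * n * (y : Q)⁻¹ * n⁻¹)⁻¹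
      = (y : Q) * (n * ((y : Q)⁻¹ * (n⁻¹ * x * n) * (y : Q)⁻¹⁻¹) * n⁻¹) * (y : Q)⁻¹ := by group
    _ = (y : Q) * (n * (n⁻¹ * x * n)⁻¹ * n⁻¹) * (y : Q)⁻¹ := by
        rw [hinv]; rw [show (y : Q) * (n⁻¹ * x * n) * (y : Q)⁻¹ = (n⁻¹ * x * n)⁻¹ from hinvert _ h1]
    _ = (y : Q) * x⁻¹ * (y : Q)⁻¹ := by group
    _ = x := by rw [hinvert _ (inv_mem hx), inv_inv]

theorem isZGroup : IsZGroup (EQ M) := ⟨fun p hp R => by
  have := Fact.mk hp
  by_cases hdvd : p ∣ Nat.card (EQ M)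
  · by_cases hp2 : p = 2
    · subst hp2
      rcases D.prime_EQ hM hp hdvd with h | ⟨h1, h2⟩
      · exact absurd hdvd (D.not_two_dvd hM h.symm)
      · exact isCyclic_of_prime_card (D.card_part hM h1 h2 R)
    · rcases D.part_cases hM R.2 with hc | ⟨n, ⟨φ⟩⟩
      · exact hc
      · exact absurd (quaternion_elem R.2 φ).1 hp2
  · obtain ⟨k, hk⟩ := R.2.exists_card_eq
    have hk0 : k = 0 := by
      by_contra h
      exact hdvd ((dvd_pow_self p h).trans (hk ▸ card_subgroup_dvd_card _))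
    have : Subsingleton (R : Subgroup (EQ M)) :=
      (Nat.card_eq_one_iff_unique.1 (by rw [hk, hk0, pow_zero])).1
    infer_instance⟩

theorem self_centralizing {t : ℕ} (ht : t.Prime) (hd : t ∣ Nat.card M) (hi : t ∣ M.index)
    {a q : EQ M} (ha : Pel t a) (ha1 : a ≠ 1) (hc : Commute q a) : q ∈ zpowers a := by
  have := Fact.mk ht
  refine mem_of_parts fun e r k hr hk => ?_
  have hq : Pel r (q ^ e) := ⟨k, hk ▸ pow_orderOf_eq_one _⟩
  have hca : Commute (q ^ e) a := hc.pow_left e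
  by_cases hrt : r = t
  · subst hrt
    have hn : zpowers (q ^ e) ≤ normalizer (zpowers a : Set (EQ M)) := zpowers_le.2 (by
      rw [mem_normalizer_iff_map_conj_eq, MonoidHom.map_zpowers]
      refine congrArg Subgroup.zpowers ?_
      show q ^ e * a * (q ^ e)⁻¹ = a
      rw [hca.eq, mul_inv_cancel_right])
    have hp := (Pel.isPGroup_zpowers ht ha).to_sup_of_normal_left' (Pel.isPGroup_zpowers ht hq) hn
    obtain ⟨R, hR⟩ := hp.exists_le_sylow
    have hle : Nat.card (zpowers a ⊔ zpowers (q ^ e) : Subgroup (EQ M)) ≤ Nat.card (zpowers a) := by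
      refine (card_le_of_le hR).trans ?_
      rw [D.card_part hM hd hi R, Nat.card_zpowers,
        orderOf_eq_prime (D.exp_part hM ht hd ha) ha1]
    rw [eq_of_le_of_card_ge le_sup_left hle]
    exact mem_sup_right (mem_zpowers _)
  · by_contra hne
    obtain ⟨y, hy, hyq⟩ := exists_lift hr hq
    obtain ⟨n, hn, hna⟩ := exists_lift ht ha
    refine D.not_comm hM ht hr hrt hd hn n.2 (fun h => ha1 (hna ▸ (toEQ_eq_one M).2 h)) hy y.2
      (fun h => hne ((hyq ▸ (toEQ_eq_one M).2 h : q ^ e = 1) ▸ one_mem _)) ?_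
    exact (toEQ_eq_one M (y := y * n * y⁻¹ * n⁻¹)).1 (by
      rw [map_mul, map_mul, map_mul, map_inv, map_inv, hyq, hna, hca.eq, mul_inv_cancel_right,
        mul_inv_cancel])

/-- A nonfull prime is the order or the index of the commutator subgroup. -/
theorem dichotomy {t : ℕ} (ht : t.Prime) (hd : t ∣ Nat.card M) (hi : t ∣ M.index) :
    Nat.card (commutator (EQ M)) = t ∨ (commutator (EQ M)).index = t := by
  have := D.isZGroup hM
  have := Fact.mk ht
  have hte := D.dvd_card_EQ hM ht hd hi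
  rw [← (commutator (EQ M)).card_mul_index] at hte
  rcases ht.dvd_mul.1 hte with h | h
  · left
    obtain ⟨a, ha⟩ := exists_prime_orderOf_dvd_card' (G := commutator (EQ M)) t h
    have ha' : orderOf (a : EQ M) = t := by rw [orderOf_coe]; exact ha
    have hpel : Pel t (a : EQ M) := ⟨1, by rw [pow_one, ← ha', pow_orderOf_eq_one]⟩
    have ha1 : (a : EQ M) ≠ 1 := fun h0 => ht.one_lt.ne' (by rw [← ha', h0, orderOf_one])
    have := IsZGroup.isCyclic_commutator (G := EQ M)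
    let _ : CommGroup (commutator (EQ M)) := IsCyclic.commGroup
    have hle : commutator (EQ M) = zpowers (a : EQ M) := le_antisymm (fun q hq =>
      D.self_centralizing hM ht hd hi hpel ha1
        (congrArg Subtype.val (mul_comm (⟨q, hq⟩ : commutator (EQ M)) a))) (zpowers_le.2 a.2)
    rw [hle, Nat.card_zpowers, ha']
  · right
    obtain ⟨C, hC⟩ := exists_right_complement'_of_coprime
      (IsZGroup.coprime_commutator_index (EQ M))
    have hcard : Nat.card C = (commutator (EQ M)).index := hC.symm.index_eq_card.symm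
    obtain ⟨a, ha⟩ := exists_prime_orderOf_dvd_card' (G := C) t (hcard ▸ h)
    have ha' : orderOf (a : EQ M) = t := by rw [orderOf_coe]; exact ha
    have hpel : Pel t (a : EQ M) := ⟨1, by rw [pow_one, ← ha', pow_orderOf_eq_one]⟩
    have ha1 : (a : EQ M) ≠ 1 := fun h0 => ht.one_lt.ne' (by rw [← ha', h0, orderOf_one])
    have hle : C = zpowers (a : EQ M) := le_antisymm (fun q hq => by
      refine D.self_centralizing hM ht hd hi hpel ha1 (commutatorElement_eq_one_iff_commute.1 ?_)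
      refine mem_bot.1 (hC.disjoint.eq_bot ▸ ⟨commutator_mem_commutator (mem_top _) (mem_top _), ?_⟩)
      rw [commutatorElement_def]
      exact C.mul_mem (C.mul_mem (C.mul_mem hq a.2) (C.inv_mem hq)) (C.inv_mem a.2))
      (zpowers_le.2 a.2)
    rw [← hcard, hle, Nat.card_zpowers, ha']

/-- Two nonfull primes. -/
theorem two_nonfull {s t : ℕ} (hs : s.Prime) (hsd : s ∣ Nat.card M) (hsi : s ∣ M.index)
    (ht : t.Prime) (htd : t ∣ Nat.card M) (hti : t ∣ M.index) (hst : s < t) :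
    Nat.card (commutator (EQ M)) = t ∧ (commutator (EQ M)).index = s := by
  rcases D.dichotomy hM hs hsd hsi with h | h <;> rcases D.dichotomy hM ht htd hti with h' | h'
  · omega
  · exfalso
    have := Fact.mk hs
    have := Fact.mk ht
    obtain ⟨c, hc⟩ := exists_prime_orderOf_dvd_card' (G := EQ M) t (D.dvd_card_EQ hM ht htd hti)
    let _ : MulDistribMulAction (zpowers c) (commutator (EQ M)) :=
      MulDistribMulAction.compHom _ ((MulAut.conjNormal (H := commutator (EQ M))).comp (zpowers c).subtype)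
    have hf : Frobenius.IsFPF (zpowers c) (commutator (EQ M)) := by
      intro x hx a ha
      by_contra ha1
      have ha' : (MulAut.conjNormal (x : EQ M) a : EQ M) = a := congrArg Subtype.val ha
      rw [MulAut.conjNormal_apply] at ha'
      have hpa : Pel s (a : EQ M) := ⟨1, by
        rw [pow_one, ← SubgroupClass.coe_pow, ← h, pow_card_eq_one', OneMemClass.coe_one]⟩
      have hxa := D.self_centralizing hM hs hsd hsi hpa (fun h0 => ha1 (Subtype.ext h0))
        (mul_inv_eq_iff_eq_mul.1 ha' : (x : EQ M) * a = a * x)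
      have hxc : Pel t (x : EQ M) := ⟨1, by
        rw [pow_one, ← SubgroupClass.coe_pow, show t = Nat.card (zpowers c) by
          rw [Nat.card_zpowers, hc], pow_card_eq_one', OneMemClass.coe_one]⟩
      have hxs : Pel s (x : EQ M) := by
        obtain ⟨i, hi⟩ := mem_zpowers_iff.1 hxa
        exact Pel.mem_of_isPGroup (Pel.isPGroup_zpowers hs hpa) (hi ▸ zpow_mem (mem_zpowers _) i)
      exact hx (Subtype.ext (Pel.eq_one hs ht hst.ne hxs hxc))
    have hd := hf.card_dvd_sub_one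
    rw [Nat.card_zpowers, hc, h] at hd
    have := Nat.le_of_dvd (by have := hs.two_le; omega) hd
    omega
  · exact ⟨h', h⟩
  · omega

theorem nonfull_cases {s t r : ℕ} (hs : s.Prime) (hsd : s ∣ Nat.card M) (hsi : s ∣ M.index)
    (ht : t.Prime) (htd : t ∣ Nat.card M) (hti : t ∣ M.index) (hst : s < t)
    (hr : r.Prime) (hrd : r ∣ Nat.card M) (hri : r ∣ M.index) : r = s ∨ r = t := by
  obtain ⟨h1, h2⟩ := D.two_nonfull hM hs hsd hsi ht htd hti hst
  rcases D.dichotomy hM hr hrd hri with h | h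
  · exact Or.inr (h.symm.trans h1)
  · exact Or.inl (h.symm.trans h2)

end PHyp

end CfsgLib.Ito
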