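import Cfsg.Agent.Lib.Struct77.Ito.PNorm
import Cfsg.Agent.S4037

/-!
No solvable normal subgroup, hence no suitable class of prime power size in a normal subgroup.
-/

set_option autoImplicit false

namespace CfsgLib.Ito

open Subgroup CfsgLib.Structure81.CoprimeClass

universe u

variable {Q : Type u} [Group Q] [Finite Q] {l : ℕ} {Mem : Subgroup Q → Prop}

/-- A solvable nontrivial normal subgroup contains a nontrivial normal subgroup of prime power
order. -/
theorem exists_normal_pgroup {K : Type u} [Group K] [Finite K] (N : Subgroup K) [N.Normal]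
    (hN : Group.IsSolvable N) (hne : N ≠ ⊥) :
    ∃ (r : ℕ) (X : Subgroup K), r.Prime ∧ X.Normal ∧ IsPGroup r X ∧ X ≠ ⊥ := by
  classical
  have hex : ∃ k, derivedSeries N k = ⊥ := (isSolvable_def N).1 hN
  obtain ⟨j, hj⟩ : ∃ j, Nat.find hex = j + 1 := by
    refine Nat.exists_eq_succ_of_ne_zero fun h => hne ?_
    have h1 := Nat.find_spec hex
    rw [h, derivedSeries_zero] at h1
    have h2 : (⊤ : Subgroup N).map N.subtype = (⊥ : Subgroup N).map N.subtype := by rw [h1]
    rwa [← MonoidHom.range_eq_map, range_subtype, Subgroup.map_bot] at h2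
  set D := derivedSeries N j with hD
  have hD1 : D ≠ ⊥ := Nat.find_min hex (show j < Nat.find hex by omega)
  have hDc : ⁅D, D⁆ = ⊥ := by
    rw [hD, ← derivedSeries_succ, ← hj]
    exact Nat.find_spec hex
  have hcomm : ∀ a b : D, a * b = b * a := fun a b => Subtype.ext
    (commutatorElement_eq_one_iff_commute.1 (mem_bot.1 (hDc ▸ commutator_mem_commutator a.2 b.2)))
  set D' := D.map N.subtype with hD'
  have : D'.Normal := inferInstance
  have hD'1 : D' ≠ ⊥ := fun h => hD1 ((map_eq_bot_iff_of_injective _ N.subtype_injective).1 h)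
  obtain ⟨r, hr, hrd⟩ := Nat.exists_prime_and_dvd (n := Nat.card D')
    fun h => hD'1 (eq_bot_of_card_eq D' h)
  have := Fact.mk hr
  let P : Sylow r D' := default
  have hP : (P : Subgroup D').Normal := ⟨fun p hp g => by
    have h1 : g * p = p * g := by
      obtain ⟨a, ha, ha'⟩ := g.2
      obtain ⟨b, hb, hb'⟩ := p.2
      refine Subtype.ext ?_
      show (g : K) * (p : K) = (p : K) * g
      rw [← ha', ← hb', ← map_mul, ← map_mul, show a * b = b * a from congrArg Subtype.val (hcomm ⟨a, ha⟩ ⟨b, hb⟩)]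
    rwa [h1, mul_inv_cancel_right]⟩
  have := P.characteristic_of_normal hP
  refine ⟨r, (P : Subgroup D').map D'.subtype, hr, inferInstance, P.2.map _, fun h => ?_⟩
  have h1 := P.dvd_card_of_dvd_card hrd
  rw [(map_eq_bot_iff_of_injective _ D'.subtype_injective).1 h, Subgroup.card_bot] at h1
  exact hr.not_dvd_one h1

theorem normal_le_sylow {r : ℕ} [Fact r.Prime] {H : Type u} [Group H] [Finite H] {X : Subgroup H}
    (hn : X.Normal) (hX : IsPGroup r X) (P : Sylow r H) : X ≤ P := by
  obtain ⟨R, hR⟩ := hX.exists_le_sylow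
  obtain ⟨g, hg⟩ := MulAction.exists_smul_eq H R P
  intro x hx
  rw [← hg]
  refine ⟨g⁻¹ * x * g⁻¹⁻¹, hR (hn.conj_mem x hx g⁻¹), ?_⟩
  show g * (g⁻¹ * x * g⁻¹⁻¹) * g⁻¹ = x
  group

namespace PHyp

variable (D : PHyp Q l Mem)
include D

theorem exists_member : ∃ M, Mem M := by
  by_contra hc
  push Not at hc
  have := Fact.mk D.hl
  have hp : IsPGroup l Q := fun x => by
    by_contra h
    obtain ⟨M, hM, -⟩ := D.cover x (fun h1 => h ⟨0, by rw [h1, one_pow]⟩) h
    exact hc M hM
  have := hp.isNilpotent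
  exact D.ns inferInstance

theorem no_abelian_normal {r : ℕ} (hr : r.Prime) {X : Subgroup Q} (hn : X.Normal) (hX : IsPGroup r X)
    (hc : ∀ p ∈ X, ∀ q ∈ X, Commute p q) (hne : X ≠ ⊥) : False := by
  obtain ⟨x, hx, hx1⟩ := (Subgroup.bot_or_exists_ne_one X).resolve_left hne
  have hxr := Pel.mem_of_isPGroup hX hx
  by_cases hrl : r = l
  · subst hrl
    obtain ⟨M, hM⟩ := D.exists_member
    obtain ⟨t, ht, htd, hti⟩ := D.nonfull M hM
    obtain ⟨n, hnt, hnN, hnM⟩ := D.exists_outside hM ht htd hti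
    obtain ⟨hn1, v, hv, hv1, -, hvo, hvn⟩ := D.outside hM ht htd hnt hnN hnM
    let S := closure ({v, n} : Set Q)
    have : IsMulCommutative S := isMulCommutative_closure (by
      intro a ha b hb
      rcases ha with rfl | rfl <;> rcases hb with rfl | rfl <;>
        first | rfl | exact hvn.eq | exact hvn.eq.symm)
    have hexp : ∀ z ∈ S, z ^ t = 1 := fun z hz => by
      induction hz using Subgroup.closure_induction with
      | mem w hw =>
        rcases hw with rfl | rfl
        · rw [← hvo, pow_orderOf_eq_one]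
        · rw [← hn1, pow_orderOf_eq_one]
      | one => rw [one_pow]
      | mul p q hp hq hp' hq' =>
        rw [(show Commute p q from congrArg Subtype.val (mul_comm' (⟨p, hp⟩ : S) ⟨q, hq⟩)).mul_pow,
          hp', hq', mul_one]
      | inv p _ hp' => rw [inv_pow, hp', inv_one]
    have hcyc : IsCyclic S := FewOrders.isCyclic_of_conj_fpf X S hne fun z hz hz1 w hw hzw => by
      by_contra hw1
      obtain ⟨M', hM', -, hwM'⟩ := D.sep t r ht hr (D.ne_l hM htd) z w ⟨1, by rw [pow_one, hexp z hz]⟩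
        (Pel.mem_of_isPGroup hX hw) hz1 hw1 hzw
      exact hw1 (D.eq_one_of_l hM' hwM' (Pel.mem_of_isPGroup hX hw))
    obtain ⟨g, hg⟩ := hcyc.exists_generator
    have hle : Nat.card S ≤ Nat.card (zpowers v) := by
      rw [Nat.card_zpowers, hvo, ← orderOf_eq_card_of_forall_mem_zpowers hg]
      exact orderOf_le_of_pow_eq_one ht.pos (Subtype.ext (hexp g g.2))
    have hnS : n ∈ S := subset_closure (by simp)
    have hvS : v ∈ S := subset_closure (by simp)
    have hSeq : zpowers v = S := eq_of_le_of_card_ge (zpowers_le.2 hvS) hle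
    rw [← hSeq] at hnS
    exact hnM (zpowers_le.2 hv hnS)
  · obtain ⟨M, hM, hxM⟩ := D.cover x hx1 fun h => hx1 (Pel.eq_one hr D.hl hrl hxr h)
    obtain ⟨s, hs, hsr, hsd⟩ := D.two M hM r
    obtain ⟨u, hu, hu1, hus, -⟩ := D.exists_mem hs hsd
    have hXM : X ≤ M := by
      intro y hy
      have hyN := D.mem_normalizer_of_commute hM hxM hx1 (hc x hx y hy)
      have h1 : u * y * u⁻¹ * y⁻¹ ∈ M := by
        rw [show u * y * u⁻¹ * y⁻¹ = u * (y * u⁻¹ * y⁻¹) by group]
        exact mul_mem hu ((mem_normalizer_iff.1 hyN u⁻¹).1 (inv_mem hu))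
      have h2 : u * y * u⁻¹ * y⁻¹ ∈ X := mul_mem (hn.conj_mem y hy u) (inv_mem hy)
      have hcuy : Commute u y := commute_of_shift hr hs hsr hus (Pel.mem_of_isPGroup hX h2)
        (D.comm M hM u hu _ h1).eq (c := u * y * u⁻¹ * y⁻¹) (by group)
      exact D.mem_of_commute hM hs hr hsr hu hu1 hus (Pel.mem_of_isPGroup hX hy) hcuy
    have htop : normalizer (M : Set Q) = ⊤ := eq_top_iff.2 fun g _ =>
      D.mem_normalizer_of_mem hM hxM hx1 (hXM (hn.conj_mem x hx g))
    have := D.isZGroup hM
    have : Group.IsSolvable (M.subgroupOf (normalizer (M : Set Q))) :=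
      Group.isSolvable_of_comm fun p q => Subtype.ext (Subtype.ext
        (D.comm M hM _ (mem_subgroupOf.1 p.2) _ (mem_subgroupOf.1 q.2)).eq)
    have hN : Group.IsSolvable (normalizer (M : Set Q)) :=
      Group.isSolvable_of_ker_le_range (M.subgroupOf (normalizer (M : Set Q))).subtype (toEQ M)
        (by rw [QuotientGroup.ker_mk', range_subtype])
    refine D.ns (Group.isSolvable_of_surjective (f := (normalizer (M : Set Q)).subtype) fun g => ?_)
    exact ⟨⟨g, htop ▸ mem_top g⟩, rfl⟩

theorem no_normal_pgroup {r : ℕ} (hr : r.Prime) {X : Subgroup Q} (hn : X.Normal) (hX : IsPGroup r X)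
    (hne : X ≠ ⊥) : False := by
  have := Fact.mk hr
  have : Nontrivial X := (nontrivial_iff_ne_bot X).2 hne
  have := hX.center_nontrivial
  refine D.no_abelian_normal hr (X := (center X).map X.subtype) inferInstance
    ((hX.to_subgroup _).map _) ?_ ?_
  · rintro _ ⟨p, hp, rfl⟩ _ ⟨q, hq, rfl⟩
    exact (show Commute p q from (mem_center_iff.1 hq p)).map X.subtype
  · intro h
    exact (nontrivial_iff_ne_bot (center X)).1 ‹_› ((map_eq_bot_iff_of_injective _ X.subtype_injective).1 h)

/-- No class of `l`-power size in a normal subgroup. -/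
theorem false_of_class {G₁ : Subgroup Q} (hG₁ : G₁.Normal) (v : G₁) (hv : v ≠ 1) {k : ℕ}
    (hk : (ConjClasses.mk v).carrier.ncard = l ^ k) : False := by
  have hsol := Cfsg.Agent.S4037.result v D.hl k hk
  have hne : normalClosure ({v} : Set G₁) ≠ ⊥ := fun h =>
    hv (mem_bot.1 (h ▸ subset_normalClosure rfl))
  obtain ⟨r, X₁, hr, hX₁n, hX₁, hX₁ne⟩ := exists_normal_pgroup _ hsol hne
  have := Fact.mk hr
  let P : Sylow r G₁ := default
  set X := normalClosure ((X₁.map G₁.subtype : Subgroup Q) : Set Q)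
  have hle : X ≤ (P : Subgroup G₁).map G₁.subtype := by
    refine (closure_le _).2 fun y hy => ?_
    obtain ⟨_, ⟨x, hx, rfl⟩, hxy⟩ := Group.mem_conjugatesOfSet_iff.1 hy
    obtain ⟨g, rfl⟩ := isConj_iff.1 hxy
    have hn : (X₁.map (MulAut.conjNormal g : MulAut G₁).toMonoidHom).Normal :=
      hX₁n.map _ (MulAut.conjNormal g : MulAut G₁).surjective
    refine ⟨MulAut.conjNormal g x, normal_le_sylow hn (hX₁.map _) P ⟨x, hx, rfl⟩, ?_⟩
    exact MulAut.conjNormal_apply g x
  refine D.no_normal_pgroup hr (X := X) normalClosure_normal ((P.2.map _).to_le hle) fun h => ?_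
  obtain ⟨x, hx, hx1⟩ := (Subgroup.bot_or_exists_ne_one X₁).resolve_left hX₁ne
  exact hx1 (Subtype.ext (mem_bot.1 (h ▸ subset_normalClosure (mem_map_of_mem _ hx))))

end PHyp

end CfsgLib.Ito
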