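import Cfsg.Agent.Lib.Struct77.Ito.PRadical

/-!
Two nonfull primes, the smaller one odd: the transfer to the factor group of a normalizer.
-/

set_option autoImplicit false

namespace CfsgLib.Ito

open Subgroup CfsgLib.Structure81.CoprimeClass
open scoped commutatorElement

universe u

variable {Q : Type u} [Group Q] [Finite Q] {l : ℕ} {Mem : Subgroup Q → Prop}

section Transfer

variable {N : Subgroup Q} {C : Type u} [CommGroup C] (ϕ : N →* C)

open scoped Classical in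
/-- The contribution of a coset to the transfer of an element. -/
noncomputable def cv (x : Q ⧸ N) (g : Q) : C :=
  if h : x.out⁻¹ * g * x.out ∈ N then ϕ ⟨_, h⟩ else 1

omit [Finite Q] in
theorem smul_coset_eq_iff (g c : Q) :
    g • (c : Q ⧸ N) = (c : Q ⧸ N) ↔ c⁻¹ * g * c ∈ N := by
  rw [show g • (c : Q ⧸ N) = ((g * c : Q) : Q ⧸ N) from rfl, QuotientGroup.eq, ← inv_mem_iff]
  simp [mul_assoc]

omit [Finite Q] in
theorem cv_rep {x : Q ⧸ N} {g c : Q} (hc : (c : Q ⧸ N) = x) (h : c⁻¹ * g * c ∈ N) :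
    cv ϕ x g = ϕ ⟨_, h⟩ := by
  subst hc
  obtain ⟨k, hk⟩ := QuotientGroup.mk_out_eq_mul N c
  have h' : (c : Q ⧸ N).out⁻¹ * g * (c : Q ⧸ N).out ∈ N :=
    (smul_coset_eq_iff g _).1 (by rw [QuotientGroup.out_eq']; exact (smul_coset_eq_iff g c).2 h)
  rw [cv, dif_pos h']
  have : (⟨_, h'⟩ : N) = k⁻¹ * ⟨_, h⟩ * k := Subtype.ext (by
    show (c : Q ⧸ N).out⁻¹ * g * (c : Q ⧸ N).out = (k : Q)⁻¹ * (c⁻¹ * g * c) * k
    rw [hk]; group)
  rw [this, map_mul, map_mul, map_inv, mul_comm, ← mul_assoc, mul_inv_cancel, one_mul]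

theorem minimalPeriod_dvd_of_pow {g : Q} {s : ℕ} (h : g ^ s = 1) (x : Q ⧸ N) :
    Function.minimalPeriod (g • ·) x ∣ s := by
  refine Function.IsPeriodicPt.minimalPeriod_dvd ?_
  show (g • ·)^[s] x = x
  rw [smul_iterate, h]
  exact one_smul Q x

theorem orbit_singleton {g : Q} {x : Q ⧸ N} (h : g • x = x) :
    Quotient.out (Quotient.mk (MulAction.orbitRel (zpowers g) (Q ⧸ N)) x) = x := by
  have h1 : Quotient.out (Quotient.mk (MulAction.orbitRel (zpowers g) (Q ⧸ N)) x) ∈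
      MulAction.orbit (zpowers g) x :=
    MulAction.orbitRel_apply.1 (Quotient.exact (Quotient.out_eq _))
  obtain ⟨⟨z, hz⟩, hz'⟩ := h1
  rw [← hz']
  show z • x = x
  exact (zpowers_le.2 (MulAction.mem_stabilizer_iff.2 h) hz : z ∈ MulAction.stabilizer Q x)

open scoped Classical in
/-- The transfer of an element of prime order, with values of exponent that prime. -/
theorem transfer_eq_prod_fixed [Fintype (Q ⧸ N)] {g : Q} {s : ℕ} (hs : s.Prime) (hg : g ^ s = 1) :
    MonoidHom.transfer ϕ g = ∏ x : {x : Q ⧸ N // g • x = x}, cv ϕ x.1 g := by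
  let _ : Fintype (Quotient (MulAction.orbitRel (zpowers g) (Q ⧸ N))) := Fintype.ofFinite _
  rw [MonoidHom.transfer_eq_prod_quotient_orbitRel_zpowers_quot]
  set F := (Finset.univ : Finset (Quotient (MulAction.orbitRel (zpowers g) (Q ⧸ N)))).filter
    fun q => g • q.out = q.out
  rw [← Finset.prod_subset (Finset.subset_univ F) ?_]
  · refine (Finset.prod_bij (fun x _ => Quotient.mk _ x.1) ?_ ?_ ?_ ?_).symm
    · intro x _
      rw [Finset.mem_filter]
      exact ⟨Finset.mem_univ _, by rw [orbit_singleton x.2]; exact x.2⟩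
    · intro x _ y _ h
      have h' := congrArg Quotient.out h
      rw [orbit_singleton x.2, orbit_singleton y.2] at h'
      exact Subtype.ext h'
    · intro q hq
      exact ⟨⟨q.out, (Finset.mem_filter.1 hq).2⟩, Finset.mem_univ _, Quotient.out_eq q⟩
    · intro x _
      have hout := orbit_singleton x.2
      have hx : x.1.out⁻¹ * g * x.1.out ∈ N :=
        (smul_coset_eq_iff g _).1 (by rw [QuotientGroup.out_eq']; exact x.2)
      rw [cv, dif_pos hx]
      refine congrArg ϕ (Subtype.ext ?_)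
      show x.1.out⁻¹ * g * x.1.out = _
      dsimp only
      rw [hout, Function.minimalPeriod_eq_one_iff_isFixedPt.2 x.2, pow_one]
  · intro q _ hq
    have hne : g • q.out ≠ q.out := fun h => hq (Finset.mem_filter.2 ⟨Finset.mem_univ _, h⟩)
    have hp : Function.minimalPeriod (g • ·) q.out = s :=
      ((Nat.dvd_prime hs).1 (minimalPeriod_dvd_of_pow hg q.out)).resolve_left fun h =>
        hne (Function.minimalPeriod_eq_one_iff_isFixedPt.1 h)
    rw [← map_one ϕ]
    refine congrArg ϕ (Subtype.ext ?_)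
    show q.out.out⁻¹ * g ^ Function.minimalPeriod (g • ·) q.out * q.out.out = 1
    rw [hp, hg]
    group

end Transfer

open scoped Classical in
/-- A product invariant under a permutation of prime order, in exponent that prime. -/
theorem prod_eq_prod_fixed {α C : Type*} [Fintype α] [CommGroup C] {s : ℕ} (hs : s.Prime)
    (σ : Equiv.Perm α) (hσ : σ ^ s = 1) (f : α → C) (hf : ∀ x, f (σ x) = f x)
    (hC : ∀ c : C, c ^ s = 1) : ∏ x, f x = ∏ x : {x // σ x = x}, f x.1 := by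
  have := Fact.mk hs
  have hexp : ∀ {i j : ℕ}, i ≡ j [MOD s] → ∀ c : C, c ^ i = c ^ j := fun h c =>
    pow_eq_pow_iff_modEq.2 (h.of_dvd (orderOf_dvd_of_pow_eq_one (hC c)))
  rw [← Finset.prod_subtype (Finset.univ.filter fun x => σ x = x) (by simp) f]
  rw [← Finset.prod_fiberwise_of_maps_to (s := Finset.univ) (t := Finset.univ.image f) (g := f)
      (fun x _ => Finset.mem_image_of_mem f (Finset.mem_univ x)) f,
    ← Finset.prod_fiberwise_of_maps_to (s := Finset.univ.filter fun x => σ x = x)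
      (t := Finset.univ.image f) (g := f)
      (fun x _ => Finset.mem_image_of_mem f (Finset.mem_univ x)) f]
  refine Finset.prod_congr rfl fun c _ => ?_
  rw [Finset.prod_congr rfl (fun x hx => (Finset.mem_filter.1 hx).2), Finset.prod_const,
    Finset.prod_congr rfl (fun x hx => (Finset.mem_filter.1 hx).2), Finset.prod_const]
  refine hexp ?_ c
  let τ : Equiv.Perm {x // f x = c} := σ.subtypePerm fun x => by rw [hf]
  have hτ : τ ^ s ^ 1 = 1 := by
    rw [pow_one, Equiv.Perm.subtypePerm_pow]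
    ext x
    simp [Equiv.Perm.subtypePerm_apply, hσ]
  have hmod := Equiv.Perm.card_compl_support_modEq hτ
  rw [Fintype.card_subtype] at hmod
  refine hmod.symm.trans ?_
  unfold Nat.ModEq
  refine congrArg (· % s) ?_
  refine Finset.card_bij (fun x _ => x.1) (fun x hx => ?_) (fun x _ y _ h => Subtype.ext h) ?_
  · simp only [Finset.mem_compl, Equiv.Perm.mem_support, not_not] at hx
    simp only [Finset.mem_filter, Finset.mem_univ, true_and]
    exact ⟨congrArg Subtype.val hx, x.2⟩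
  · intro x hx
    simp only [Finset.mem_filter, Finset.mem_univ, true_and] at hx
    refine ⟨⟨x, hx.2⟩, ?_, rfl⟩
    simp only [Finset.mem_compl, Equiv.Perm.mem_support, not_not]
    exact Subtype.ext hx.1

namespace PHyp

variable (D : PHyp Q l Mem)
include D

/-- An element outside a member with a commutator among the fixed elements. -/
theorem exists_triple {M : Subgroup Q} (hM : Mem M) {s t : ℕ} (hs : s.Prime) (hsd : s ∣ Nat.card M)
    (hsi : s ∣ M.index) (ht : t.Prime) (htd : t ∣ Nat.card M) (hti : t ∣ M.index) (hst : s < t) :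
    ∃ m b w : Q, m ∈ normalizer (M : Set Q) ∧ m ∉ M ∧ m ^ s = 1 ∧ b ∈ M ∧ w ∈ M ∧ w ≠ 1 ∧ w ^ s = 1 ∧
      Commute w m ∧ Commute b w ∧ b * m * b⁻¹ * m⁻¹ = w := by
  obtain ⟨m, hms, hmN, hmM⟩ := D.exists_outside hM hs hsd hsi
  obtain ⟨n, hnt, hnN, hnM⟩ := D.exists_outside hM ht htd hti
  obtain ⟨hmo, -⟩ := D.outside hM hs hsd hms hmN hmM
  obtain ⟨A, hAM, hA, -, hne, -, hnA⟩ := D.exists_part_sub hM hs hsd
  obtain ⟨a₀, ha₀, ha₀1⟩ := (Subgroup.bot_or_exists_ne_one A).resolve_left hne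
  have hcA : ∀ p ∈ A, ∀ q ∈ A, Commute p q := fun p hp q hq => D.comm M hM p (hAM hp) q (hAM hq)
  have hmv : ∀ q ∈ A, m * q * m⁻¹ ∈ A := fun q hq => (mem_normalizer_iff.1 (hnA hmN) q).1 hq
  have hmem : ∀ b ∈ A, b * m * b⁻¹ * m⁻¹ ∈ A := fun b hb => by
    rw [show b * m * b⁻¹ * m⁻¹ = b * (m * b⁻¹ * m⁻¹) by group]
    exact mul_mem hb (hmv _ (inv_mem hb))
  let δ : A →* A :=
    { toFun := fun b => ⟨(b : Q) * m * (b : Q)⁻¹ * m⁻¹, hmem b b.2⟩
      map_one' := Subtype.ext (show (1 : Q) * m * (1 : Q)⁻¹ * m⁻¹ = 1 by group)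
      map_mul' := fun p q => Subtype.ext (by
        show ((p : Q) * q) * m * ((p : Q) * q)⁻¹ * m⁻¹ =
          ((p : Q) * m * (p : Q)⁻¹ * m⁻¹) * ((q : Q) * m * (q : Q)⁻¹ * m⁻¹)
        rw [(hcA _ (hmem p p.2) _ (hmem q q.2)).eq]
        calc ((p : Q) * q) * m * ((p : Q) * q)⁻¹ * m⁻¹
            = (p : Q) * ((q : Q) * m * (q : Q)⁻¹ * m⁻¹) * (m * (p : Q)⁻¹ * m⁻¹) := by group
          _ = ((q : Q) * m * (q : Q)⁻¹ * m⁻¹) * (p : Q) * (m * (p : Q)⁻¹ * m⁻¹) := by
              rw [(hcA _ p.2 _ (hmem q q.2)).eq]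
          _ = _ := by group) }
  set R := δ.range.map A.subtype with hR
  have hRA : R ≤ A := map_subtype_le _
  have hδval : ∀ b : A, (δ b : Q) = (b : Q) * m * (b : Q)⁻¹ * m⁻¹ := fun b => rfl
  have hRne : R ≠ ⊥ := by
    intro h
    have hfix : ∀ q ∈ A, Commute q m := fun q hq => by
      have h2 : (δ ⟨q, hq⟩ : Q) ∈ R := ⟨_, ⟨⟨q, hq⟩, rfl⟩, rfl⟩
      rw [h, mem_bot] at h2
      have h1 : q * m * q⁻¹ * m⁻¹ = 1 := h2
      exact mul_inv_eq_iff_eq_mul.1 (mul_inv_eq_one.1 h1)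
    refine D.not_comm hM ht hs hst.ne htd hnt hnN hnM hms hmN hmM ?_
    -- the commutator fixes the Sylow subgroup
    set N := normalizer (M : Set Q)
    set c := m * n * m⁻¹ * n⁻¹ with hc
    have hcN : c ∈ N := mul_mem (mul_mem (mul_mem hmN hnN) (inv_mem hmN)) (inv_mem hnN)
    have hca : Commute a₀ c := by
      have h1 : n⁻¹ * a₀ * n ∈ A := (mem_normalizer_iff''.1 (hnA hnN) a₀).1 ha₀
      have h3 : m⁻¹ * (n⁻¹ * a₀ * n) * m = n⁻¹ * a₀ * n := by
        rw [mul_assoc m⁻¹, (hfix _ h1).eq, inv_mul_cancel_left]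
      refine Eq.symm (mul_inv_eq_iff_eq_mul.1 ?_)
      calc c * a₀ * c⁻¹ = m * (n * (m⁻¹ * (n⁻¹ * a₀ * n) * m) * n⁻¹) * m⁻¹ := by rw [hc]; group
        _ = m * a₀ * m⁻¹ := by rw [h3]; group
        _ = a₀ := by rw [← (hfix a₀ ha₀).eq, mul_inv_cancel_right]
    let cN : N := ⟨c, hcN⟩
    have hcd : toEQ M cN ∈ commutator (EQ M) := by
      have h1 : toEQ M cN = ⁅toEQ M ⟨m, hmN⟩, toEQ M ⟨n, hnN⟩⁆ := by
        rw [commutatorElement_def, ← map_inv, ← map_inv, ← map_mul, ← map_mul, ← map_mul]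
        rfl
      rw [h1]
      exact commutator_mem_commutator (mem_top _) (mem_top _)
    by_contra hcM
    have hne1 : toEQ M cN ≠ 1 := fun h => hcM ((toEQ_eq_one M).1 h)
    have hcard : (toEQ M cN) ^ Nat.card (commutator (EQ M)) = 1 :=
      congrArg Subtype.val (pow_card_eq_one' (x := (⟨_, hcd⟩ : commutator (EQ M))))
    obtain ⟨r, hr, hrs, hrp⟩ : ∃ r, r.Prime ∧ r ≠ s ∧ Pel r (toEQ M cN) :=
      ⟨t, ht, hst.ne', 1, by
        rw [pow_one, ← (D.two_nonfull hM hs hsd hsi ht htd hti hst).1]; exact hcard⟩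
    obtain ⟨y, hy, hyc⟩ := exists_lift hr hrp
    have hya : Commute a₀ (y : Q) := by
      have h1 : (y : Q)⁻¹ * c ∈ M := mem_subgroupOf.1 (QuotientGroup.eq.1 hyc)
      have h2 : Commute a₀ ((y : Q)⁻¹ * c) := D.comm M hM _ (hAM ha₀) _ h1
      have h3 := hca.mul_right h2.inv_right
      rwa [show c * ((y : Q)⁻¹ * c)⁻¹ = y by group] at h3
    exact hne1 (hyc ▸ (toEQ_eq_one M).2
      (D.mem_of_commute hM hs hr hrs.symm (hAM ha₀) ha₀1 (Pel.mem_of_isPGroup hA ha₀) hy hya))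
  have hRn : m ∈ normalizer (R : Set Q) := Coprime.mem_normalizer_of_forall_conj fun q hq => by
    obtain ⟨_, ⟨b, rfl⟩, rfl⟩ := hq
    refine ⟨_, ⟨⟨m * b * m⁻¹, hmv b b.2⟩, rfl⟩, ?_⟩
    show m * (b : Q) * m⁻¹ * m * (m * (b : Q) * m⁻¹)⁻¹ * m⁻¹ =
      m * ((b : Q) * m * (b : Q)⁻¹ * m⁻¹) * m⁻¹
    group
  obtain ⟨w₀, hw₀, hw₀1, hw₀m⟩ :=
    exists_fixed hs (hA.to_le hRA) hRne hms hRn
  obtain ⟨k, hk⟩ := (Pel.mem_of_isPGroup hA (hRA hw₀)).exists_orderOf hs
  obtain ⟨k', rfl⟩ : ∃ k', k = k' + 1 :=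
    Nat.exists_eq_succ_of_ne_zero fun h => hw₀1 (orderOf_eq_one_iff.1 (by rw [hk, h, pow_zero]))
  have ho : orderOf (w₀ ^ s ^ k') = s := by
    rw [orderOf_pow_of_dvd (pow_ne_zero _ hs.ne_zero) (by rw [hk]; exact pow_dvd_pow s k'.le_succ),
      hk, pow_succ, Nat.mul_div_cancel_left _ (pow_pos hs.pos k')]
  obtain ⟨b, hb⟩ : ∃ b : A, (δ b : Q) = w₀ := by
    obtain ⟨_, ⟨b, rfl⟩, h⟩ := hw₀
    exact ⟨b, h⟩
  refine ⟨m, ((b ^ s ^ k' : A) : Q), w₀ ^ s ^ k', hmN, hmM, by rw [← hmo, pow_orderOf_eq_one],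
    hAM (b ^ s ^ k').2, hAM (pow_mem (hRA hw₀) _), fun h => hs.one_lt.ne' (by rw [← ho, h, orderOf_one]),
    orderOf_dvd_iff_pow_eq_one.1 ho.dvd, hw₀m.pow_left _,
    hcA _ (b ^ s ^ k').2 _ (pow_mem (hRA hw₀) _), ?_⟩
  rw [← hδval, map_pow, SubgroupClass.coe_pow, hb]

theorem conj_shift {m b w : Q} (hbw : Commute b w) (hb : b * m * b⁻¹ * m⁻¹ = w) :
    ∀ j : ℕ, b ^ j * m * (b ^ j)⁻¹ = w ^ j * m := by
  intro j
  induction j with
  | zero => simp
  | succ j ih =>
    have hbm : b * m * b⁻¹ = w * m := by rw [← hb]; group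
    calc b ^ (j + 1) * m * (b ^ (j + 1))⁻¹ = b ^ j * (b * m * b⁻¹) * (b ^ j)⁻¹ := by
          rw [pow_succ]; group
      _ = b ^ j * w * (b ^ j)⁻¹ * (b ^ j * m * (b ^ j)⁻¹) := by rw [hbm]; group
      _ = w * (w ^ j * m) := by rw [(hbw.pow_left j).eq, mul_inv_cancel_right, ih]
      _ = _ := by rw [← mul_assoc, ← pow_succ']

open scoped Classical in
/-- A normal subgroup of index the smaller nonfull prime, containing all members. -/
theorem exists_normal_index {M₀ : Subgroup Q} (hM : Mem M₀) {s t : ℕ} (hs : s.Prime) (hs2 : s ≠ 2)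
    (hsd : s ∣ Nat.card M₀) (hsi : s ∣ M₀.index) (ht : t.Prime) (htd : t ∣ Nat.card M₀)
    (hti : t ∣ M₀.index) (hst : s < t) :
    ∃ G₁ : Subgroup Q, G₁.Normal ∧ G₁.index = s ∧ ∀ M, Mem M → M ≤ G₁ := by
  have := Fact.mk hs
  obtain ⟨m, b, w, hmN, hmM, hms, hbM, hwM, hw1, hws, hwm, hbw, hb⟩ :=
    D.exists_triple hM hs hsd hsi ht htd hti hst
  obtain ⟨hEt, hEs⟩ := D.two_nonfull hM hs hsd hsi ht htd hti hst
  set N := normalizer (M₀ : Set Q) with hN
  let C : Type u := Abelianization (EQ M₀)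
  let ϕ : N →* C := Abelianization.of.comp (toEQ M₀)
  have hcardC : Nat.card C = s := by
    show Nat.card (EQ M₀ ⧸ commutator (EQ M₀)) = s
    rw [← index_eq_card, hEs]
  have hC : ∀ c : C, c ^ s = 1 := fun c => by rw [← hcardC]; exact pow_card_eq_one'
  have hϕM : ∀ y : N, (y : Q) ∈ M₀ → ϕ y = 1 := fun y hy => by
    show Abelianization.of (toEQ M₀ y) = 1
    rw [(toEQ_eq_one M₀).2 hy, map_one]
  set V := MonoidHom.transfer ϕ with hV
  have hϕm : ϕ ⟨m, hmN⟩ ≠ 1 := by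
    intro h
    have h1 : toEQ M₀ ⟨m, hmN⟩ ∈ commutator (EQ M₀) :=
      (QuotientGroup.eq_one_iff (N := commutator (EQ M₀)) _).1 h
    refine hmM ((toEQ_eq_one M₀ (y := ⟨m, hmN⟩)).1 (Pel.eq_one hs ht hst.ne ⟨1, ?_⟩ ⟨1, ?_⟩))
    · rw [pow_one, ← map_pow, show (⟨m, hmN⟩ : N) ^ s = 1 from Subtype.ext hms, map_one]
    · rw [pow_one, ← hEt]
      exact congrArg Subtype.val (pow_card_eq_one' (x := (⟨_, h1⟩ : commutator (EQ M₀))))
  -- the computation of the transfer
  let _ : Fintype (Q ⧸ N) := Fintype.ofFinite _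
  have hVm : V m = ϕ ⟨m, hmN⟩ := by
    rw [hV, transfer_eq_prod_fixed ϕ hs hms]
    let σ : Equiv.Perm {x : Q ⧸ N // m • x = x} := (MulAction.toPerm w).subtypePerm fun x => by
      show m • w • x = w • x ↔ m • x = x
      rw [← mul_smul, ← hwm.eq, mul_smul, smul_left_cancel_iff]
    have hσ : σ ^ s = 1 := by
      rw [Equiv.Perm.subtypePerm_pow]
      ext x
      have : ((MulAction.toPermHom Q (Q ⧸ N)) w ^ s) x.1 = x.1 := by
        rw [← map_pow, hws, map_one]; rfl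
      simpa [Equiv.Perm.subtypePerm_apply] using this
    have hrep : ∀ (x : Q ⧸ N) (g : Q), g • x = x → x.out⁻¹ * g * x.out ∈ N := fun x g h =>
      (smul_coset_eq_iff g _).1 (by rw [QuotientGroup.out_eq']; exact h)
    rw [prod_eq_prod_fixed hs σ hσ (fun x => cv ϕ x.1 m) (fun x => ?_) hC]
    swap
    · have hx := hrep _ m x.2
      have hcw : (w * x.1.out)⁻¹ * m * (w * x.1.out) = x.1.out⁻¹ * m * x.1.out := by
        calc _ = x.1.out⁻¹ * (w⁻¹ * (m * w)) * x.1.out := by group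
          _ = _ := by rw [← hwm.eq, inv_mul_cancel_left]
      show cv ϕ (w • x.1) m = cv ϕ x.1 m
      rw [cv_rep ϕ (c := w * x.1.out) ?_ (hcw ▸ hx), cv_rep ϕ (QuotientGroup.out_eq' x.1) hx]
      · exact congrArg ϕ (Subtype.ext hcw)
      · rw [show ((w * x.1.out : Q) : Q ⧸ N) = w • ((x.1.out : Q) : Q ⧸ N) from rfl,
          QuotientGroup.out_eq']
    let x₀ : Q ⧸ N := ((1 : Q) : Q ⧸ N)
    have hx₀ : ∀ g ∈ N, g • x₀ = x₀ := fun g hg => (smul_coset_eq_iff g 1).2 (by simpa using hg)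
    have hwN : w ∈ N := le_normalizer hwM
    let O : Finset (Q ⧸ N) :=
      Finset.univ.filter fun x => m • x = x ∧ w • x = x ∧ x ≠ x₀
    have hsplit : (∏ x : {x : {x : Q ⧸ N // m • x = x} // σ x = x}, cv ϕ x.1.1 m) =
        cv ϕ x₀ m * ∏ x ∈ O, cv ϕ x m := by
      refine Eq.trans ?_ (Finset.prod_insert (by simp [O] : x₀ ∉ O))
      refine Finset.prod_bij (fun x _ => x.1.1) (fun x _ => ?_)
        (fun x _ y _ h => Subtype.ext (Subtype.ext h)) (fun x hx => ?_) (fun x _ => rfl)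
      · rw [Finset.mem_insert]
        by_cases h : x.1.1 = x₀
        · exact Or.inl h
        · exact Or.inr (Finset.mem_filter.2 ⟨Finset.mem_univ _, x.1.2,
            congrArg Subtype.val x.2, h⟩)
      · have hx' : m • x = x ∧ w • x = x := by
          rcases Finset.mem_insert.1 hx with rfl | h
          · exact ⟨hx₀ m hmN, hx₀ w hwN⟩
          · exact ⟨(Finset.mem_filter.1 h).2.1, (Finset.mem_filter.1 h).2.2.1⟩
        exact ⟨⟨⟨x, hx'.1⟩, Subtype.ext hx'.2⟩, Finset.mem_univ _, rfl⟩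
    refine (Eq.trans ?_ hsplit).trans ?_
    · congr 1
      exact Finset.ext fun x => by simp only [Finset.mem_univ]
    rw [cv_rep ϕ (c := 1) rfl (by simpa using hmN)]
    suffices hO : ∏ x ∈ O, cv ϕ x m = 1 by
      rw [hO, mul_one]
      exact congrArg ϕ (Subtype.ext (by show (1 : Q)⁻¹ * m * 1 = m; group))
    rcases O.eq_empty_or_nonempty with hO | ⟨z, hz⟩
    · rw [hO, Finset.prod_empty]
    have hmemO : ∀ x, x ∈ O ↔ m • x = x ∧ w • x = x ∧ x ≠ x₀ := fun x => by simp [O]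
    -- the image of `w` at such a coset
    have hwnot : ∀ c : Q, (c : Q ⧸ N) ≠ x₀ → c⁻¹ * w * c ∉ M₀ := fun c hc h => hc (by
      have h1 := D.mem_normalizer_of_mem hM hwM hw1 (g := c⁻¹) (by rwa [inv_inv])
      exact QuotientGroup.eq.2 (by simpa using h1))
    -- each further coset singles out one line
    have hline : ∀ x ∈ O, ∃ k < s, x.out⁻¹ * (m * w ^ k) * x.out ∈ M₀ := by
      intro x hx
      obtain ⟨h1, h2, h3⟩ := (hmemO x).1 hx
      set c := x.out with hc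
      have hcm := hrep x m h1
      have hcw := hrep x w h2
      set a := toEQ M₀ ⟨_, hcm⟩
      set d := toEQ M₀ ⟨_, hcw⟩
      have hd1 : d ≠ 1 := fun h => hwnot c (by rw [hc, QuotientGroup.out_eq']; exact h3)
        ((toEQ_eq_one M₀).1 h)
      have hds : d ^ s = 1 := by
        rw [← map_pow, show (⟨_, hcw⟩ : N) ^ s = 1 from Subtype.ext (by
          show (c⁻¹ * w * c) ^ s = 1
          rw [show c⁻¹ * w * c = c⁻¹ * w * c⁻¹⁻¹ by rw [inv_inv], conj_pow, hws]; group), map_one]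
      have had : Commute a d := by
        refine (Subtype.ext ?_ : (⟨_, hcm⟩ : N) * ⟨_, hcw⟩ = ⟨_, hcw⟩ * ⟨_, hcm⟩) |>
          congrArg (toEQ M₀) |> fun h => (map_mul (toEQ M₀) _ _).symm.trans (h.trans (map_mul _ _ _))
        show c⁻¹ * m * c * (c⁻¹ * w * c) = c⁻¹ * w * c * (c⁻¹ * m * c)
        calc _ = c⁻¹ * (m * w) * c := by group
          _ = c⁻¹ * (w * m) * c := by rw [hwm.eq]
          _ = _ := by group
      have ha := D.self_centralizing hM hs hsd hsi (⟨1, by rw [pow_one]; exact hds⟩ : Pel s d) hd1 had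
      have hord : orderOf d = s := orderOf_eq_prime hds hd1
      obtain ⟨k, hk⟩ := mem_zpowers_iff.1 (inv_mem ha)
      refine ⟨(k % s).toNat, ?_, ?_⟩
      · have := Int.emod_lt_of_pos k (show (0 : ℤ) < s by exact_mod_cast hs.pos)
        have := Int.emod_nonneg k (show (s : ℤ) ≠ 0 by exact_mod_cast hs.ne_zero)
        omega
      have h : toEQ M₀ (⟨_, hcm⟩ * ⟨_, hcw⟩ ^ (k % s).toNat) = 1 := by
        rw [map_mul, map_pow, ← zpow_natCast d, Int.toNat_of_nonneg
          (Int.emod_nonneg k (show (s : ℤ) ≠ 0 by exact_mod_cast hs.ne_zero)), ← hord,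
          zpow_mod_orderOf, hk, mul_inv_cancel]
      have h' : c⁻¹ * m * c * (c⁻¹ * w * c) ^ (k % s).toNat ∈ M₀ := (toEQ_eq_one M₀).1 h
      rw [show c⁻¹ * w * c = c⁻¹ * w * c⁻¹⁻¹ by rw [inv_inv], conj_pow] at h'
      rw [show c⁻¹ * (m * w ^ (k % s).toNat) * c =
        c⁻¹ * m * c * (c⁻¹ * w ^ (k % s).toNat * c⁻¹⁻¹) by group]
      exact h'
    choose kk hkk hkmem using hline
    have hmw : ∀ k : ℕ, m * w ^ k ≠ 1 := fun k h => hmM (by
      rw [eq_inv_of_mul_eq_one_left h]; exact inv_mem (pow_mem hwM k))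
    have hinj : ∀ x (hx : x ∈ O) y (hy : y ∈ O), kk x hx = kk y hy → x = y := by
      intro x hx y hy h
      have h1 := hkmem x hx
      have h2 := hkmem y hy
      rw [h] at h1
      have h3 : y.out⁻¹ * x.out ∈ N := D.mem_normalizer_of_mem hM h1 (fun h0 => hmw (kk y hy) (by
        calc m * w ^ kk y hy = x.out * (x.out⁻¹ * (m * w ^ kk y hy) * x.out) * x.out⁻¹ := by group
          _ = 1 := by rw [h0]; group)) (by
          rw [show y.out⁻¹ * x.out * (x.out⁻¹ * (m * w ^ kk y hy) * x.out) * (y.out⁻¹ * x.out)⁻¹ =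
            y.out⁻¹ * (m * w ^ kk y hy) * y.out by group]
          exact h2)
      have := (QuotientGroup.eq (s := N)).2 h3
      rwa [QuotientGroup.out_eq', QuotientGroup.out_eq', eq_comm] at this
    have hcardO : O.card ≤ s := by
      have : O.card ≤ (Finset.range s).card :=
        Finset.card_le_card_of_injOn (fun x => if hx : x ∈ O then kk x hx else 0)
          (fun x hx => by simp only [Finset.mem_coe] at hx ⊢; simp [hx, hkk])
          (fun x hx y hy h => by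
            simp only [Finset.mem_coe] at hx hy
            simp only [dif_pos hx, dif_pos hy] at h
            exact hinj x hx y hy h)
      rwa [Finset.card_range] at this
    -- the orbit of `b`
    obtain ⟨hzm, hzw, hz0⟩ := (hmemO z).1 hz
    set c := z.out with hc
    have hcm := hrep z m hzm
    have hcw := hrep z w hzw
    have hshift := D.conj_shift hbw hb
    have hback : ∀ j : ℕ, (b ^ j)⁻¹ * m * b ^ j = (w ^ j)⁻¹ * m := fun j => by
      have h1 := hshift j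
      have h2 : (b ^ j)⁻¹ * (w ^ j)⁻¹ = (w ^ j)⁻¹ * (b ^ j)⁻¹ :=
        ((hbw.pow_pow j j).inv_inv).eq
      calc (b ^ j)⁻¹ * m * b ^ j
          = (b ^ j)⁻¹ * ((w ^ j)⁻¹ * (b ^ j * m * (b ^ j)⁻¹)) * b ^ j := by rw [h1]; group
        _ = (b ^ j)⁻¹ * (w ^ j)⁻¹ * (b ^ j * m) := by group
        _ = (w ^ j)⁻¹ * (b ^ j)⁻¹ * (b ^ j * m) := by rw [h2]
        _ = _ := by group
    have hcj : ∀ j : ℕ, (b ^ j * c)⁻¹ * m * (b ^ j * c) = (c⁻¹ * w * c⁻¹⁻¹)⁻¹ ^ j * (c⁻¹ * m * c) := by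
      intro j
      rw [inv_pow, conj_pow]
      calc (b ^ j * c)⁻¹ * m * (b ^ j * c) = c⁻¹ * ((b ^ j)⁻¹ * m * b ^ j) * c := by group
        _ = _ := by rw [hback]; group
    have hcjw : ∀ j : ℕ, (b ^ j * c)⁻¹ * w * (b ^ j * c) = c⁻¹ * w * c := fun j => by
      calc (b ^ j * c)⁻¹ * w * (b ^ j * c) = c⁻¹ * ((b ^ j)⁻¹ * (w * b ^ j)) * c := by group
        _ = _ := by rw [← (hbw.pow_left j).eq, inv_mul_cancel_left]
    set dN : N := ⟨c⁻¹ * w * c, hcw⟩
    have hmemj : ∀ j : ℕ, (b ^ j * c)⁻¹ * m * (b ^ j * c) ∈ N := fun j => by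
      rw [hcj, inv_inv]
      exact mul_mem (pow_mem (inv_mem hcw) j) hcm
    have hjO : ∀ j : ℕ, b ^ j • z ∈ O := fun j => by
      have hz' : b ^ j • z = ((b ^ j * c : Q) : Q ⧸ N) := by
        rw [show ((b ^ j * c : Q) : Q ⧸ N) = b ^ j • (c : Q ⧸ N) from rfl, hc, QuotientGroup.out_eq']
      rw [hmemO, hz', smul_coset_eq_iff, smul_coset_eq_iff]
      refine ⟨hmemj j, by rw [hcjw]; exact hcw, fun h => hz0 ?_⟩
      have h1 : b ^ j * c ∈ N := by
        simpa using inv_mem ((QuotientGroup.eq (s := N)).1 h)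
      have h2 : c ∈ N := by simpa using mul_mem (inv_mem (le_normalizer (pow_mem hbM j))) h1
      rw [← QuotientGroup.out_eq' z]
      exact QuotientGroup.eq.2 (by simpa using inv_mem h2)
    -- distinctness
    have hdne : ∀ e : ℕ, e < s → toEQ M₀ dN ^ e = 1 → e = 0 := by
      intro e he h
      have hd1 : toEQ M₀ dN ≠ 1 := fun h => hwnot c (by rw [hc, QuotientGroup.out_eq']; exact hz0)
        ((toEQ_eq_one M₀).1 h)
      have hds : toEQ M₀ dN ^ s = 1 := by
        rw [← map_pow, show dN ^ s = 1 from Subtype.ext (by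
          show (c⁻¹ * w * c) ^ s = 1
          rw [show c⁻¹ * w * c = c⁻¹ * w * c⁻¹⁻¹ by rw [inv_inv], conj_pow, hws]; group), map_one]
      have := orderOf_dvd_of_pow_eq_one h
      rw [orderOf_eq_prime hds hd1] at this
      exact Nat.eq_zero_of_dvd_of_lt this he
    have hjinj : ∀ i < s, ∀ j < s, b ^ i • z = b ^ j • z → i = j := by
      suffices H : ∀ i < s, ∀ j < s, i ≤ j → b ^ i • z = b ^ j • z → i = j by
        intro i hi j hj h
        rcases le_total i j with h' | h'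
        · exact H i hi j hj h' h
        · exact (H j hj i hi h' h.symm).symm
      intro i hi j hj hij h
      obtain ⟨e, rfl⟩ := Nat.exists_eq_add_of_le hij
      rw [pow_add, mul_smul, smul_left_cancel_iff] at h
      have hcon : c⁻¹ * b ^ e * c ∈ N :=
        (smul_coset_eq_iff (b ^ e) c).1 (by rw [hc, QuotientGroup.out_eq']; exact h.symm)
      let aN : N := ⟨c⁻¹ * m * c, hcm⟩
      let qN : N := ⟨c⁻¹ * b ^ e * c, hcon⟩
      have hb1 : Pel s (toEQ M₀ aN) := ⟨1, by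
        rw [pow_one, ← map_pow, show aN ^ s = 1 from Subtype.ext (by
          show (c⁻¹ * m * c) ^ s = 1
          rw [show c⁻¹ * m * c = c⁻¹ * m * c⁻¹⁻¹ by rw [inv_inv], conj_pow, hms]; group), map_one]⟩
      have hrel : qN * aN * qN⁻¹ = dN ^ e * aN := Subtype.ext (by
        show c⁻¹ * b ^ e * c * (c⁻¹ * m * c) * (c⁻¹ * b ^ e * c)⁻¹ =
          (c⁻¹ * w * c) ^ e * (c⁻¹ * m * c)
        rw [show c⁻¹ * w * c = c⁻¹ * w * c⁻¹⁻¹ by rw [inv_inv], conj_pow]
        calc _ = c⁻¹ * (b ^ e * m * (b ^ e)⁻¹) * c := by group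
          _ = _ := by rw [hshift]; group)
      -- `s`-parts of the factor group commute
      have hd2 : Pel s (toEQ M₀ dN) := ⟨1, by
        rw [pow_one, ← map_pow, show dN ^ s = 1 from Subtype.ext (by
          show (c⁻¹ * w * c) ^ s = 1
          rw [show c⁻¹ * w * c = c⁻¹ * w * c⁻¹⁻¹ by rw [inv_inv], conj_pow, hws]; group), map_one]⟩
      have hcq : Commute (toEQ M₀ qN) (toEQ M₀ dN) := by
        have h1 : qN * dN = dN * qN := Subtype.ext (by
          show c⁻¹ * b ^ e * c * (c⁻¹ * w * c) = c⁻¹ * w * c * (c⁻¹ * b ^ e * c)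
          calc _ = c⁻¹ * (b ^ e * w) * c := by group
            _ = c⁻¹ * (w * b ^ e) * c := by rw [(hbw.pow_left e).eq]
            _ = _ := by group)
        have := congrArg (toEQ M₀) h1
        rwa [map_mul, map_mul] at this
      have hd1 : toEQ M₀ dN ≠ 1 := fun h => hwnot c (by rw [hc, QuotientGroup.out_eq']; exact hz0)
        ((toEQ_eq_one M₀).1 h)
      have hca : Commute (toEQ M₀ aN) (toEQ M₀ dN) := by
        have h1 : aN * dN = dN * aN := Subtype.ext (by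
          show c⁻¹ * m * c * (c⁻¹ * w * c) = c⁻¹ * w * c * (c⁻¹ * m * c)
          calc _ = c⁻¹ * (m * w) * c := by group
            _ = c⁻¹ * (w * m) * c := by rw [hwm.eq]
            _ = _ := by group)
        have := congrArg (toEQ M₀) h1
        rwa [map_mul, map_mul] at this
      obtain ⟨i₁, hi₁⟩ := mem_zpowers_iff.1 (D.self_centralizing hM hs hsd hsi hd2 hd1 hcq)
      obtain ⟨i₂, hi₂⟩ := mem_zpowers_iff.1 (D.self_centralizing hM hs hsd hsi hd2 hd1 hca)
      have h4 := congrArg (toEQ M₀) hrel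
      rw [map_mul, map_mul, map_inv, map_mul, map_pow, ← hi₁, ← hi₂,
        (((Commute.refl (toEQ M₀ dN)).zpow_zpow i₁ i₂)).eq, mul_inv_cancel_right, right_eq_mul] at h4
      have := hdne e (by omega) h4
      omega
    have himage : O = (Finset.range s).image fun j => b ^ j • z := by
      refine (Finset.eq_of_subset_of_card_le (fun x hx => ?_) ?_).symm
      · obtain ⟨j, -, rfl⟩ := Finset.mem_image.1 hx
        exact hjO j
      · rw [Finset.card_image_of_injOn fun i hi j hj h =>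
          hjinj i (Finset.mem_range.1 hi) j (Finset.mem_range.1 hj) h, Finset.card_range]
        exact hcardO
    rw [himage, Finset.prod_image fun i hi j hj h =>
      hjinj i (Finset.mem_range.1 hi) j (Finset.mem_range.1 hj) h]
    have hval : ∀ j : ℕ, cv ϕ (b ^ j • z) m = (ϕ dN)⁻¹ ^ j * ϕ ⟨_, hcm⟩ := fun j => by
      rw [cv_rep ϕ (c := b ^ j * c) ?_ (hmemj j), ← map_inv, ← map_pow, ← map_mul]
      · refine congrArg ϕ (Subtype.ext ?_)
        show (b ^ j * c)⁻¹ * m * (b ^ j * c) = (c⁻¹ * w * c)⁻¹ ^ j * (c⁻¹ * m * c)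
        rw [hcj, inv_inv]
      · rw [show ((b ^ j * c : Q) : Q ⧸ N) = b ^ j • (c : Q ⧸ N) from rfl, hc, QuotientGroup.out_eq']
    rw [Finset.prod_congr rfl fun j _ => hval j, Finset.prod_mul_distrib, Finset.prod_const,
      Finset.card_range, hC, mul_one, Finset.prod_pow_eq_pow_sum]
    have hsum : s ∣ ∑ j ∈ Finset.range s, j := by
      have h1 : s ∣ (∑ j ∈ Finset.range s, j) * 2 := by
        rw [Finset.sum_range_id_mul_two]; exact dvd_mul_right _ _
      exact ((Nat.coprime_primes hs Nat.prime_two).2 hs2).dvd_of_dvd_mul_right h1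
    obtain ⟨r, hr⟩ := hsum
    rw [hr, pow_mul, hC, one_pow]
  -- the kernel
  refine ⟨V.ker, inferInstance, ?_, fun M hM' => ?_⟩
  · rw [index_ker]
    have h1 : Nat.card V.range ∣ s := hcardC ▸ card_subgroup_dvd_card _
    refine ((Nat.dvd_prime hs).1 h1).resolve_left fun h => hϕm ?_
    rw [← hVm]
    exact mem_bot.1 (eq_bot_of_card_eq _ h ▸ (⟨m, rfl⟩ : V m ∈ V.range))
  · have hd : Nat.card M₀ = Nat.card M := D.card M₀ M hM hM'
    have hi : M₀.index = M.index := by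
      refine Nat.eq_of_mul_eq_mul_left (Nat.card_pos (α := M₀)) ?_
      rw [M₀.card_mul_index, hd, M.card_mul_index]
    obtain ⟨n, hnt, hnN, hnM⟩ := D.exists_outside hM' ht (hd ▸ htd) (hi ▸ hti)
    obtain ⟨A, hAM, hA, -, -, hAmem, hnA⟩ := D.exists_part_sub hM' hs (hd ▸ hsd)
    intro x hx
    refine mem_of_parts fun e r k hr hk => ?_
    rw [MonoidHom.mem_ker]
    have hpel : Pel r (x ^ e) := ⟨k, hk ▸ pow_orderOf_eq_one _⟩
    by_cases hrs : r = s
    · subst hrs
      have hmem := hAmem _ (pow_mem hx e) hpel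
      let f : A → A := fun a => ⟨(a : Q)⁻¹ * (n * a * n⁻¹),
        mul_mem (inv_mem a.2) ((mem_normalizer_iff.1 (hnA hnN) a).1 a.2)⟩
      have hf : Function.Injective f := by
        intro p q hpq
        have h1 : (p : Q)⁻¹ * (n * p * n⁻¹) = (q : Q)⁻¹ * (n * q * n⁻¹) := congrArg Subtype.val hpq
        refine Subtype.ext ((inv_mul_eq_one.1 ?_).symm)
        by_contra hne
        refine hnM (D.mem_of_commute hM' hs ht hst.ne (hAM (mul_mem (inv_mem q.2) p.2)) hne
          (Pel.mem_of_isPGroup hA (mul_mem (inv_mem q.2) p.2)) hnt ?_)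
        refine Eq.symm (mul_inv_eq_iff_eq_mul.1 ?_)
        have hcA : ∀ u ∈ A, ∀ v ∈ A, Commute u v := fun u hu v hv => D.comm M hM' u (hAM hu) v (hAM hv)
        have hq' := (mem_normalizer_iff.1 (hnA hnN) q).1 q.2
        calc n * ((q : Q)⁻¹ * p) * n⁻¹
            = (n * q * n⁻¹)⁻¹ * ((p : Q) * ((p : Q)⁻¹ * (n * p * n⁻¹))) := by group
          _ = (n * q * n⁻¹)⁻¹ * (((p : Q) * (q : Q)⁻¹) * (n * q * n⁻¹)) := by rw [h1]; group
          _ = (n * q * n⁻¹)⁻¹ * (n * q * n⁻¹ * ((p : Q) * (q : Q)⁻¹)) := by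
              rw [(hcA _ (mul_mem p.2 (inv_mem q.2)) _ hq').eq]
          _ = (q : Q)⁻¹ * p := by rw [← (hcA _ p.2 _ (inv_mem q.2)).eq]; group
      obtain ⟨p, hp⟩ := Finite.injective_iff_surjective.1 hf ⟨_, hmem⟩
      have hp' : (p : Q)⁻¹ * (n * p * n⁻¹) = x ^ e := congrArg Subtype.val hp
      rw [← hp', map_mul, map_mul, map_mul, map_inv, map_inv, mul_comm (V n) (V (p : Q)),
        mul_inv_cancel_right, inv_mul_cancel]
    · refine Pel.eq_one hr hs hrs ⟨k, ?_⟩ ⟨1, by rw [pow_one, hC]⟩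
      rw [← map_pow, ← hk, pow_orderOf_eq_one, map_one]

end PHyp

end CfsgLib.Ito
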