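import Cfsg.Agent.Lib.Struct77.Ito.PTransfer

/-!
Two nonfull primes, one of them `2`.
-/

set_option autoImplicit false

namespace CfsgLib.Ito

open Subgroup CfsgLib.Structure81.CoprimeClass

universe u

variable {Q : Type u} [Group Q] [Finite Q] {l : ℕ} {Mem : Subgroup Q → Prop}

/-- Two Sylow subgroups of a centralizer are conjugate in it. -/
theorem exists_conj_in_cen {t : ℕ} [Fact t.Prime] (T : Sylow t Q) {x : Q}
    (hT : (T : Subgroup Q) ≤ cen x) {h : Q} (hT' : ∀ y ∈ (T : Subgroup Q), h * y * h⁻¹ ∈ cen x) :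
    ∃ c ∈ cen x, c * h ∈ normalizer ((T : Subgroup Q) : Set Q) := by
  let R' : Sylow t Q := h • T
  have hR' : (R' : Subgroup Q) ≤ cen x := by
    rintro _ ⟨y, hy, rfl⟩
    exact hT' y hy
  obtain ⟨c, hc⟩ := MulAction.exists_smul_eq (cen x) (R'.subtype hR') (T.subtype hT)
  refine ⟨c, c.2, Coprime.mem_normalizer_of_forall_conj fun y hy => ?_⟩
  have h1 : (⟨h * y * h⁻¹, hT' y hy⟩ : cen x) ∈ (R'.subtype hR' : Subgroup (cen x)) :=
    ⟨y, hy, rfl⟩
  have h2 : c * ⟨h * y * h⁻¹, hT' y hy⟩ * c⁻¹ ∈ (T.subtype hT : Subgroup (cen x)) := by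
    rw [← hc]; exact ⟨_, h1, rfl⟩
  have h3 : (c : Q) * (h * y * h⁻¹) * (c : Q)⁻¹ ∈ (T : Subgroup Q) := h2
  rwa [show (c : Q) * h * y * ((c : Q) * h)⁻¹ = (c : Q) * (h * y * h⁻¹) * (c : Q)⁻¹ by group]

namespace PHyp

variable (D : PHyp Q l Mem)
include D

theorem index_eq {M M' : Subgroup Q} (hM : Mem M) (hM' : Mem M') : M.index = M'.index := by
  refine Nat.eq_of_mul_eq_mul_left (Nat.card_pos (α := M)) ?_
  rw [M.card_mul_index, D.card M M' hM hM', M'.card_mul_index]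

/-- A member with a fixed central element of a Sylow subgroup. -/
theorem exists_full_pair {M₀ : Subgroup Q} (hM₀ : Mem M₀) {t : ℕ} [Fact t.Prime]
    (htd : t ∣ Nat.card M₀) (hti : t ∣ M₀.index) :
    ∃ (M : Subgroup Q) (v n : Q) (T : Sylow t Q), Mem M ∧ v ∈ M ∧ v ≠ 1 ∧ orderOf v = t ∧
      v ∈ (T : Subgroup Q) ∧ n ∈ (T : Subgroup Q) ∧ n ∈ normalizer (M : Set Q) ∧ n ∉ M ∧
      ∀ x ∈ (T : Subgroup Q), Commute v x := by
  let T : Sylow t Q := default
  have hdvd : t ∣ Nat.card (T : Subgroup Q) :=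
    T.dvd_card_of_dvd_card (htd.trans (card_subgroup_dvd_card _))
  have : Nontrivial (T : Subgroup Q) := Finite.one_lt_card_iff_nontrivial.1
    (lt_of_lt_of_le (Fact.out : t.Prime).one_lt (Nat.le_of_dvd Nat.card_pos hdvd))
  have := T.2.center_nontrivial
  obtain ⟨k, hk, hcard⟩ := (T.2.to_subgroup (center (T : Subgroup Q))).nontrivial_iff_card.1 ‹_›
  obtain ⟨z, hz⟩ := exists_prime_orderOf_dvd_card' (G := center (T : Subgroup Q)) t
    (hcard ▸ dvd_pow_self t hk.ne')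
  set v : Q := ((z : (T : Subgroup Q)) : Q)
  have hvo : orderOf v = t := by rw [orderOf_coe, orderOf_coe, hz]
  have hv1 : v ≠ 1 := fun h => (Fact.out : t.Prime).one_lt.ne' (by rw [← hvo, h, orderOf_one])
  have hvt : Pel t v := ⟨1, by rw [pow_one, ← hvo, pow_orderOf_eq_one]⟩
  obtain ⟨M, hM, hvM⟩ := D.cover v hv1 fun h =>
    hv1 (Pel.eq_one Fact.out D.hl (D.ne_l hM₀ htd) hvt h)
  have hcomm : ∀ x ∈ (T : Subgroup Q), Commute v x := fun x hx =>
    (congrArg Subtype.val (mem_center_iff.1 z.2 ⟨x, hx⟩)).symm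
  obtain ⟨n, hnT, hnM⟩ := SetLike.not_le_iff_exists.1 (fun h : (T : Subgroup Q) ≤ M =>
    T.not_dvd_index ((D.index_eq hM₀ hM ▸ hti).trans (index_dvd_of_le h)))
  exact ⟨M, v, n, T, hM, hvM, hv1, hvo, (z : (T : Subgroup Q)).2, hnT,
    D.mem_normalizer_of_commute hM hvM hv1 (hcomm n hnT), hnM, hcomm⟩

theorem index_val {M : Subgroup Q} (hM : Mem M) {t : ℕ} (ht : t.Prime) (htd : t ∣ Nat.card M)
    (hti : t ∣ M.index) : M.index.factorization t = 1 := by
  have := Fact.mk ht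
  obtain ⟨M', v, n, T, hM', hv, hv1, -, -, -, -, -, hcomm⟩ := D.exists_full_pair hM htd hti
  rw [D.index_eq hM hM'] at hti ⊢
  rw [D.card M M' hM hM'] at htd
  let R : Sylow t (EQ M') := default
  have hE : (M'.relIndex (normalizer (M' : Set Q))).factorization t = 1 := by
    have h1 := D.card_part hM' htd hti R
    rw [R.card_eq_multiplicity, card_EQ] at h1
    exact Nat.pow_right_injective ht.two_le (h1.trans (pow_one t).symm)
  have hle : (Nat.card Q).factorization t ≤ ff t (normalizer (M' : Set Q)) := by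
    have h1 := ff_mono (s := t) (show (T : Subgroup Q) ≤ normalizer (M' : Set Q) from
      fun x hx => D.mem_normalizer_of_commute hM' hv hv1 (hcomm x hx))
    rwa [ff, T.card_eq_multiplicity, ht.factorization_pow, Finsupp.single_eq_same] at h1
  have h1 : (Nat.card Q).factorization t = ff t M' + M'.index.factorization t := by
    rw [← M'.card_mul_index, Nat.factorization_mul Nat.card_pos.ne' index_ne_zero_of_finite,
      Finsupp.add_apply]
    rfl
  have h2 : ff t (normalizer (M' : Set Q)) = ff t M' + 1 := by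
    rw [ff, ← hE]
    have h0 : M'.relIndex (normalizer (M' : Set Q)) ≠ 0 := index_ne_zero_of_finite
    have hc : Nat.card (normalizer (M' : Set Q)) =
        Nat.card M' * M'.relIndex (normalizer (M' : Set Q)) := by
      rw [relIndex, ← Nat.card_congr (subgroupOfEquivOfLe (le_normalizer (H := M'))).toEquiv,
        (M'.subgroupOf (normalizer (M' : Set Q))).card_mul_index]
    rw [hc, Nat.factorization_mul Nat.card_pos.ne' h0, Finsupp.add_apply]
    rfl
  have h3 := ht.factorization_pos_of_dvd index_ne_zero_of_finite hti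
  omega

/-- Elements of a member fixed by an element outside. -/
theorem card_fixed_le {M M' : Subgroup Q} (hM : Mem M) (hM' : Mem M') {p : ℕ} [Fact p.Prime]
    (hpd : p ∣ Nat.card M) (hpi : p ∣ M.index) {H : Subgroup Q} (hHM : H ≤ M) (hH : IsPGroup p H)
    {y : Q} (hy : y ∈ M') (hyM : y ∉ M) (hc : ∀ h ∈ H, Commute h y) : Nat.card H ≤ p := by
  have hy1 : y ≠ 1 := fun h => hyM (h ▸ one_mem M)
  have hHN : H ≤ normalizer (M' : Set Q) := fun h hh =>
    D.mem_normalizer_of_commute hM' hy hy1 (hc h hh).symm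
  let φ : H →* EQ M' := (toEQ M').comp (Subgroup.inclusion hHN)
  have hφ : Function.Injective φ := by
    refine (injective_iff_map_eq_one φ).2 fun h hh => Subtype.ext ?_
    by_contra h1
    exact hyM (D.disjoint M M' hM hM' h (hHM h.2)
      ((toEQ_eq_one M' (y := ⟨(h : Q), hHN h.2⟩)).1 hh) h1 ▸ hy)
  obtain ⟨R, hR⟩ := (hH.of_surjective φ.rangeRestrict φ.rangeRestrict_surjective).exists_le_sylow
  calc Nat.card H = Nat.card φ.range := Nat.card_congr (MonoidHom.ofInjective hφ).toEquiv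
    _ ≤ Nat.card (R : Subgroup (EQ M')) := card_le_of_le hR
    _ = p := D.card_part hM' (D.card M M' hM hM' ▸ hpd) (D.index_eq hM hM' ▸ hpi) R

/-- An element fixing a nontrivial element of coprime order lies, modulo the member, in it. -/
theorem mem_of_fixed {M : Subgroup Q} (hM : Mem M) {p r : ℕ} (hp : p.Prime) (hr : r.Prime)
    (hpr : p ≠ r) {x : Q} (hx : x ∈ M) (hx1 : x ≠ 1) (hxp : Pel p x) (c : normalizer (M : Set Q))
    (hcr : Pel r (toEQ M c)) (hc : Commute x (c : Q)) : (c : Q) ∈ M := by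
  obtain ⟨y, hy, hyc⟩ := exists_lift hr hcr
  have h1 : (y : Q)⁻¹ * (c : Q) ∈ M := mem_subgroupOf.1 (QuotientGroup.eq.1 hyc)
  have h3 := hc.mul_right ((D.comm M hM x hx _ h1).inv_right)
  rw [show (c : Q) * ((y : Q)⁻¹ * c)⁻¹ = y by group] at h3
  simpa using mul_mem (D.mem_of_commute hM hp hr hpr hx hx1 hxp hy h3) h1

open scoped commutatorElement in
theorem false_two {M₀ : Subgroup Q} (hM₀ : Mem M₀) {t : ℕ} (h2d : 2 ∣ Nat.card M₀)
    (h2i : 2 ∣ M₀.index) (ht : t.Prime) (ht2 : t ≠ 2) (htd : t ∣ Nat.card M₀) (hti : t ∣ M₀.index) :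
    False := by
  have := Fact.mk ht
  have := Fact.mk Nat.prime_two
  have h2t : 2 < t := lt_of_le_of_ne ht.two_le (Ne.symm ht2)
  obtain ⟨M, v, n, T, hM, hvM, hv1, hvo, hvT, hnT, hnN, hnM, hcomm⟩ :=
    D.exists_full_pair hM₀ htd hti
  have hi := D.index_eq hM₀ hM
  have hd := D.card M₀ M hM₀ hM
  rw [hd] at h2d htd
  rw [hi] at h2i hti
  have hl2 : l ≠ 2 := (D.ne_l hM h2d).symm
  obtain ⟨m, hm2, hmN, hmM⟩ := D.exists_outside hM Nat.prime_two h2d h2i
  obtain ⟨hmo, -⟩ := D.outside hM Nat.prime_two h2d hm2 hmN hmM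
  have hmm : m * m = 1 := by rw [← pow_two, ← hmo, pow_orderOf_eq_one]
  have hminv : m⁻¹ = m := inv_eq_of_mul_eq_one_right hmm
  have hvt : Pel t v := ⟨1, by rw [pow_one, ← hvo, pow_orderOf_eq_one]⟩
  have hnt : Pel t n := Pel.mem_of_isPGroup T.2 hnT
  obtain ⟨hEt, hEs⟩ := D.two_nonfull hM Nat.prime_two h2d h2i ht htd hti h2t
  set N := normalizer (M : Set Q) with hN
  -- the commutator of `m` and `n`
  set cN : N := ⟨m, hmN⟩ * ⟨n, hnN⟩ * (⟨m, hmN⟩ : N)⁻¹ * (⟨n, hnN⟩ : N)⁻¹ with hcN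
  have hcval : (cN : Q) = m * n * m⁻¹ * n⁻¹ := rfl
  have hcM : (cN : Q) ∉ M := fun h =>
    D.not_comm hM ht Nat.prime_two ht2.symm htd hnt hnN hnM hm2 hmN hmM h
  have hcE : toEQ M cN ∈ commutator (EQ M) := by
    have h1 : toEQ M cN = ⁅toEQ M ⟨m, hmN⟩, toEQ M ⟨n, hnN⟩⁆ := by
      rw [commutatorElement_def, ← map_inv, ← map_inv, ← map_mul, ← map_mul, ← map_mul]
    rw [h1]
    exact commutator_mem_commutator (mem_top _) (mem_top _)
  have hcp : Pel t (toEQ M cN) := ⟨1, by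
    rw [pow_one, ← hEt]
    exact congrArg Subtype.val (pow_card_eq_one' (x := (⟨_, hcE⟩ : commutator (EQ M))))⟩
  have hcomM : ∀ p ∈ M, ∀ q ∈ M, Commute p q := D.comm M hM
  have hmc : ∀ x ∈ M, m * x * m⁻¹ ∈ M := fun x hx => (mem_normalizer_iff.1 hmN x).1 hx
  have hnc : ∀ x ∈ M, n * x * n⁻¹ ∈ M := fun x hx => (mem_normalizer_iff.1 hnN x).1 hx
  -- inversion on the `t`-part
  obtain ⟨At, hAtM, hAt, hAtcard, -, hAtmem, hnAt⟩ := D.exists_part_sub hM ht htd
  obtain ⟨A, hAM, hA, hAcard, hAne, hAmem, hnA⟩ := D.exists_part_sub hM Nat.prime_two h2d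
  have hinv : ∀ x ∈ At, m * x * m⁻¹ = x⁻¹ := by
    intro x hx
    have hy : x * (m * x * m⁻¹) ∈ At := mul_mem hx ((mem_normalizer_iff.1 (hnAt hmN) x).1 hx)
    have hcm : Commute (x * (m * x * m⁻¹)) m := by
      refine Eq.symm (mul_inv_eq_iff_eq_mul.1 ?_)
      calc m * (x * (m * x * m⁻¹)) * m⁻¹ = m * x * m⁻¹ * ((m * m) * x * (m * m)⁻¹) := by group
        _ = m * x * m⁻¹ * x := by rw [hmm]; group
        _ = _ := (hcomM _ (hmc x (hAtM hx)) _ (hAtM hx)).eq
    have h1 : x * (m * x * m⁻¹) = 1 := by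
      by_contra h1
      exact hmM (D.mem_of_commute hM ht Nat.prime_two ht2 (hAtM hy) h1
        (Pel.mem_of_isPGroup hAt hy) hm2 hcm)
    exact eq_inv_of_mul_eq_one_right h1
  have hcx : ∀ x ∈ At, Commute x (cN : Q) := by
    intro x hx
    have h1 : n⁻¹ * x * n ∈ At := (mem_normalizer_iff''.1 (hnAt hnN) x).1 hx
    refine Eq.symm (mul_inv_eq_iff_eq_mul.1 ?_)
    rw [hcval]
    calc m * n * m⁻¹ * n⁻¹ * x * (m * n * m⁻¹ * n⁻¹)⁻¹
        = m * (n * (m⁻¹ * (n⁻¹ * x * n) * m⁻¹⁻¹) * n⁻¹) * m⁻¹ := by group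
      _ = m * (n * (n⁻¹ * x * n)⁻¹ * n⁻¹) * m⁻¹ := by
          rw [show m⁻¹ * (n⁻¹ * x * n) * m⁻¹⁻¹ = (n⁻¹ * x * n)⁻¹ by
            rw [hminv, hminv]
            have := hinv _ h1
            rwa [hminv] at this]
      _ = m * x⁻¹ * m⁻¹ := by group
      _ = x := by rw [hinv _ (inv_mem hx), inv_inv]
  -- `n` is congruent to a power of the commutator
  have hnfix : ∀ x ∈ At, Commute x n := by
    have hqn : toEQ M ⟨n, hnN⟩ ∈ commutator (EQ M) := by
      rw [← QuotientGroup.eq_one_iff (N := commutator (EQ M))]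
      obtain ⟨k, hk⟩ := hnt
      refine Pel.eq_one ht Nat.prime_two ht2 ⟨k, ?_⟩ ⟨1, ?_⟩
      · rw [← QuotientGroup.mk_pow, ← map_pow,
          show (⟨n, hnN⟩ : N) ^ t ^ k = 1 from Subtype.ext hk, map_one]
        rfl
      · rw [pow_one, ← hEs, index_eq_card, pow_card_eq_one']
    have h4 : zpowers (⟨_, hcE⟩ : commutator (EQ M)) = ⊤ :=
      zpowers_eq_top_of_prime_card hEt fun h =>
        hcM ((toEQ_eq_one M).1 (congrArg Subtype.val h))
    obtain ⟨i, hi⟩ := mem_zpowers_iff.1 (h4 ▸ mem_top (⟨_, hqn⟩ : commutator (EQ M)))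
    have h5 : toEQ M (cN ^ i) = toEQ M ⟨n, hnN⟩ := by
      rw [map_zpow]; exact congrArg Subtype.val hi
    have h6 : ((cN : Q) ^ i)⁻¹ * n ∈ M := by
      have := mem_subgroupOf.1 (QuotientGroup.eq.1 h5)
      simpa using this
    intro x hx
    have h7 := ((hcx x hx).zpow_right i).mul_right (hcomM x (hAtM hx) _ h6)
    rwa [mul_inv_cancel_left] at h7
  have hnl : ¬ Pel l n := fun h => hnM (by
    rw [Pel.eq_one ht D.hl (D.ne_l hM htd) hnt h]; exact one_mem M)
  obtain ⟨Mn, hMn, hnMn⟩ := D.cover n (fun h => hnM (h ▸ one_mem M)) hnl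
  have hAtle : Nat.card At ≤ t := D.card_fixed_le hM hMn htd hti hAtM hAt hnMn hnM hnfix
  have hAtv : At = zpowers v := by
    refine (eq_of_le_of_card_ge (zpowers_le.2 (hAtmem v hvM hvt)) ?_).symm
    rw [Nat.card_zpowers, hvo]; exact hAtle
  -- the `2`-part
  have hA2 : ∀ x ∈ A, x ^ 2 = 1 := by
    intro x hx
    by_contra hne
    have hinvert : ∀ g ∈ N, g ∉ M → g * g = 1 → g * x ^ 2 * g⁻¹ = (x ^ 2)⁻¹ := by
      intro g hg hgM hgg
      have hg2 : orderOf g = 2 := orderOf_eq_prime (by rw [pow_two, hgg]) fun h => hgM (h ▸ one_mem M)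
      have hg1 : g ≠ 1 := fun h => hgM (h ▸ one_mem M)
      obtain ⟨M', hM', hgM'⟩ := D.cover g hg1 fun h => hg1 (Pel.eq_one Nat.prime_two D.hl hl2.symm
        ⟨1, by rw [pow_one, ← hg2, pow_orderOf_eq_one]⟩ h)
      set u := x * (g * x * g⁻¹) with hu
      have hgx : g * x * g⁻¹ ∈ M := (mem_normalizer_iff.1 hg x).1 (hAM hx)
      have huM : u ∈ M := mul_mem (hAM hx) hgx
      have hug : Commute g u := by
        refine mul_inv_eq_iff_eq_mul.1 ?_
        calc g * (x * (g * x * g⁻¹)) * g⁻¹ = g * x * g⁻¹ * ((g * g) * x * (g * g)⁻¹) := by group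
          _ = g * x * g⁻¹ * x := by rw [hgg]; group
          _ = _ := (hcomM _ hgx _ (hAM hx)).eq
      have h1 : u ^ 2 ∈ M' := hg2 ▸ D.pow_mem_of_commute M' hM' g hgM' hg1 u hug
      have h2 : u ^ 2 = 1 := by
        by_contra h2
        exact hgM (D.disjoint M M' hM hM' _ (pow_mem huM 2) h1 h2 ▸ hgM')
      refine eq_inv_of_mul_eq_one_right ?_
      rw [← conj_pow, ← (hcomM x (hAM hx) _ hgx).mul_pow]
      exact h2
    have hg' : n * m * n⁻¹ * (n * m * n⁻¹) = 1 := by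
      calc _ = n * (m * m) * n⁻¹ := by group
        _ = 1 := by rw [hmm]; group
    have h1 := hinvert m hmN hmM hmm
    have h2 := hinvert (n * m * n⁻¹) (mul_mem (mul_mem hnN hmN) (inv_mem hnN))
      (fun h => hmM (by simpa [mul_assoc] using (mem_normalizer_iff''.1 hnN _).1 h)) hg'
    refine hcM (D.mem_of_fixed hM Nat.prime_two ht (Ne.symm ht2) (pow_mem (hAM hx) 2) hne
      ((Pel.mem_of_isPGroup hA hx).pow 2) cN hcp ?_)
    refine Eq.symm (mul_inv_eq_iff_eq_mul.1 ?_)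
    rw [hcval]
    generalize x ^ 2 = z at h1 h2
    calc m * n * m⁻¹ * n⁻¹ * z * (m * n * m⁻¹ * n⁻¹)⁻¹
        = m * ((n * m⁻¹ * n⁻¹) * z * (n * m⁻¹ * n⁻¹)⁻¹) * m⁻¹ := by group
      _ = m * z⁻¹ * m⁻¹ := by rw [hminv, h2]
      _ = (m * z * m⁻¹)⁻¹ := by group
      _ = z := by rw [h1, inv_inv]
  have hcA : ∀ p ∈ A, ∀ q ∈ A, Commute p q := fun p hp q hq => hcomM p (hAM hp) q (hAM hq)
  have hAinv : ∀ x ∈ A, x⁻¹ = x := fun x hx =>
    inv_eq_of_mul_eq_one_right (by rw [← pow_two, hA2 x hx])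
  obtain ⟨Mm, hMm, hmMm⟩ := D.cover m (fun h => hmM (h ▸ one_mem M)) fun h => hmM (by
    rw [Pel.eq_one Nat.prime_two D.hl hl2.symm hm2 h]; exact one_mem M)
  have hFle : Nat.card (A ⊓ cen m : Subgroup Q) ≤ 2 :=
    D.card_fixed_le hM hMm h2d h2i (inf_le_left.trans hAM) (hA.to_le inf_le_left) hmMm hmM
      fun h hh => mem_cen.1 hh.2
  let ψ : A →* (A ⊓ cen m : Subgroup Q) :=
    { toFun := fun x => ⟨(x : Q) * (m * x * m⁻¹),
        mul_mem x.2 ((mem_normalizer_iff.1 (hnA hmN) x).1 x.2),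
        mem_cen.2 (Eq.symm (mul_inv_eq_iff_eq_mul.1 (by
          calc m * ((x : Q) * (m * x * m⁻¹)) * m⁻¹
              = m * x * m⁻¹ * ((m * m) * x * (m * m)⁻¹) := by group
            _ = m * x * m⁻¹ * x := by rw [hmm]; group
            _ = _ := (hcA _ ((mem_normalizer_iff.1 (hnA hmN) x).1 x.2) _ x.2).eq)))⟩
      map_one' := Subtype.ext (by show (1 : Q) * (m * 1 * m⁻¹) = 1; group)
      map_mul' := fun p q => Subtype.ext (by
        show (p : Q) * q * (m * ((p : Q) * q) * m⁻¹) =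
          (p : Q) * (m * p * m⁻¹) * ((q : Q) * (m * q * m⁻¹))
        have hp' := (mem_normalizer_iff.1 (hnA hmN) p).1 p.2
        calc (p : Q) * q * (m * ((p : Q) * q) * m⁻¹)
            = (p : Q) * ((q : Q) * (m * p * m⁻¹)) * (m * q * m⁻¹) := by group
          _ = (p : Q) * ((m * p * m⁻¹) * q) * (m * q * m⁻¹) := by rw [(hcA _ q.2 _ hp').eq]
          _ = _ := by group) }
  have hker : ψ.ker.map A.subtype ≤ A ⊓ cen m := by
    rintro _ ⟨x, hx, rfl⟩
    refine ⟨x.2, mem_cen.2 ?_⟩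
    have h1 : (x : Q) * (m * x * m⁻¹) = 1 := congrArg Subtype.val (MonoidHom.mem_ker.1 hx)
    refine Eq.symm (mul_inv_eq_iff_eq_mul.1 ?_)
    show m * (x : Q) * m⁻¹ = x
    rw [eq_inv_of_mul_eq_one_right h1, hAinv _ x.2]
  have hA4 : Nat.card A ≤ 4 := by
    rw [← ψ.ker.card_mul_index, index_ker]
    have h1 : Nat.card ψ.ker ≤ 2 := by
      rw [← card_map_of_injective A.subtype_injective]
      exact (card_le_of_le hker).trans hFle
    have h2 : Nat.card ψ.range ≤ 2 := (card_le_card_group _).trans hFle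
    exact (Nat.mul_le_mul h1 h2)
  -- `t = 3`
  obtain ⟨a₀, ha₀, ha₀1⟩ := (Subgroup.bot_or_exists_ne_one A).resolve_left hAne
  have hA3 : t = 3 ∧ Nat.card A = 4 := by
    let _ : MulDistribMulAction (zpowers (⟨n, hnN⟩ : N)) A :=
      MulDistribMulAction.compHom A ((A.normalizerMonoidHom.comp (Subgroup.inclusion hnA)).comp
        (zpowers (⟨n, hnN⟩ : N)).subtype)
    have hf : Frobenius.IsFPF (zpowers (⟨n, hnN⟩ : N)) A := by
      intro q hq x hx
      by_contra hx1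
      obtain ⟨i, hi⟩ := mem_zpowers_iff.1 q.2
      have h1 : ((q : N) : Q) * (x : Q) * ((q : N) : Q)⁻¹ = x := congrArg Subtype.val hx
      have hqM : ((q : N) : Q) ∈ M := by
        refine D.mem_of_commute hM Nat.prime_two ht (Ne.symm ht2) (hAM x.2)
          (fun h => hx1 (Subtype.ext h)) (Pel.mem_of_isPGroup hA x.2) ?_
          (mul_inv_eq_iff_eq_mul.1 h1).symm
        exact Pel.mem_of_isPGroup (Pel.isPGroup_zpowers ht hnt)
          (mem_zpowers_iff.2 ⟨i, by rw [← hi]; rfl⟩)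
      have hq1 : ((q : N) : Q) ≠ 1 := fun h => hq (Subtype.ext (Subtype.ext h))
      obtain ⟨j, hj⟩ := (mem_powers_iff_mem_zpowers (x := n)).2
        (mem_zpowers_iff.2 ⟨i, by rw [← hi]; rfl⟩ : ((q : N) : Q) ∈ zpowers n)
      rw [← hj] at hqM hq1
      exact hq1 (D.eq_one_of_pow_mem hM hnM hqM)
    have h1 := hf.card_dvd_sub_one
    rw [Nat.card_zpowers, ← orderOf_coe, (D.outside hM ht htd hnt hnN hnM).1] at h1
    obtain ⟨k, hk⟩ := hA.exists_card_eq
    have h2 : 1 < Nat.card A := (A.one_lt_card_iff_ne_bot).2 hAne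
    have hk2 : k ≤ 2 := by
      by_contra hk3
      have : 2 ^ 3 ≤ 2 ^ k := Nat.pow_le_pow_right (by norm_num) (not_le.1 hk3)
      omega
    have h3 := Nat.le_of_dvd (by omega) h1
    interval_cases k <;> omega
  obtain ⟨rfl, hA4'⟩ := hA3
  -- Sylow orders
  have hS2 : (Nat.card Q).factorization 2 = 3 := by
    rw [← M.card_mul_index, Nat.factorization_mul Nat.card_pos.ne' index_ne_zero_of_finite,
      Finsupp.add_apply, D.index_val hM Nat.prime_two h2d h2i]
    rw [hA4', show (4 : ℕ) = 2 ^ 2 by norm_num] at hAcard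
    have := Nat.pow_right_injective le_rfl hAcard
    simp only [ff] at this
    omega
  have hS3 : Nat.card (T : Subgroup Q) = 3 ^ 2 := by
    rw [T.card_eq_multiplicity, ← M.card_mul_index,
      Nat.factorization_mul Nat.card_pos.ne' index_ne_zero_of_finite, Finsupp.add_apply,
      D.index_val hM ht htd hti]
    rw [hAtv, Nat.card_zpowers, hvo] at hAtcard
    have := Nat.pow_right_injective (show 2 ≤ 3 by norm_num) ((pow_one 3).trans hAtcard)
    simp only [ff] at this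
    rw [← this]
  have hTcomm : ∀ p ∈ (T : Subgroup Q), ∀ q ∈ (T : Subgroup Q), Commute p q := fun p hp q hq => by
    have := IsPGroup.isMulCommutative_of_card_eq_prime_sq hS3
    exact congrArg Subtype.val (mul_comm' (⟨p, hp⟩ : (T : Subgroup Q)) ⟨q, hq⟩)
  -- all members are conjugate to `M`
  have hPP : IsPGroup 2 (A ⊔ zpowers m : Subgroup Q) :=
    hA.to_sup_of_normal_left' (Pel.isPGroup_zpowers Nat.prime_two hm2) (zpowers_le.2 (hnA hmN))
  obtain ⟨P, hP⟩ := hPP.exists_le_sylow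
  have hPcard : Nat.card (P : Subgroup Q) = 8 := by rw [P.card_eq_multiplicity, hS2]; rfl
  have hdis : A ⊓ zpowers m = ⊥ := by
    refine eq_bot_iff.2 fun x hx => mem_bot.2 ?_
    obtain ⟨j, hj⟩ := (mem_powers_iff_mem_zpowers (x := m)).2 hx.2
    have hmem := hAM hx.1
    rw [← hj] at hmem ⊢
    exact D.eq_one_of_pow_mem hM hmM hmem
  have hAP : (P : Subgroup Q) ≤ normalizer (A : Set Q) := by
    have hPeq : A ⊔ zpowers m = (P : Subgroup Q) := by
      refine eq_of_le_of_card_ge hP ?_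
      have h1 := Coprime.card_sup_of_disjoint (H := zpowers m) (N := A) (zpowers_le.2 (hnA hmN)) hdis
      rw [Nat.card_zpowers, hmo, hA4', sup_comm] at h1
      rw [h1, hPcard]
    rw [← hPeq]
    exact sup_le le_normalizer (zpowers_le.2 (hnA hmN))
  have horbit : ∀ M', Mem M' → ∃ g : Q, ∀ y ∈ M', g * y * g⁻¹ ∈ M := by
    intro M' hM'
    have h2d' : 2 ∣ Nat.card M' := D.card M M' hM hM' ▸ h2d
    obtain ⟨B, hBM, hB, hBcard, hBne, -, -⟩ := D.exists_part_sub hM' Nat.prime_two h2d'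
    obtain ⟨R, hR⟩ := hB.exists_le_sylow
    obtain ⟨g, hg⟩ := MulAction.exists_smul_eq Q R P
    have hcard : Nat.card B = Nat.card A := by
      rw [hBcard, hAcard]; simp only [ff, D.card M M' hM hM']
    set B' := B.map (MulAut.conj g).toMonoidHom
    have hB'P : B' ≤ (P : Subgroup Q) := by
      rw [← hg]
      rintro _ ⟨y, hy, rfl⟩
      exact ⟨y, hR hy, rfl⟩
    have hB'card : Nat.card B' = 4 := by
      rw [card_map_of_injective (MulAut.conj g).injective, hcard, hA4']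
    have hne : A ⊓ B' ≠ ⊥ := fun h => by
      have h1 := Coprime.card_sup_of_disjoint (H := B') (N := A) (hB'P.trans hAP) h
      rw [hB'card, hA4'] at h1
      have h2 := card_le_of_le (sup_le hB'P (le_sup_left.trans hP) : B' ⊔ A ≤ (P : Subgroup Q))
      rw [h1, hPcard] at h2
      omega
    obtain ⟨x, hx, hx1⟩ := (Subgroup.bot_or_exists_ne_one _).resolve_left hne
    have heq := D.disjoint M _ hM (D.conj M' hM' g) x (hAM hx.1) (map_mono hBM hx.2) hx1
    exact ⟨g, fun y hy => heq ▸ mem_map_of_mem (MulAut.conj g).toMonoidHom hy⟩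
  -- transitivity
  have hTv : (T : Subgroup Q) ≤ cen v := fun y hy => mem_cen.2 (hcomm y hy).symm
  have hmv : m * v * m⁻¹ = v⁻¹ := hinv v (hAtmem v hvM hvt)
  obtain ⟨c₁, hc₁, hm'⟩ := exists_conj_in_cen T hTv (h := m) fun y hy => mem_cen.2 (by
    have h1 := (Commute.conj_iff m).2 (hcomm y hy)
    rw [hmv] at h1
    exact (Commute.inv_left_iff.1 h1).symm)
  have hm'v : c₁ * m * v * (c₁ * m)⁻¹ = v⁻¹ := by
    calc _ = c₁ * (m * v * m⁻¹) * c₁⁻¹ := by group
      _ = _ := by rw [hmv, ((mem_cen.1 hc₁).inv_right).eq, mul_inv_cancel_right]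
  set NT := normalizer ((T : Subgroup Q) : Set Q) with hNT
  have hpow : ∀ y ∈ zpowers v, y ≠ 1 → y = v ∨ y = v⁻¹ := by
    intro y hy hy1
    obtain ⟨j, rfl⟩ := mem_zpowers_iff.1 hy
    rw [← zpow_mod_orderOf] at hy1 ⊢
    rw [hvo] at hy1 ⊢
    have := Int.emod_nonneg j (show ((3 : ℕ) : ℤ) ≠ 0 by norm_num)
    have := Int.emod_lt_of_pos j (show (0 : ℤ) < ((3 : ℕ) : ℤ) by norm_num)
    rcases (by omega : j % ((3 : ℕ) : ℤ) = 0 ∨ j % ((3 : ℕ) : ℤ) = 1 ∨ j % ((3 : ℕ) : ℤ) = 2) with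
      h | h | h
    · rw [h, zpow_zero] at hy1; exact absurd rfl hy1
    · exact Or.inl (by rw [h, zpow_one])
    · refine Or.inr (eq_inv_of_mul_eq_one_left ?_)
      rw [h, ← zpow_add_one, show (2 : ℤ) + 1 = ((orderOf v : ℕ) : ℤ) by rw [hvo]; norm_num,
        zpow_natCast, pow_orderOf_eq_one]
  have htrans : ∀ x ∈ (T : Subgroup Q), x ≠ 1 → ∃ h ∈ NT, h * x * h⁻¹ = v := by
    intro x hx hx1
    suffices H : ∃ h ∈ NT, h * x * h⁻¹ = v ∨ h * x * h⁻¹ = v⁻¹ by
      obtain ⟨h, hh, h' | h'⟩ := H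
      · exact ⟨h, hh, h'⟩
      · refine ⟨c₁ * m * h, mul_mem hm' hh, ?_⟩
        calc c₁ * m * h * x * (c₁ * m * h)⁻¹ = c₁ * m * (h * x * h⁻¹) * (c₁ * m)⁻¹ := by group
          _ = (c₁ * m * v * (c₁ * m)⁻¹)⁻¹ := by rw [h']; group
          _ = v := by rw [hm'v, inv_inv]
    have hxt := Pel.mem_of_isPGroup T.2 hx
    obtain ⟨Mx, hMx, hxMx⟩ := D.cover x hx1 fun h =>
      hx1 (Pel.eq_one ht D.hl (D.ne_l hM htd) hxt h)
    obtain ⟨g, hg⟩ := horbit Mx hMx
    have hy1 : g * x * g⁻¹ ≠ 1 := fun h => hx1 (by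
      have := congrArg (fun z => g⁻¹ * z * g) h
      simpa [mul_assoc] using this)
    have hy : g * x * g⁻¹ ∈ zpowers v := hAtv ▸ hAtmem _ (hg x hxMx) (hxt.conj g)
    have hTy : (T : Subgroup Q) ≤ cen (g * x * g⁻¹) := fun z hz => mem_cen.2 (by
      obtain ⟨j, hj⟩ := mem_zpowers_iff.1 hy
      rw [← hj]
      exact ((hcomm z hz).zpow_left j).symm)
    obtain ⟨c, hc, hcg⟩ := exists_conj_in_cen T hTy (h := g) fun z hz =>
      mem_cen.2 ((Commute.conj_iff g).2 (hTcomm x hx z hz).symm)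
    refine ⟨c * g, hcg, ?_⟩
    have : c * g * x * (c * g)⁻¹ = g * x * g⁻¹ := by
      calc _ = c * (g * x * g⁻¹) * c⁻¹ := by group
        _ = _ := by rw [(mem_cen.1 hc).eq, mul_inv_cancel_right]
    rw [this]
    exact hpow _ hy hy1
  -- the order of the normalizer
  have h8 : 8 ∣ Nat.card NT := by
    let _ : MulAction NT (T : Subgroup Q) :=
      MulAction.compHom (T : Subgroup Q) (T : Subgroup Q).normalizerMonoidHom
    have horb : MulAction.orbit NT (⟨v, hvT⟩ : (T : Subgroup Q)) = {1}ᶜ := by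
      ext x
      constructor
      · rintro ⟨g, rfl⟩ h
        have h' : (g : Q) * v * (g : Q)⁻¹ = 1 := congrArg Subtype.val h
        exact hv1 (by
          have := congrArg (fun z => (g : Q)⁻¹ * z * g) h'
          simpa [mul_assoc] using this)
      · intro hx
        obtain ⟨h, hh, he⟩ := htrans x x.2 fun h => hx (Subtype.ext h)
        refine ⟨(⟨h, hh⟩ : NT)⁻¹, Subtype.ext ?_⟩
        show h⁻¹ * v * h⁻¹⁻¹ = x
        rw [← he]; group
    have h1 : Nat.card (MulAction.orbit NT (⟨v, hvT⟩ : (T : Subgroup Q))) = 8 := by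
      rw [horb, Nat.card_coe_set_eq, Set.ncard_compl, Set.ncard_singleton, hS3]
      rfl
    rw [← h1, Nat.card_coe_set_eq, ← MulAction.index_stabilizer]
    exact index_dvd_card _
  let R₀ : Sylow 2 NT := default
  have hR₀ : Nat.card ((R₀ : Subgroup NT).map NT.subtype) = 2 ^ (Nat.card Q).factorization 2 := by
    rw [card_map_of_injective NT.subtype_injective, R₀.card_eq_multiplicity, hS2]
    congr 1
    have h1 := (Nat.prime_two.pow_dvd_iff_le_factorization (k := 3) Nat.card_pos.ne').1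
      (by norm_num; exact h8)
    have h2 := ff_mono (s := 2) (le_top (a := NT))
    rw [ff, ff, Subgroup.card_top, hS2] at h2
    omega
  obtain ⟨g, hg⟩ := MulAction.exists_smul_eq Q P (Sylow.ofCard _ hR₀)
  set V := A.map (MulAut.conj g).toMonoidHom with hV
  have hVN : V ≤ NT := by
    rintro _ ⟨a, ha, rfl⟩
    have h1 : g * a * g⁻¹ ∈ (R₀ : Subgroup NT).map NT.subtype := by
      have : g * a * g⁻¹ ∈ ((g • P : Sylow 2 Q) : Subgroup Q) :=
        ⟨a, hP (mem_sup_left ha), rfl⟩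
      rw [hg] at this
      exact this
    exact map_subtype_le _ h1
  have hVexp : ∀ u ∈ V, u ^ 2 = 1 := by
    rintro _ ⟨a, ha, rfl⟩
    rw [← map_pow, hA2 a ha, map_one]
  have hVc : IsMulCommutative (V.subgroupOf NT) := ⟨⟨fun p q => by
    obtain ⟨a, ha, ha'⟩ := mem_subgroupOf.1 p.2
    obtain ⟨a', hb, hb'⟩ := mem_subgroupOf.1 q.2
    refine Subtype.ext (Subtype.ext ?_)
    show ((p : NT) : Q) * ((q : NT) : Q) = ((q : NT) : Q) * ((p : NT) : Q)
    rw [← ha', ← hb', ← map_mul, ← map_mul, (hcA a ha a' hb).eq]⟩⟩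
  have : ((T : Subgroup Q).subgroupOf NT).Normal := normal_subgroupOf_of_le_normalizer le_rfl
  have hcyc : IsCyclic (V.subgroupOf NT) := by
    refine FewOrders.isCyclic_of_conj_fpf ((T : Subgroup Q).subgroupOf NT) _ (fun h => ?_)
      fun q hq hq1 w hw hqw => ?_
    · have h1 : (⟨v, le_normalizer hvT⟩ : NT) ∈ (T : Subgroup Q).subgroupOf NT :=
        mem_subgroupOf.2 hvT
      rw [h, mem_bot] at h1
      exact hv1 (congrArg Subtype.val h1)
    by_contra hw1
    obtain ⟨h, hh, he⟩ := htrans w (mem_subgroupOf.1 hw) fun e => hw1 (Subtype.ext e)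
    set u := h * (q : Q) * h⁻¹ with hu
    have hu2 : Pel 2 u := Pel.conj ⟨1, hVexp _ (mem_subgroupOf.1 hq)⟩ h
    have hu1 : u ≠ 1 := fun e => hq1 (Subtype.ext (by
      have := congrArg (fun z => h⁻¹ * z * h) e
      simpa [hu, mul_assoc] using this))
    have huv : Commute v u :=
      he ▸ (Commute.conj_iff h).2 ((hqw.map NT.subtype).symm)
    have huM : u ∈ M := D.mem_of_commute hM ht Nat.prime_two ht2 hvM hv1 hvt hu2 huv
    have huA : u ∈ A := hAmem u huM hu2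
    have huN : u ∈ NT := mul_mem (mul_mem hh q.2) (inv_mem hh)
    have h1 : u * n * u⁻¹ * n⁻¹ ∈ (T : Subgroup Q) :=
      mul_mem ((mem_normalizer_iff.1 huN n).1 hnT) (inv_mem hnT)
    have h2 : u * n * u⁻¹ * n⁻¹ ∈ A := by
      rw [show u * n * u⁻¹ * n⁻¹ = u * (n * u⁻¹ * n⁻¹) by group]
      exact mul_mem huA ((mem_normalizer_iff.1 (hnA hnN) _).1 (inv_mem huA))
    have h3 : u * n * u⁻¹ * n⁻¹ = 1 := Pel.eq_one Nat.prime_two ht (Ne.symm ht2)
      (Pel.mem_of_isPGroup hA h2) (Pel.mem_of_isPGroup T.2 h1)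
    exact hnM (D.mem_of_commute hM Nat.prime_two ht (Ne.symm ht2) huM hu1 hu2 hnt
      (mul_inv_eq_iff_eq_mul.1 (mul_inv_eq_one.1 h3)))
  obtain ⟨g₀, hg₀⟩ := hcyc.exists_generator
  have hVcard : Nat.card (V.subgroupOf NT) = 4 := by
    rw [Nat.card_congr (subgroupOfEquivOfLe hVN).toEquiv,
      card_map_of_injective (MulAut.conj g).injective, hA4']
  have h4 : orderOf g₀ = 4 := by rw [orderOf_eq_card_of_forall_mem_zpowers hg₀, hVcard]
  have h2' : g₀ ^ 2 = 1 := Subtype.ext (Subtype.ext (hVexp _ (mem_subgroupOf.1 g₀.2)))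
  have := orderOf_dvd_of_pow_eq_one h2'
  rw [h4] at this
  omega

end PHyp

end CfsgLib.Ito
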