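import Cfsg.Agent.Lib.Struct77.Ito.Setup
import Cfsg.Agent.Lib.Coprime.Basic
import Cfsg.Agent.S4033
import Cfsg.Agent.S4034

/-!
A proper inclusion of centralizers: the quotient of the two class sizes is a prime power.
-/

set_option autoImplicit false

namespace CfsgLib.Ito

open Subgroup CfsgLib.Structure81.CoprimeClass

universe u

variable {G : Type u} [Group G] [Finite G] {n₁ n₂ : ℕ}

/-- There is a proper inclusion between centralizers of noncentral elements. -/
def Incl (G : Type u) [Group G] : Prop :=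
  ∃ x y : G, y ∉ center G ∧ cen x < cen y

namespace Data

variable (D : Data G n₁ n₂)
include D

theorem idx_of_lt {x y : G} (hy : y ∉ center G) (h : cen x < cen y) :
    idx x = n₁ ∧ idx y = n₂ ∧ n₂ ∣ n₁ := by
  have hx := notMem_center_of_cen_le h.le hy
  have hlt : idx y < idx x := by
    by_contra hge
    exact h.ne (eq_of_cen_le h.le (not_lt.1 hge))
  have hd : idx y ∣ idx x := index_dvd_of_le h.le
  have := D.lt
  rcases D.sizes x hx with hx' | hx' <;> rcases D.sizes y hy with hy' | hy' <;>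
    rw [hx', hy'] at hlt <;> first | omega | exact ⟨hx', hy', hy' ▸ hx' ▸ hd⟩

/-- The ratio in the centralizer of a primary element. -/
theorem ratio_primes {l : ℕ} (hl : l.Prime) {x y : G} (hy : y ∉ center G) (hyl : Pel l y)
    (hxy : cen x < cen y) :
    (∀ p : ℕ, p.Prime → p ∣ n₁ / n₂ → p = l) ∨
      ∃ q : ℕ, (∀ p : ℕ, p.Prime → p ∣ n₁ / n₂ → p = l ∨ p = q) ∧
        ∀ (s : ℕ) (u : G), s.Prime → s ≠ l → s ≠ q → u ∈ cen y → Pel s u →
          ∀ h ∈ cen y, Commute u h := by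
  obtain ⟨hx, hy', hdvd⟩ := D.idx_of_lt hy hxy
  set r := n₁ / n₂ with hr
  have hr0 : r * n₂ = n₁ := Nat.div_mul_cancel hdvd
  have := Fact.mk hl
  have hcases : ∀ w : cen y, (orderOf w).Coprime l →
      (cen (w : G)).relIndex (cen y) = 1 ∨ (cen (w : G)).relIndex (cen y) = r := by
    intro w hw
    have hco : (orderOf y).Coprime (orderOf (w : G)) := by
      obtain ⟨k, hk⟩ := hyl.exists_orderOf hl
      rw [hk, orderOf_coe]; exact (hw.symm).pow_left k
    rcases D.rel_cases hy (mem_cen.1 w.2).symm hco with h | ⟨-, -, h⟩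
    · exact Or.inl h
    · exact Or.inr h
  by_cases hall : ∀ w : cen y, (orderOf w).Coprime l → (cen (w : G)).relIndex (cen y) = 1
  · refine Or.inl fun p hp hpr => ?_
    by_contra hpl
    have := Fact.mk hp
    obtain ⟨A, hAy, hA, hAcard, -⟩ := exists_sylow_sub (cen y) p
    have hAx : A ≤ cen x := fun a ha => by
      have hco : (orderOf (⟨a, hAy ha⟩ : cen y)).Coprime l := by
        obtain ⟨k, hk⟩ := (Pel.mem_of_isPGroup hA ha).exists_orderOf hp
        rw [Subgroup.orderOf_mk, hk]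
        exact ((Nat.coprime_primes hp hl).2 hpl).pow_left k
      exact mem_cen_comm.1 (relIndex_eq_one.1 (hall _ hco) (hxy.le (mem_cen_self x)))
    have h1 := ff_mono (s := p) hAx
    rw [ff, hAcard, Nat.Prime.factorization_pow hp, Finsupp.single_eq_same] at h1
    have h2 := ff_add_idx p x
    have h3 := ff_add_idx p y
    rw [hx, ← hr0, Nat.factorization_mul (fun h => by rw [h, zero_mul] at hr0; exact D.pos₁.ne hr0)
      D.pos₂.ne', Finsupp.add_apply] at h2
    rw [hy'] at h3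
    have hr1 : r ≠ 0 := fun h => by rw [h, zero_mul] at hr0; exact D.pos₁.ne hr0
    have := hp.factorization_pos_of_dvd hr1 hpr
    omega
  push Not at hall
  obtain ⟨w, hwc, hwne⟩ := hall
  have hwr := (hcases w hwc).resolve_left hwne
  have hrange : (Set.range fun v : {v : cen y // (orderOf v).Coprime l} =>
      (ConjClasses.mk (v : cen y)).carrier.ncard).ncard = 2 := by
    rw [Set.ncard_eq_two]
    refine ⟨1, r, fun h => hwne (hwr.trans h.symm), Set.ext fun m => ?_⟩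
    constructor
    · rintro ⟨⟨v, hv⟩, rfl⟩
      simp only [ncard_class_sub, Set.mem_insert_iff, Set.mem_singleton_iff]
      exact hcases v hv
    · rintro (rfl | rfl)
      · refine ⟨⟨1, by rw [orderOf_one]; exact Nat.coprime_one_left _⟩, ?_⟩
        simp only [ncard_class_sub, OneMemClass.coe_one]
        exact relIndex_eq_one.2 fun a _ => mem_cen.2 (Commute.one_right a)
      · exact ⟨⟨w, hwc⟩, by simp only [ncard_class_sub]; exact hwr⟩
  rcases Cfsg.Agent.S4033.result hl hrange with hab | ⟨q, hqf, P, Q, A, hql, hAc, hPQ, hn, hinf, hsup⟩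
  · refine Or.inl fun p hp hpr => ?_
    obtain ⟨k, hk⟩ := (Cfsg.Agent.S4034.result hl).2 hab w hwc
    rw [ncard_class_sub, hwr] at hk
    rw [hk] at hpr
    exact (Nat.prime_dvd_prime_iff_eq hp hl).1 (hp.dvd_of_dvd_pow hpr)
  set K := (P : Subgroup (cen y)) ⊔ (Q : Subgroup (cen y)) with hK
  have : A.Normal := ⟨fun a ha g => by
    rwa [mem_center_iff.1 (hAc ha) g, mul_inv_cancel_right]⟩
  have hAidx : A.index = Nat.card P * Nat.card Q := by
    have h1 := Coprime.card_sup_of_disjoint (H := A) (N := K)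
      (by rw [Subgroup.normalizer_eq_top_iff.2 hn]; exact le_top) hinf
    rw [sup_comm, hsup, Subgroup.card_top, ← A.card_mul_index] at h1
    rw [← hPQ]
    exact Nat.eq_of_mul_eq_mul_left Nat.card_pos h1
  obtain ⟨a, ha⟩ := P.isPGroup'.exists_card_eq
  obtain ⟨b, hb⟩ := Q.isPGroup'.exists_card_eq
  have hprimes : ∀ p : ℕ, p.Prime → p ∣ A.index → p = l ∨ p = q := fun p hp h => by
    rw [hAidx, ha, hb] at h
    rcases hp.dvd_mul.1 h with h | h
    · exact Or.inl ((Nat.prime_dvd_prime_iff_eq hp hl).1 (hp.dvd_of_dvd_pow h))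
    · exact Or.inr ((Nat.prime_dvd_prime_iff_eq hp hqf.out).1 (hp.dvd_of_dvd_pow h))
  refine Or.inr ⟨q, fun p hp hpr => hprimes p hp (hpr.trans ?_), fun s u hs hsl hsq hu hus h hh => ?_⟩
  · rw [← hwr, relIndex]
    refine index_dvd_of_le fun a ha => mem_subgroupOf.2 (mem_cen.2 ?_)
    exact (congrArg Subtype.val (mem_center_iff.1 (hAc ha) w)).symm
  · obtain ⟨k, hk⟩ := hus
    have h1 : (⟨u, hu⟩ : cen y) ^ A.index ∈ A := Subgroup.pow_index_mem A _
    have hco : (orderOf (⟨u, hu⟩ : cen y)).Coprime A.index := by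
      refine (Nat.Coprime.pow_left k ?_).coprime_dvd_left
        (orderOf_dvd_of_pow_eq_one (Subtype.ext hk : (⟨u, hu⟩ : cen y) ^ s ^ k = 1))
      exact hs.coprime_iff_not_dvd.2 fun h => by
        rcases hprimes s hs h with e | e
        · exact hsl e
        · exact hsq e
    obtain ⟨m, hm⟩ := exists_pow_eq_self_of_coprime hco.symm
    have hA : (⟨u, hu⟩ : cen y) ∈ A := hm ▸ pow_mem h1 m
    exact (congrArg Subtype.val (mem_center_iff.1 (hAc hA) ⟨h, hh⟩)).symm

/-- The ratio is a power of one prime. -/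
theorem ratio_prime_power (hI : Incl G) :
    n₂ ∣ n₁ ∧ ∃ l₀ : ℕ, l₀.Prime ∧ (∀ p : ℕ, p.Prime → p ∣ n₁ / n₂ → p = l₀) ∧
      ∀ s : ℕ, s.Prime → s ≠ l₀ → n₁.factorization s = n₂.factorization s := by
  obtain ⟨x, y₁, hy₁, hxy₁⟩ := hI
  obtain ⟨hx, hy₁', hdvd⟩ := D.idx_of_lt hy₁ hxy₁
  set r := n₁ / n₂ with hr
  have hr0 : r * n₂ = n₁ := Nat.div_mul_cancel hdvd
  have hr1 : r ≠ 0 := fun h => by rw [h, zero_mul] at hr0; exact D.pos₁.ne hr0
  have hfac : ∀ s : ℕ, ¬ s ∣ r → n₁.factorization s = n₂.factorization s := fun s hs => by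
    rw [← hr0, Nat.factorization_mul hr1 D.pos₂.ne', Finsupp.add_apply,
      Nat.factorization_eq_zero_of_not_dvd hs, zero_add]
  refine ⟨hdvd, ?_⟩
  obtain ⟨l, e, hl, hyl, hy⟩ := exists_part hy₁
  set y := y₁ ^ e
  have heq : cen y₁ = cen y := eq_of_cen_le (cen_le_cen_pow y₁ e) (hy₁' ▸ D.idx_ge hy)
  have hxy : cen x < cen y := heq ▸ hxy₁
  have hy' : idx y = n₂ := by rw [idx, ← heq]; exact hy₁'
  suffices hone : ∃ l₀ : ℕ, l₀.Prime ∧ ∀ p : ℕ, p.Prime → p ∣ r → p = l₀ by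
    obtain ⟨l₀, h1, h2⟩ := hone
    exact ⟨l₀, h1, h2, fun s hs hsl => hfac s fun h => hsl (h2 s hs h)⟩
  rcases D.ratio_primes hl hy hyl hxy with h | ⟨q, hpq, hcent⟩
  · exact ⟨l, hl, h⟩
  by_contra hnone
  push Not at hnone
  obtain ⟨p₀, hp₀, hp₀r, hp₀l⟩ := hnone l hl
  have hp₀q : p₀ = q := (hpq p₀ hp₀ hp₀r).resolve_left hp₀l
  obtain ⟨p₁, hp₁, hp₁r, hp₁q⟩ := hnone p₀ hp₀
  have hp₁l : p₁ = l := (hpq p₁ hp₁ hp₁r).resolve_right (hp₀q ▸ hp₁q)
  obtain ⟨s, ⟨hs, u₀, hu₀, hu₀c⟩, hsl, hsq⟩ := D.exists_live hl hp₀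
  have hsr : ¬ s ∣ r := fun h => (hpq s hs h).elim hsl (hp₀q ▸ hsq)
  have hff : ff s (cen u₀) = ff s (cen y) := by
    refine ff_cen_eq ?_
    rcases D.sizes u₀ hu₀c with h | h <;> rw [h, hy']
    exact hfac s hsr
  obtain ⟨u, huy, hus, huc⟩ := exists_pel_of_ff_lt hs
    (hff ▸ ff_lt_of_pel hs (center_le_cen u₀) (mem_cen_self u₀) hu₀ hu₀c :
      ff s (center G) < ff s (cen y))
  have hle : cen y ≤ cen u := fun h hh => mem_cen.2 (hcent s u hs hsl (hp₀q ▸ hsq) huy hus h hh).symm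
  have hyu : cen y = cen u := eq_of_cen_le hle (hy' ▸ D.idx_ge huc)
  have hxu : cen x < cen u := hyu ▸ hxy
  rcases D.ratio_primes hs huc hus hxu with h | ⟨q', hq', -⟩
  · exact hsl ((h p₁ hp₁ hp₁r).symm.trans hp₁l)
  · have h1 : p₁ = q' := (hq' p₁ hp₁ hp₁r).resolve_left (fun e => hsl (e.symm.trans hp₁l))
    have h2 : p₀ = q' := (hq' p₀ hp₀ hp₀r).resolve_left (fun e => hsq e.symm)
    exact hp₁q (h1.trans h2.symm)

end Data

end CfsgLib.Ito
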