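import Cfsg.Agent.Lib.Struct77.Ito.Basic

/-!
The hypothesis of three class sizes, and elementary consequences.
-/

set_option autoImplicit false

namespace CfsgLib.Ito

open Subgroup CfsgLib.Structure81.CoprimeClass

universe u

variable {G : Type u} [Group G] [Finite G] {n₁ n₂ : ℕ}

/-- A non-solvable group with class sizes `1`, `n₂`, `n₁`. -/
structure Data (G : Type u) [Group G] (n₁ n₂ : ℕ) : Prop where
  lt : n₂ < n₁
  one_lt : 1 < n₂
  sizes : ∀ x : G, x ∉ center G → idx x = n₂ ∨ idx x = n₁
  ex₁ : ∃ x : G, x ∉ center G ∧ idx x = n₁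
  ex₂ : ∃ x : G, x ∉ center G ∧ idx x = n₂
  ns : ¬ Group.IsSolvable G

theorem eq_of_cen_le {x y : G} (hle : cen x ≤ cen y) (h : idx x ≤ idx y) : cen x = cen y := by
  refine eq_of_le_of_card_ge hle ?_
  have h1 := (cen x).card_mul_index
  have h2 := (cen y).card_mul_index
  by_contra hlt
  have : Nat.card (cen x) * (cen x).index < Nat.card (cen y) * (cen y).index :=
    Nat.mul_lt_mul_of_lt_of_le (not_le.1 hlt) h (Nat.pos_of_ne_zero index_ne_zero_of_finite)
  omega

theorem notMem_center_of_cen_le {x y : G} (hle : cen x ≤ cen y) (hy : y ∉ center G) :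
    x ∉ center G := fun h => hy (cen_eq_top_iff.1 (top_le_iff.1 ((cen_eq_top_iff.2 h).ge.trans hle)))

/-- The centralizer of a commuting product of coprime orders. -/
theorem cen_mul_le_left {a w : G} (hc : Commute a w) (hco : (orderOf a).Coprime (orderOf w)) :
    cen (a * w) ≤ cen a := (cen_mul hc hco).le.trans inf_le_left

theorem mul_notMem_center {a w : G} (ha : a ∉ center G) (hc : Commute a w)
    (hco : (orderOf a).Coprime (orderOf w)) : a * w ∉ center G :=
  notMem_center_of_cen_le (cen_mul_le_left hc hco) ha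

theorem rel_mul_idx {a w : G} (hc : Commute a w) (hco : (orderOf a).Coprime (orderOf w)) :
    (cen w).relIndex (cen a) * idx a = idx (a * w) := by
  rw [idx, idx, cen_mul hc hco, ← inf_relIndex_right (cen w) (cen a), inf_comm (cen a)]
  exact relIndex_mul_index inf_le_right

namespace Data

variable (D : Data G n₁ n₂)
include D

theorem idx_ge {x : G} (hx : x ∉ center G) : n₂ ≤ idx x := by
  rcases D.sizes x hx with h | h <;> rw [h]
  exact D.lt.le

theorem idx_le {x : G} (hx : x ∉ center G) : idx x ≤ n₁ := by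
  rcases D.sizes x hx with h | h <;> rw [h]
  exact D.lt.le

theorem pos₂ : 0 < n₂ := lt_trans Nat.zero_lt_one D.one_lt

theorem pos₁ : 0 < n₁ := lt_trans D.pos₂ D.lt

/-- A live prime different from two given primes. -/
theorem exists_live {a b : ℕ} (ha : a.Prime) (hb : b.Prime) : ∃ s, Live G s ∧ s ≠ a ∧ s ≠ b :=
  exists_live_ne D.ns ha hb

/-- Centralizers of commuting elements of coprime order. -/
theorem rel_cases {a w : G} (ha : a ∉ center G) (hc : Commute a w)
    (hco : (orderOf a).Coprime (orderOf w)) :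
    (cen w).relIndex (cen a) = 1 ∨
      (idx a = n₂ ∧ idx (a * w) = n₁ ∧ (cen w).relIndex (cen a) = n₁ / n₂) := by
  have h := rel_mul_idx hc hco
  have h1 := D.pos₂
  have hpos : 0 < idx a := Nat.pos_of_ne_zero index_ne_zero_of_finite
  rcases D.sizes a ha with ha' | ha' <;>
    rcases D.sizes _ (mul_notMem_center ha hc hco) with hw | hw <;> rw [ha', hw] at h
  · exact Or.inl (Nat.eq_of_mul_eq_mul_right h1 (by rw [h, one_mul]))
  · exact Or.inr ⟨ha', hw, (Nat.div_eq_of_eq_mul_left h1 h.symm).symm⟩
  · exfalso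
    have : 0 < (cen w).relIndex (cen a) :=
      Nat.pos_of_ne_zero fun h0 => by rw [h0, zero_mul] at h; omega
    have := Nat.le_mul_of_pos_left n₁ this
    have := D.lt
    omega
  · exact Or.inl (Nat.eq_of_mul_eq_mul_right D.pos₁ (by rw [h, one_mul]))

end Data

end CfsgLib.Ito
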